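import Cfsg.Agent.Lib.ClassNumber.Generators

/-!
Isometries with given kernel dimensions: at most `2 ^ e` types, where `e` counts the special blocks,
and the symmetries of the kernel dimensions.
-/

set_option autoImplicit false

namespace Cfsg.Agent.Lib.ClassNumber

open Polynomial Module

universe u v

variable {F : Type v} [Field F]

/-- A bundled finite-dimensional space with form and isometry. -/
structure Trip (θ : F →+* F) (η : F) : Type (max (u + 1) v) where
  V : Type u
  [acg : AddCommGroup V]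
  [mdl : Module F V]
  [fin : FiniteDimensional F V]
  form : IForm θ η V

attribute [instance] Trip.acg Trip.mdl Trip.fin

open Classical in
/-- Kernel dimensions predicted by a multiset of blocks. -/
noncomputable def kdim (μ : Multiset (F[X] × ℕ)) (p : F[X]) (k : ℕ) : ℕ :=
  (μ.map fun x => if x.1 = p then p.natDegree * min k x.2 else 0).sum

theorem kdim_add (μ ν : Multiset (F[X] × ℕ)) (p : F[X]) (k : ℕ) :
    kdim (μ + ν) p k = kdim μ p k + kdim ν p k := by
  rw [kdim, Multiset.map_add, Multiset.sum_add]; rfl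

/-- The admissible blocks. -/
def Good (μ : Multiset (F[X] × ℕ)) : Prop :=
  ∀ x ∈ μ, Irreducible x.1 ∧ x.1.Monic ∧ x.1.coeff 0 ≠ 0 ∧ 1 ≤ x.2

variable {θ : F →+* F} {η : F}

/-- The isometry has the kernel dimensions of the blocks `μ`. -/
def Typed {V : Type u} [AddCommGroup V] [Module F V] (T : IForm θ η V) (μ : Multiset (F[X] × ℕ)) : Prop :=
  ∀ p : F[X], Irreducible p → p.Monic → ∀ k, finrank F (LinearMap.ker (T.op (p ^ k))) = kdim μ p k

theorem kdim_top {μ : Multiset (F[X] × ℕ)} {j : ℕ} (h : ∀ x ∈ μ, x.2 ≤ j) (p : F[X]) {k : ℕ}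
    (hk : j ≤ k) : kdim μ p k = kdim μ p j := by
  unfold kdim
  refine congrArg _ (Multiset.map_congr rfl fun x hx => ?_)
  rw [min_eq_right (h x hx), min_eq_right ((h x hx).trans hk)]

open Classical in
theorem kdim_jump {μ : Multiset (F[X] × ℕ)} {j : ℕ} (hj : 1 ≤ j) (h : ∀ x ∈ μ, x.2 ≤ j) (p : F[X]) :
    kdim μ p j = kdim μ p (j - 1) + p.natDegree * μ.count (p, j) := by
  induction μ using Multiset.induction with
  | empty => simp [kdim]
  | cons a μ ih =>
    have h1 := ih fun x hx => h x (Multiset.mem_cons_of_mem hx)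
    have ha := h a (Multiset.mem_cons_self a μ)
    simp only [kdim, Multiset.map_cons, Multiset.sum_cons, Multiset.count_cons] at h1 ⊢
    rw [h1, mul_add]
    by_cases hp : a.1 = p
    · rw [if_pos hp, if_pos hp]
      by_cases h2 : a.2 = j
      · rw [if_pos (Prod.ext hp.symm h2.symm), h2, min_self, min_eq_left (Nat.sub_le _ _)]
        have : p.natDegree * j = p.natDegree * (j - 1) + p.natDegree * 1 := by
          rw [← mul_add, Nat.sub_add_cancel hj]
        omega
      · rw [if_neg (fun e => h2 (congrArg Prod.snd e).symm), min_eq_right ha, min_eq_right (by omega)]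
        omega
    · rw [if_neg hp, if_neg hp, if_neg (fun e => hp (congrArg Prod.fst e).symm)]
      omega

open Classical in
/-- The number of types allowed for a multiset of blocks. -/
noncomputable def weight (θ : F →+* F) (η : F) (μ : Multiset (F[X] × ℕ)) : ℕ :=
  2 ^ (μ.toFinset.filter (Spec θ η)).card

section Basic

variable {V : Type u} [AddCommGroup V] [Module F V] [FiniteDimensional F V] {T : IForm θ η V}

omit [FiniteDimensional F V] in
theorem equiv_refl (T : IForm θ η V) : IForm.Equiv' T T :=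
  ⟨LinearEquiv.refl F V, fun _ _ => rfl, fun _ => rfl⟩

theorem equiv_trans {W U : Type u} [AddCommGroup W] [Module F W] [AddCommGroup U] [Module F U]
    {S : IForm θ η W} {R : IForm θ η U} (h1 : IForm.Equiv' T S) (h2 : IForm.Equiv' S R) :
    IForm.Equiv' T R := by
  obtain ⟨e, he, heA⟩ := h1
  obtain ⟨f, hf, hfA⟩ := h2
  exact ⟨e.trans f, fun x y => (hf _ _).trans (he x y), fun x => by
    show f (e (T.A x)) = R.A (f (e x)); rw [heA, hfA]⟩

theorem bounded_of_typed {μ : Multiset (F[X] × ℕ)} (hT : Typed T μ) {j : ℕ} (hj : ∀ x ∈ μ, x.2 ≤ j) :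
    Bounded T j := by
  intro p hp hpm x hx
  have h : LinearMap.ker (T.op (p ^ j)) = LinearMap.ker (T.op (p ^ (j + j))) := by
    refine Submodule.eq_of_le_of_finrank_eq (fun y hy => ?_) ?_
    · exact T.op_eq_zero_of_dvd (pow_dvd_pow _ (Nat.le_add_right _ _)) hy
    · rw [hT p hp hpm, hT p hp hpm, kdim_top hj p (k := j + j) (Nat.le_add_right _ _)]
  rw [← pow_add] at hx
  have : x ∈ LinearMap.ker (T.op (p ^ (j + j))) := hx
  rw [← h] at this
  exact this

theorem exists_top_vector {μ : Multiset (F[X] × ℕ)} (hg : Good μ) (hT : Typed T μ) {r : F[X]} {j : ℕ}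
    (hmem : (r, j) ∈ μ) (hj : ∀ x ∈ μ, x.2 ≤ j) :
    ∃ x, T.op (r ^ j) x = 0 ∧ T.op (r ^ (j - 1)) x ≠ 0 := by
  classical
  obtain ⟨hi, hm, -, hj1⟩ := hg _ hmem
  by_contra h
  simp only [not_exists, not_and, not_not] at h
  have h1 := Submodule.finrank_mono (s := LinearMap.ker (T.op (r ^ j)))
    (t := LinearMap.ker (T.op (r ^ (j - 1)))) (fun x hx => h x hx)
  rw [hT r hi hm, hT r hi hm, kdim_jump (j := j) hj1 hj] at h1
  have h2 : 0 < r.natDegree * μ.count (r, j) :=
    Nat.mul_pos hi.natDegree_pos (Multiset.count_pos.2 hmem)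
  omega

theorem subsingleton_of_typed_zero (hT : Typed T (0 : Multiset (F[X] × ℕ))) : ∀ x : V, x = 0 := by
  classical
  have hinj : ∀ p : F[X], Irreducible p → p.Monic → ∀ x, T.op p x = 0 → x = 0 := by
    intro p hp hpm x hx
    have h := hT p hp hpm 1
    rw [pow_one, kdim, Multiset.map_zero, Multiset.sum_zero, Submodule.finrank_eq_zero] at h
    have : x ∈ LinearMap.ker (T.op p) := hx
    rwa [h, Submodule.mem_bot] at this
  have hprod : ∀ s : Multiset F[X], (∀ p ∈ s, Irreducible p ∧ p.Monic) → ∀ x, T.op s.prod x = 0 → x = 0 := by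
    intro s
    induction s using Multiset.induction with
    | empty => intro _ x hx; rwa [Multiset.prod_zero, T.op_one_apply] at hx
    | cons a s ih =>
      intro hs x hx
      rw [Multiset.prod_cons, T.op_mul_apply] at hx
      exact ih (fun p hp => hs p (Multiset.mem_cons_of_mem hp)) x
        (hinj a (hs a (Multiset.mem_cons_self a s)).1 (hs a (Multiset.mem_cons_self a s)).2 _ hx)
  intro x
  set χ := T.A.toLinearMap.charpoly
  have hχ : χ.Monic := LinearMap.charpoly_monic _
  refine hprod (UniqueFactorizationMonoid.normalizedFactors χ) (fun p hp => ?_) x ?_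
  · exact ⟨UniqueFactorizationMonoid.irreducible_of_normalized_factor p hp,
      (UniqueFactorizationMonoid.normalize_normalized_factor p hp) ▸
        Polynomial.monic_normalize (UniqueFactorizationMonoid.irreducible_of_normalized_factor p hp).ne_zero⟩
  · refine T.op_eq_zero_of_dvd (UniqueFactorizationMonoid.prod_normalizedFactors hχ.ne_zero).symm.dvd ?_
    show aeval T.A.toLinearMap χ x = 0
    rw [LinearMap.aeval_self_charpoly]; rfl

/-- The complement of a piece, as a bundled space. -/
noncomputable def restTrip {ι : Type} [Fintype ι] {D : PData θ ι} {v : ι → V} (h : D.Gens T v) :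
    Trip.{u} θ η :=
  { V := T.orth (PData.sub T v)
    form := T.restrict _ (T.orth_invariant (PData.sub_invariant v)) (T.orth_nd (PData.sub_nd h)) }

/-- The blocks of a piece. -/
noncomputable def pieceBlocks {ι : Type} [Fintype ι] (D : PData θ ι) : Multiset (F[X] × ℕ) :=
  Finset.univ.val.map fun i => (D.r i, D.j)

open Classical in
theorem split {μ : Multiset (F[X] × ℕ)} (hT : Typed T μ) {ι : Type} [Fintype ι]
    {D : PData θ ι} (hj : ∀ x ∈ μ, x.2 ≤ D.j) {v : ι → V} (h : D.Gens T v) :
    pieceBlocks D ≤ μ ∧ Typed (restTrip h).form (μ - pieceBlocks D) := by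
  have hpiece : ∀ p : F[X], Irreducible p → p.Monic → ∀ k,
      finrank F (LinearMap.ker ((PData.pieceForm h).op (p ^ k))) = kdim (pieceBlocks D) p k := by
    intro p hp hpm k
    rw [PData.finrank_ker_piece h hp hpm k, kdim, pieceBlocks, Multiset.map_map, ← Finset.sum]
    refine Finset.sum_congr rfl fun i _ => ?_
    simp only [Function.comp_apply]
    split_ifs with hi
    · rw [hi]
    · rfl
  have hadd : ∀ p : F[X], Irreducible p → p.Monic → ∀ k,
      kdim μ p k = kdim (pieceBlocks D) p k + finrank F (LinearMap.ker ((restTrip h).form.op (p ^ k))) := by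
    intro p hp hpm k
    rw [← hT p hp hpm, T.finrank_ker_add (PData.sub_invariant v) (PData.sub_nd h), ← hpiece p hp hpm]
    rfl
  have hle : pieceBlocks D ≤ μ := by
    rw [Multiset.le_iff_count]
    rintro ⟨p, J⟩
    rcases Nat.eq_zero_or_pos ((pieceBlocks D).count (p, J)) with h0 | hpos
    · omega
    obtain ⟨i, -, hi⟩ := Multiset.mem_map.1 (Multiset.count_pos.1 hpos)
    obtain ⟨rfl, rfl⟩ := Prod.mk.inj hi
    have hmax : ∀ x ∈ pieceBlocks D, x.2 ≤ D.j := by
      intro x hx
      obtain ⟨i', -, rfl⟩ := Multiset.mem_map.1 hx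
      exact le_rfl
    have e1 := hadd _ (D.r_irr i) (D.r_monic i) D.j
    have e2 := hadd _ (D.r_irr i) (D.r_monic i) (D.j - 1)
    have hmono : finrank F (LinearMap.ker ((restTrip h).form.op (D.r i ^ (D.j - 1)))) ≤
        finrank F (LinearMap.ker ((restTrip h).form.op (D.r i ^ D.j))) :=
      Submodule.finrank_mono fun x hx =>
        (restTrip h).form.op_eq_zero_of_dvd (pow_dvd_pow _ (Nat.sub_le _ _)) hx
    rw [kdim_jump D.hj hj, kdim_jump D.hj hmax] at e1
    exact Nat.le_of_mul_le_mul_left (by omega) (D.r_irr i).natDegree_pos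
  refine ⟨hle, fun p hp hpm k => ?_⟩
  have e := hadd p hp hpm k
  conv_lhs at e => rw [← Multiset.add_sub_cancel hle, kdim_add]
  omega

end Basic

theorem good_sub {μ ν : Multiset (F[X] × ℕ)} [DecidableEq (F[X] × ℕ)] (hg : Good μ) : Good (μ - ν) :=
  fun x hx => hg x (Multiset.mem_of_le (Multiset.sub_le_self μ ν) hx)

/-- The case in which a single cyclic block is split off. -/
def Cyclic (θ : F →+* F) (η : F) (x : F[X] × ℕ) : Prop :=
  srp θ x.1 = x.1 ∧ (Lin θ x.1 → Spec θ η x)

theorem case_bool {x : F[X] × ℕ} (h : ¬ Cyclic θ η x) :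
    srp θ x.1 ≠ x.1 ∨ (Lin θ x.1 ∧ ¬ Spec θ η x) := by
  by_cases hs : srp θ x.1 = x.1
  · refine Or.inr ?_
    by_contra h'
    exact h ⟨hs, fun hl => by_contra fun hsp => h' ⟨hl, hsp⟩⟩
  · exact Or.inl hs

section Choose

variable {V : Type u} [AddCommGroup V] [Module F V] [FiniteDimensional F V] {T : IForm θ η V}

theorem gens_cyclic (hz : ∃ z : F, z + θ z = 1) {μ : Multiset (F[X] × ℕ)} (hg : Good μ) (hT : Typed T μ)
    {r : F[X]} {j : ℕ} (hmem : (r, j) ∈ μ) (hmax : ∀ x ∈ μ, x.2 ≤ j) (D : PData θ Unit) (hDj : D.j = j)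
    (hDr : D.r () = r) (hDf : D.f = r) (hc : Cyclic θ η (r, j)) : ∃ v, D.Gens T v := by
  obtain ⟨y, hy, hy'⟩ := exists_top_vector hg hT hmem hmax
  subst hDr
  exact exists_gens_unit (bounded_of_typed hT hmax) hz D hDj hDf hc.2 hy hy'

theorem gens_pair {μ : Multiset (F[X] × ℕ)} (hg : Good μ) (hT : Typed T μ)
    {r : F[X]} {j : ℕ} (hmem : (r, j) ∈ μ) (hmax : ∀ x ∈ μ, x.2 ≤ j) (D : PData θ Bool) (hDj : D.j = j)
    (hπ : D.π = not) (h1 : D.r false = r) (h2 : D.r true = srp θ r) (hf1 : srp θ r = r → D.f = r)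
    (hf2 : srp θ r ≠ r → D.f = r * srp θ r) (hc : ¬ Cyclic θ η (r, j)) : ∃ v, D.Gens T v := by
  obtain ⟨y, hy, hy'⟩ := exists_top_vector hg hT hmem hmax
  subst h1
  refine exists_gens_bool (bounded_of_typed hT hmax) D hDj hπ hy hy' h2 ?_
  rcases case_bool hc with h | ⟨hl, hs⟩
  · exact Or.inl ⟨h, hf2 h⟩
  · exact Or.inr ⟨hl, hs, hf1 hl.srp_eq⟩

theorem gens_square [Finite F] (hz : ∃ z : F, z + θ z = 1) {μ : Multiset (F[X] × ℕ)} (hg : Good μ)
    (hT : Typed T μ) {r : F[X]} {j : ℕ} [DecidableEq (F[X] × ℕ)] (hcount : 2 ≤ μ.count (r, j))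
    (hmax : ∀ x ∈ μ, x.2 ≤ j) (D : PData θ Unit) (hDj : D.j = j)
    (hDr : D.r () = r) (hDf : D.f = r) (hs : Spec θ η (r, j)) :
    ∃ v, D.Gens T v ∧ IsSquare (D.top T v () () 1) := by
  classical
  subst hDr
  obtain ⟨hi, hm, -, hj⟩ := hg (D.r (), j) (Multiset.count_pos.1 (by omega))
  refine exists_gens_square (bounded_of_typed hT hmax) hz D hDj hDf hs ?_
  rw [hT _ hi hm, hT _ hi hm, kdim_jump hj hmax]
  have : 2 ≤ (D.r ()).natDegree * μ.count (D.r (), j) :=
    hcount.trans (Nat.le_mul_of_pos_left _ hi.natDegree_pos)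
  convert Nat.add_le_add_left this _

end Choose

/-- Gluing: equal tops and equivalent complements give equivalent spaces. -/
theorem equiv_glue {ι : Type} [Fintype ι] {D : PData θ ι} (hz : ∃ z : F, z + θ z = 1)
    {T S : Trip.{u} θ η} {v : ι → T.V} {w : ι → S.V} (h : D.Gens T.form v) (h' : D.Gens S.form w)
    (hu : ∃ u : ι → F[X], D.Gens S.form (fun i => S.form.op (u i) (w i)) ∧
      ∀ k i p, D.top T.form v k i p = D.top S.form (fun i => S.form.op (u i) (w i)) k i p)
    (hrest : IForm.Equiv' (restTrip h).form (restTrip h').form) : IForm.Equiv' T.form S.form := by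
  obtain ⟨z, hz⟩ := hz
  obtain ⟨u, hu', htop⟩ := hu
  have h2 := PData.piece_unique hz h hu' htop
  refine IForm.equiv_of_parts T.form (PData.sub_invariant v) (PData.sub_nd h)
    (PData.sub_invariant (T := S.form) (fun i => S.form.op (u i) (w i))) (PData.sub_nd hu') h2 ?_
  have key : ∀ (U U' : Submodule F S.V), U = U' → ∀ (a : ∀ x ∈ U, S.form.A x ∈ U)
      (b : ∀ y ∈ U, (∀ x ∈ U, S.form.B x y = 0) → y = 0) (a' : ∀ x ∈ U', S.form.A x ∈ U')
      (b' : ∀ y ∈ U', (∀ x ∈ U', S.form.B x y = 0) → y = 0),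
      IForm.Equiv' (S.form.restrict U a b) (S.form.restrict U' a' b') := by
    rintro U U' rfl a b a' b'
    exact equiv_refl _
  exact equiv_trans hrest (key (S.form.orth (PData.sub S.form w)) _
    (congrArg S.form.orth (sub_eq_of_gens h' hu').symm)
    (S.form.orth_invariant (PData.sub_invariant w)) (S.form.orth_nd (PData.sub_nd h'))
    (S.form.orth_invariant (PData.sub_invariant (T := S.form) (fun i => S.form.op (u i) (w i))))
    (S.form.orth_nd (PData.sub_nd hu')))

open Classical in
theorem weight_mono {μ ν : Multiset (F[X] × ℕ)} (h : ν ≤ μ) : weight θ η ν ≤ weight θ η μ :=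
  Nat.pow_le_pow_right (by norm_num) (Finset.card_le_card (Finset.filter_subset_filter _
    (Multiset.toFinset_subset.2 (Multiset.subset_of_le h))))

open Classical in
theorem weight_step {μ : Multiset (F[X] × ℕ)} {x : F[X] × ℕ} (hx : μ.count x = 1) (hs : Spec θ η x) :
    2 * weight θ η (μ - {x}) = weight θ η μ := by
  rw [weight, weight, ← pow_succ']
  congr 1
  have hmem : x ∈ μ := Multiset.count_pos.1 (by omega)
  have hnot : x ∉ μ - {x} := by
    rw [← Multiset.count_eq_zero, Multiset.count_sub, Multiset.count_singleton_self, hx]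
  rw [← Finset.card_insert_of_notMem (a := x) (s := (μ - {x}).toFinset.filter (Spec θ η))
    (fun h => hnot (Multiset.mem_toFinset.1 (Finset.mem_filter.1 h).1))]
  congr 1
  ext y
  simp only [Finset.mem_insert, Finset.mem_filter, Multiset.mem_toFinset]
  constructor
  · rintro (rfl | ⟨h1, h2⟩)
    · exact ⟨hmem, hs⟩
    · exact ⟨Multiset.mem_of_le (Multiset.sub_le_self _ _) h1, h2⟩
  · rintro ⟨h1, h2⟩
    by_cases hy : y = x
    · exact Or.inl hy
    · refine Or.inr ⟨?_, h2⟩
      rw [← Multiset.count_pos, Multiset.count_sub, Multiset.count_singleton, if_neg hy, Nat.sub_zero]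
      exact Multiset.count_pos.2 h1

open Classical in
theorem exists_label [Finite F] (hθ : ∀ a, θ (θ a) = a) (hz : ∃ z : F, z + θ z = 1) :
    ∀ μ : Multiset (F[X] × ℕ), Good μ → ∃ (α : Type) (_ : Fintype α), Fintype.card α ≤ weight θ η μ ∧
      ∃ L : Trip.{u} θ η → α, ∀ T S : Trip.{u} θ η, Typed T.form μ → Typed S.form μ → L T = L S →
        IForm.Equiv' T.form S.form := by
  intro μ
  induction hn : Multiset.card μ using Nat.strong_induction_on generalizing μ with
  | _ n ih =>
  intro hg
  rcases Multiset.empty_or_exists_mem μ with rfl | ⟨x₀, hx₀⟩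
  · refine ⟨Unit, inferInstance, Nat.one_le_two_pow, fun _ => (), fun T S hT hS _ => ?_⟩
    have h1 := subsingleton_of_typed_zero hT
    have h2 := subsingleton_of_typed_zero hS
    refine ⟨{ toFun := fun _ => 0
              map_add' := fun _ _ => (add_zero (0 : S.V)).symm
              map_smul' := fun c _ => (smul_zero c).symm
              invFun := fun _ => 0
              left_inv := fun x => (h1 x).symm
              right_inv := fun x => (h2 x).symm }, fun x y => ?_, fun x => (h2 _).trans (h2 _).symm⟩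
    rw [h1 x, T.form.zero_left]
    exact S.form.zero_left _
  obtain ⟨⟨r, j⟩, hmem, hmax⟩ := Multiset.exists_max_image (fun x : F[X] × ℕ => x.2) (s := μ)
    (fun h => by rw [h] at hx₀; exact Multiset.notMem_zero _ hx₀)
  replace hmax : ∀ x ∈ μ, x.2 ≤ j := hmax
  obtain ⟨hi, hm, h0, hj⟩ := hg _ hmem
  obtain ⟨hU, hB⟩ := exists_pdata hθ hi hm h0 hj
  by_cases hc : Cyclic θ η (r, j)
  · obtain ⟨D, hDj, hDr, hDf⟩ := hU hc.1
    have hpb : pieceBlocks D = {(r, j)} := by
      simp [pieceBlocks, hDr, hDj]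
    have hlt : Multiset.card (μ - {(r, j)}) < n := by
      rw [← hn, Multiset.card_sub (Multiset.singleton_le.2 hmem), Multiset.card_singleton]
      have := Multiset.card_pos_iff_exists_mem.2 ⟨_, hmem⟩
      omega
    obtain ⟨α, _, hα, L, hL⟩ := ih _ hlt (μ - {(r, j)}) rfl (good_sub hg)
    by_cases hsp : Spec θ η (r, j)
    · by_cases hcount : μ.count (r, j) = 1
      · refine ⟨Bool × α, inferInstance, ?_, fun T => if h : Typed T.form μ then
            (decide (IsSquare (D.top T.form (gens_cyclic hz hg h hmem hmax D hDj hDr hDf hc).choose () () 1)),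
              L (restTrip (gens_cyclic hz hg h hmem hmax D hDj hDr hDf hc).choose_spec))
            else (true, L T), fun T S hT hS hTS => ?_⟩
        · rw [Fintype.card_prod, Fintype.card_bool, ← weight_step hcount hsp]
          exact Nat.mul_le_mul_left 2 hα
        · simp only [dif_pos hT, dif_pos hS] at hTS
          obtain ⟨h1, h2⟩ := Prod.mk.inj hTS
          have hv := (gens_cyclic hz hg hT hmem hmax D hDj hDr hDf hc).choose_spec
          have hw := (gens_cyclic hz hg hS hmem hmax D hDj hDr hDf hc).choose_spec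
          refine equiv_glue hz hv hw (match_unit_spec hv hw (by rw [hDr]; exact hsp.1)
            (by rw [hDr]; exact hDf) (decide_eq_decide.1 h1)) (hL _ _ ?_ ?_ h2)
          · rw [← hpb]; exact (split hT (by rw [hDj]; exact hmax) hv).2
          · rw [← hpb]; exact (split hS (by rw [hDj]; exact hmax) hw).2
      · have h2c : 2 ≤ μ.count (r, j) := by
          have := Multiset.count_pos.2 hmem
          omega
        refine ⟨α, inferInstance, hα.trans (weight_mono (Multiset.sub_le_self _ _)), fun T =>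
          if h : Typed T.form μ then
            L (restTrip (gens_square hz hg h h2c hmax D hDj hDr hDf hsp).choose_spec.1) else L T,
          fun T S hT hS hTS => ?_⟩
        simp only [dif_pos hT, dif_pos hS] at hTS
        obtain ⟨hv, hv1⟩ := (gens_square hz hg hT h2c hmax D hDj hDr hDf hsp).choose_spec
        obtain ⟨hw, hw1⟩ := (gens_square hz hg hS h2c hmax D hDj hDr hDf hsp).choose_spec
        refine equiv_glue hz hv hw (match_unit_spec hv hw (by rw [hDr]; exact hsp.1)
          (by rw [hDr]; exact hDf) (iff_of_true hv1 hw1)) (hL _ _ ?_ ?_ hTS)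
        · rw [← hpb]; exact (split hT (by rw [hDj]; exact hmax) hv).2
        · rw [← hpb]; exact (split hS (by rw [hDj]; exact hmax) hw).2
    · refine ⟨α, inferInstance, hα.trans (weight_mono (Multiset.sub_le_self _ _)), fun T =>
        if h : Typed T.form μ then
          L (restTrip (gens_cyclic hz hg h hmem hmax D hDj hDr hDf hc).choose_spec) else L T,
        fun T S hT hS hTS => ?_⟩
      simp only [dif_pos hT, dif_pos hS] at hTS
      have hv := (gens_cyclic hz hg hT hmem hmax D hDj hDr hDf hc).choose_spec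
      have hw := (gens_cyclic hz hg hS hmem hmax D hDj hDr hDf hc).choose_spec
      refine equiv_glue hz hv hw
        (match_unit_norm hv hw (fun hl => hsp (hc.2 (hDr ▸ hl)))) (hL _ _ ?_ ?_ hTS)
      · rw [← hpb]; exact (split hT (by rw [hDj]; exact hmax) hv).2
      · rw [← hpb]; exact (split hS (by rw [hDj]; exact hmax) hw).2
  · obtain ⟨D, hDj, hπ, h1, h2, hf1, hf2⟩ := hB
    have hmem' : (r, j) ∈ pieceBlocks D :=
      Multiset.mem_map.2 ⟨false, (Finset.mem_univ false : (false : Bool) ∈ (Finset.univ : Finset Bool)), by rw [h1, hDj]⟩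
    have hlt : Multiset.card (μ - pieceBlocks D) < n := by
      rw [← hn]
      refine Multiset.card_lt_card (lt_of_le_of_ne (Multiset.sub_le_self _ _) fun e => ?_)
      have := congrArg (Multiset.count (r, j)) e
      rw [Multiset.count_sub] at this
      have := Multiset.count_pos.2 hmem
      have := Multiset.count_pos.2 hmem'
      omega
    obtain ⟨α, _, hα, L, hL⟩ := ih _ hlt (μ - pieceBlocks D) rfl (good_sub hg)
    refine ⟨α, inferInstance, hα.trans (weight_mono (Multiset.sub_le_self _ _)), fun T =>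
      if h : Typed T.form μ then
        L (restTrip (gens_pair hg h hmem hmax D hDj hπ h1 h2 hf1 hf2 hc).choose_spec) else L T,
      fun T S hT hS hTS => ?_⟩
    simp only [dif_pos hT, dif_pos hS] at hTS
    have hv := (gens_pair hg hT hmem hmax D hDj hπ h1 h2 hf1 hf2 hc).choose_spec
    have hw := (gens_pair hg hS hmem hmax D hDj hπ h1 h2 hf1 hf2 hc).choose_spec
    exact equiv_glue hz hv hw (match_bool hπ hv hw)
      (hL _ _ (split hT (by rw [hDj]; exact hmax) hv).2 (split hS (by rw [hDj]; exact hmax) hw).2 hTS)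

open Classical in
/-- The blocks of an isometry are stable under `srp`, and non-special linear blocks pair up. -/
theorem blocks_symm (hθ : ∀ a, θ (θ a) = a) (hz : ∃ z : F, z + θ z = 1) :
    ∀ μ : Multiset (F[X] × ℕ), Good μ → ∀ T : Trip.{u} θ η, Typed T.form μ →
      (∀ x ∈ μ, μ.count (srp θ x.1, x.2) = μ.count x) ∧
      ∀ x ∈ μ, Lin θ x.1 → ¬ Spec θ η x → Even (μ.count x) := by
  intro μ
  induction hn : Multiset.card μ using Nat.strong_induction_on generalizing μ with
  | _ n ih =>
  intro hg T hT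
  rcases Multiset.empty_or_exists_mem μ with rfl | ⟨x₀, hx₀⟩
  · simp
  obtain ⟨⟨r, j⟩, hmem, hmax⟩ := Multiset.exists_max_image (fun x : F[X] × ℕ => x.2) (s := μ)
    (fun h => by rw [h] at hx₀; exact Multiset.notMem_zero _ hx₀)
  replace hmax : ∀ x ∈ μ, x.2 ≤ j := hmax
  obtain ⟨hi, hm, h0, hj⟩ := hg _ hmem
  obtain ⟨hU, hB⟩ := exists_pdata hθ hi hm h0 hj
  obtain ⟨ν, hνle, hνmem, R, hR, hs1, hs2⟩ : ∃ ν, ν ≤ μ ∧ (r, j) ∈ ν ∧
      ∃ R : Trip.{u} θ η, Typed R.form (μ - ν) ∧
        (∀ x : F[X] × ℕ, x.1.Monic → x.1.coeff 0 ≠ 0 → ν.count (srp θ x.1, x.2) = ν.count x) ∧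
        (∀ x : F[X] × ℕ, Lin θ x.1 → ¬ Spec θ η x → Even (ν.count x)) := by
    by_cases hc : Cyclic θ η (r, j)
    · obtain ⟨D, hDj, hDr, hDf⟩ := hU hc.1
      have hpb : pieceBlocks D = {(r, j)} := by
        simp [pieceBlocks, hDr, hDj]
      obtain ⟨v, hv⟩ := gens_cyclic hz hg hT hmem hmax D hDj hDr hDf hc
      have hsp := split hT (by rw [hDj]; exact hmax) hv
      rw [hpb] at hsp
      refine ⟨{(r, j)}, hsp.1, Multiset.mem_singleton_self _, restTrip hv, hsp.2, ?_, ?_⟩
      · rintro ⟨p, J⟩ hpm hp0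
        rw [Multiset.count_singleton, Multiset.count_singleton]
        refine if_congr ⟨fun e => ?_, fun e => ?_⟩ rfl rfl
        · obtain ⟨e1, rfl⟩ := Prod.mk.inj e
          dsimp only at e1 hpm hp0 ⊢
          rw [← srp_srp hθ hpm hp0, e1, hc.1]
        · obtain ⟨rfl, rfl⟩ := Prod.mk.inj e
          rw [hc.1]
      · intro x hl hns
        rw [Multiset.count_singleton, if_neg]
        · exact Even.zero
        · rintro rfl
          exact hns (hc.2 hl)
    · obtain ⟨D, hDj, hπ, h1, h2, hf1, hf2⟩ := hB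
      obtain ⟨v, hv⟩ := gens_pair hg hT hmem hmax D hDj hπ h1 h2 hf1 hf2 hc
      have hsp := split hT (by rw [hDj]; exact hmax) hv
      have hcnt : ∀ x : F[X] × ℕ, (pieceBlocks D).count x =
          (if x = (r, j) then 1 else 0) + (if x = (srp θ r, j) then 1 else 0) := by
        intro x
        rw [pieceBlocks, Fintype.univ_bool]
        simp [h1, h2, hDj, Multiset.count_cons, Multiset.count_singleton]
      refine ⟨pieceBlocks D, hsp.1, Multiset.mem_map.2 ⟨false, (Finset.mem_univ false : (false : Bool) ∈ (Finset.univ : Finset Bool)), by rw [h1, hDj]⟩,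
        restTrip hv, hsp.2, ?_, ?_⟩
      · rintro ⟨p, J⟩ hpm hp0
        dsimp only at hpm hp0 ⊢
        rw [hcnt, hcnt, add_comm]
        congr 1 <;> refine if_congr ⟨fun e => ?_, fun e => ?_⟩ rfl rfl
        · obtain ⟨e1, rfl⟩ := Prod.mk.inj e
          rw [← srp_srp hθ hpm hp0, e1, srp_srp hθ hm h0]
        · obtain ⟨rfl, rfl⟩ := Prod.mk.inj e; rfl
        · obtain ⟨e1, rfl⟩ := Prod.mk.inj e
          rw [← srp_srp hθ hpm hp0, e1]
        · obtain ⟨rfl, rfl⟩ := Prod.mk.inj e
          rw [srp_srp hθ hm h0]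
      · rintro ⟨p, J⟩ hl hns
        rw [hcnt]
        have hps : srp θ p = p := Lin.srp_eq hl
        have : (p, J) = (srp θ r, j) ↔ (p, J) = (r, j) := by
          constructor <;> rintro e <;> obtain ⟨rfl, rfl⟩ := Prod.mk.inj e
          · rw [srp_srp hθ hm h0] at hps
            rw [← hps]
          · rw [hps]
        simp only [this]
        exact ⟨_, rfl⟩
  have hlt : Multiset.card (μ - ν) < n := by
    rw [← hn]
    refine Multiset.card_lt_card (lt_of_le_of_ne (Multiset.sub_le_self _ _) fun e => ?_)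
    have := congrArg (Multiset.count (r, j)) e
    rw [Multiset.count_sub] at this
    have := Multiset.count_pos.2 hmem
    have := Multiset.count_pos.2 hνmem
    omega
  obtain ⟨i1, i2⟩ := ih _ hlt (μ - ν) rfl (good_sub hg) R hR
  have hsub : ∀ y, μ.count y = ν.count y + (μ - ν).count y := fun y => by
    rw [← Multiset.count_add, add_comm, Multiset.sub_add_cancel hνle]
  constructor
  · intro x hx
    obtain ⟨-, hxm, hx0, -⟩ := hg x hx
    rw [hsub, hsub x, hs1 x hxm hx0]
    congr 1
    by_cases h : x ∈ μ - ν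
    · exact i1 x h
    · rw [Multiset.count_eq_zero.2 h, Multiset.count_eq_zero]
      intro h'
      have := i1 _ h'
      dsimp only at this
      rw [srp_srp hθ hxm hx0] at this
      exact h (Multiset.count_pos.1 (this.symm ▸ Multiset.count_pos.2 h'))
  · intro x _ hl hns
    rw [hsub]
    refine (hs2 x hl hns).add ?_
    by_cases h : x ∈ μ - ν
    · exact i2 x h hl hns
    · rw [Multiset.count_eq_zero.2 h]; exact Even.zero

end Cfsg.Agent.Lib.ClassNumber
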