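import Cfsg.Agent.Lib.ClassNumber.Classify
import Cfsg.Agent.Lib.GLClasses.Exists

/-!
The class number of an isometry group is at most a weighted count of self-reciprocal codes.
-/

set_option autoImplicit false

namespace Cfsg.Agent.Lib.ClassNumber

open Polynomial Module Cfsg.Agent.Lib.GLClasses UniqueFactorizationMonoid
open scoped Classical

universe u v

variable {F : Type v} [Field F] [Fintype F] {θ : F →+* F} {η : F}

/-- The blocks described by a code. -/
noncomputable def blocks {n : ℕ} (g : Fin n → F[X]) : Multiset (F[X] × ℕ) :=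
  ∑ j : Fin n, (normalizedFactors (g j)).map fun r => (r, (j : ℕ) + 1)

omit [Fintype F] in
theorem mem_blocks {n : ℕ} {g : Fin n → F[X]} {x : F[X] × ℕ} :
    x ∈ blocks g ↔ ∃ j : Fin n, ∃ r ∈ normalizedFactors (g j), (r, (j : ℕ) + 1) = x := by
  simp [blocks, Multiset.mem_sum, Multiset.mem_map]

omit [Fintype F] in
theorem count_blocks {n : ℕ} (g : Fin n → F[X]) (r : F[X]) (j : Fin n) :
    (blocks g).count (r, (j : ℕ) + 1) = (normalizedFactors (g j)).count r := by
  rw [blocks, Multiset.count_sum', Finset.sum_eq_single j]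
  · exact Multiset.count_map_eq_count' _ _ (fun a b h => (Prod.mk.inj h).1) r
  · intro i _ hi
    rw [Multiset.count_eq_zero, Multiset.mem_map]
    rintro ⟨s, -, hs⟩
    exact hi (Fin.ext (Nat.succ_injective (Prod.mk.inj hs).2))
  · simp

omit [Fintype F] in
theorem kdim_blocks {n : ℕ} (g : Fin n → F[X]) (p : F[X]) (k : ℕ) :
    kdim (blocks g) p k = kd g p k := by
  rw [kd, blocks, kdim, Finset.mul_sum]
  let φ : Multiset (F[X] × ℕ) →+ ℕ :=
    { toFun := fun s => (s.map fun x => if x.1 = p then p.natDegree * min k x.2 else 0).sum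
      map_zero' := by simp
      map_add' := fun a b => by simp }
  show φ (∑ j : Fin n, _) = _
  rw [map_sum]
  refine Finset.sum_congr rfl fun j _ => ?_
  show ((Multiset.map _ (normalizedFactors (g j))).map _).sum = _
  rw [Multiset.map_map]
  induction normalizedFactors (g j) using Multiset.induction with
  | empty => simp
  | cons a s ih =>
    rw [Multiset.map_cons, Multiset.sum_cons, ih, Multiset.count_cons, mul_add, mul_add]
    simp only [Function.comp_apply]
    by_cases h : a = p
    · rw [if_pos h, if_pos h.symm, mul_one, add_comm]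
    · rw [if_neg h, if_neg (fun e => h e.symm), mul_zero, mul_zero, add_zero, zero_add]

omit [Fintype F] in
theorem good_blocks {n : ℕ} {g : Fin n → F[X]} (hg : IsCode g) : Good (blocks g) := by
  intro x hx
  obtain ⟨j, r, hr, rfl⟩ := mem_blocks.1 hx
  have hi := irreducible_of_normalized_factor r hr
  exact ⟨hi, normalize_normalized_factor r hr ▸ Polynomial.monic_normalize hi.ne_zero,
    coeff_zero_ne_of_dvd (dvd_of_mem_normalizedFactors hr) (hg j).2, by simp⟩

theorem exists_typed {V : Type u} [AddCommGroup V] [Module F V] [FiniteDimensional F V] {n : ℕ}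
    (hn : finrank F V = n) (T : IForm θ η V) :
    ∃ g ∈ codes F n n, Typed T (blocks g) := by
  classical
  let e : V ≃ₗ[F] (Fin n → F) := ((finBasis F V).reindex (finCongr hn)).equivFun
  let C : Module.End F V ≃ₐ[F] Module.End F (Fin n → F) := LinearEquiv.conjAlgEquiv F e
  let φ : Module.End F V →ₐ[F] Matrix (Fin n) (Fin n) F :=
    (C.trans Matrix.toLinAlgEquiv'.symm).toAlgHom
  let A : GL (Fin n) F :=
    { val := φ T.A.toLinearMap
      inv := φ T.A.symm.toLinearMap
      val_inv := by rw [← map_mul, T.A_mul, map_one]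
      inv_val := by rw [← map_mul, T.A_mul', map_one] }
  obtain ⟨g, hg, hk, -, -⟩ := exists_code A
  refine ⟨g, hg, fun p hp hpm k => ?_⟩
  rw [kdim_blocks, ← hk p hp hpm k]
  have h1 : Matrix.toLinAlgEquiv' (A : Matrix (Fin n) (Fin n) F) = C T.A.toLinearMap := by
    show Matrix.toLinAlgEquiv' (Matrix.toLinAlgEquiv'.symm (C T.A.toLinearMap)) = _
    rw [AlgEquiv.apply_symm_apply]
  have h2 : LinearMap.ker (aeval (C T.A.toLinearMap) (p ^ k)) =
      (LinearMap.ker (T.op (p ^ k))).map (e : V →ₗ[F] (Fin n → F)) := by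
    rw [aeval_algHom_apply]
    ext x
    rw [Submodule.mem_map_equiv, LinearMap.mem_ker, LinearMap.mem_ker]
    show e (T.op (p ^ k) (e.symm x)) = 0 ↔ T.op (p ^ k) (e.symm x) = 0
    exact e.map_eq_zero_iff
  rw [h1, h2, LinearEquiv.finrank_map_eq]

omit [Fintype F] in
theorem srp_multiset_prod (s : Multiset F[X]) : srp θ s.prod = (s.map (srp θ)).prod := by
  induction s using Multiset.induction with
  | empty => simp [srp_one]
  | cons a s ih => rw [Multiset.prod_cons, srp_mul, ih, Multiset.map_cons, Multiset.prod_cons]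

omit [Fintype F] in
theorem prod_factors {p : F[X]} (hp : p.Monic) : (normalizedFactors p).prod = p :=
  eq_of_monic_of_associated
    (by simpa using monic_multiset_prod_of_monic (normalizedFactors p) id fun r hr =>
      normalize_normalized_factor r hr ▸ Polynomial.monic_normalize (irreducible_of_normalized_factor r hr).ne_zero)
    hp (prod_normalizedFactors hp.ne_zero)

/-- The codes which can occur for isometries. -/
def Adm (θ : F →+* F) (η : F) {n : ℕ} (g : Fin n → F[X]) : Prop :=
  ∀ j, srp θ (g j) = g j ∧ ∀ r, Lin θ r → ¬ Spec θ η (r, (j : ℕ) + 1) →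
    r ∈ normalizedFactors (g j) → Even ((normalizedFactors (g j)).count r)

theorem map_eq_self_of_count {α : Type*} [DecidableEq α] (f : α → α) (s : Multiset α)
    (hinv : ∀ r ∈ s, f (f r) = r) (hcount : ∀ r ∈ s, s.count (f r) = s.count r) : s.map f = s := by
  refine Multiset.ext.2 fun r => ?_
  by_cases hr : r ∈ s
  · have hr' : f r ∈ s := Multiset.count_pos.1 (by rw [hcount r hr]; exact Multiset.count_pos.2 hr)
    conv_lhs => rw [← hinv r hr]
    rw [Multiset.count_map_eq_count f s (fun a ha b hb e => by rw [← hinv a ha, e, hinv b hb]) _ hr',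
      hcount r hr]
  · rw [Multiset.count_eq_zero.2 hr, Multiset.count_eq_zero, Multiset.mem_map]
    rintro ⟨x, hx, rfl⟩
    exact hr (Multiset.count_pos.1 (by rw [hcount x hx]; exact Multiset.count_pos.2 hx))

omit [Fintype F] in
theorem mem_blocks_of_factor {n : ℕ} (g : Fin n → F[X]) (j : Fin n) (r : F[X])
    (hr : r ∈ normalizedFactors (g j)) : (r, (j : ℕ) + 1) ∈ blocks g :=
  mem_blocks.2 ⟨j, r, hr, rfl⟩

omit [Fintype F] in
theorem adm_of_typed (hθ : ∀ a, θ (θ a) = a) (hz : ∃ z : F, z + θ z = 1) {n : ℕ} {g : Fin n → F[X]}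
    (hg : IsCode g) (T : Trip.{u} θ η) (hT : Typed T.form (blocks g)) : Adm θ η g := by
  obtain ⟨h1, h2⟩ := blocks_symm hθ hz _ (good_blocks hg) T hT
  intro j
  refine ⟨?_, fun r hl hns hr => ?_⟩
  · have hmap : (normalizedFactors (g j)).map (srp θ) = normalizedFactors (g j) := by
      refine map_eq_self_of_count (srp θ) _ (fun r hr => ?_) (fun r hr => ?_)
      · have h := good_blocks hg (r, (j : ℕ) + 1) (mem_blocks_of_factor g j r hr)
        exact srp_srp hθ h.2.1 h.2.2.1
      · rw [← count_blocks g (srp θ r) j, ← count_blocks g r j]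
        exact h1 (r, (j : ℕ) + 1) (mem_blocks_of_factor g j r hr)
    have h := srp_multiset_prod (θ := θ) (normalizedFactors (g j))
    rwa [hmap, prod_factors (hg j).1] at h
  · have := h2 (r, (j : ℕ) + 1) (mem_blocks_of_factor g j r hr) hl hns
    rwa [count_blocks] at this

/-- The admissible codes of size `n`. -/
noncomputable def admCodes (θ : F →+* F) (η : F) (n : ℕ) : Finset (Fin n → F[X]) :=
  (codes F n n).filter (Adm θ η)

/-- Class numbers of isometry groups are bounded by the weighted number of admissible codes. -/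
theorem card_conjClasses_le {V : Type u} [AddCommGroup V] [Module F V] [FiniteDimensional F V] {n : ℕ}
    (hn : finrank F V = n) (hz : ∃ z : F, z + θ z = 1) (T₀ : IForm θ η V) {G : Type*} [Group G] [Finite G]
    (ρ : G → (V ≃ₗ[F] V)) (hρ : ∀ a b x, ρ (a * b) x = ρ a (ρ b x)) (hinj : Function.Injective ρ)
    (hiso : ∀ a x y, T₀.B (ρ a x) (ρ a y) = T₀.B x y)
    (hsurj : ∀ A : V ≃ₗ[F] V, (∀ x y, T₀.B (A x) (A y) = T₀.B x y) → ∃ a, ρ a = A) :
    Nat.card (ConjClasses G) ≤ ∑ g ∈ admCodes θ η n, weight θ η (blocks g) := by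
  let tr : G → Trip.{u} θ η := fun a =>
    { V := V, form := { T₀ with A := ρ a, iso := hiso a } }
  have hcode : ∀ a, ∃ g ∈ admCodes θ η n, Typed (tr a).form (blocks g) := fun a => by
    obtain ⟨g, hg, hT⟩ := exists_typed hn (tr a).form
    exact ⟨g, Finset.mem_filter.2 ⟨hg, adm_of_typed T₀.inv hz (mem_codes.1 hg).1 (tr a) hT⟩, hT⟩
  choose code hcode hT using hcode
  have hlab : ∀ g : (admCodes θ η n : Finset _), ∃ (α : Type) (_ : Fintype α),
      Fintype.card α ≤ weight θ η (blocks g.1) ∧
      ∃ L : Trip.{u} θ η → α, ∀ T S : Trip.{u} θ η, Typed T.form (blocks g.1) →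
        Typed S.form (blocks g.1) → L T = L S → IForm.Equiv' T.form S.form := fun g =>
    exists_label T₀.inv hz _ (good_blocks (mem_codes.1 (Finset.mem_filter.1 g.2).1).1)
  choose α hα hcard L hL using hlab
  let Φ : ConjClasses G → Σ g : (admCodes θ η n : Finset _), α g := fun c =>
    ⟨⟨code c.out, hcode c.out⟩, L ⟨code c.out, hcode c.out⟩ (tr c.out)⟩
  have hΦ : Function.Injective Φ := by
    intro c d h
    have hsig : ∀ (s t : Σ g : (admCodes θ η n : Finset _), α g), s = t →
        ∀ T S : Trip.{u} θ η, Typed T.form (blocks s.1.1) → Typed S.form (blocks t.1.1) →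
        s.2 = L s.1 T → t.2 = L t.1 S → IForm.Equiv' T.form S.form := by
      rintro s t rfl T S h1 h2 h3 h4
      exact hL s.1 T S h1 h2 (h3.symm.trans h4)
    obtain ⟨e, he, heA⟩ := hsig _ _ h (tr c.out) (tr d.out) (hT _) (hT _) rfl rfl
    obtain ⟨z, hz⟩ := hsurj e he
    rw [← Quotient.out_eq c, ← Quotient.out_eq d]
    refine ConjClasses.mk_eq_mk_iff_isConj.2 (isConj_iff.2 ⟨z, ?_⟩)
    rw [mul_inv_eq_iff_eq_mul]
    refine hinj (LinearEquiv.ext fun x => ?_)
    rw [hρ, hρ, hz]
    exact heA x
  refine (Nat.card_le_card_of_injective _ hΦ).trans ?_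
  letI : ∀ g, Fintype (α g) := hα
  rw [Nat.card_eq_fintype_card, Fintype.card_sigma]
  exact (Finset.sum_le_sum fun g _ => hcard g).trans_eq
    (Finset.sum_coe_sort _ (fun g => weight θ η (blocks g)))

end Cfsg.Agent.Lib.ClassNumber
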