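import Cfsg.Agent.Lib.ClassNumber.Codes

/-!
Discriminants of symmetric forms: in a fixed space only half of the types occur, as soon as there is
a special block.
-/

set_option autoImplicit false

namespace Cfsg.Agent.Lib.ClassNumber

open Polynomial Module Cfsg.Agent.Lib.GLClasses
open scoped Classical Matrix

universe u v

variable {F : Type v} [Field F] [Fintype F]


section Gram

variable {V : Type u} [AddCommGroup V] [Module F V] (T : IForm (RingHom.id F) (1 : F) V)

/-- The Gram matrix of a family. -/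
def gram {ι : Type*} (b : ι → V) : Matrix ι ι F := Matrix.of fun i k => T.B (b i) (b k)

omit [Fintype F] in
theorem gram_comb {ι κ : Type*} [Fintype ι] (b : ι → V) (P : Matrix ι κ F) :
    gram T (fun k => ∑ i, P i k • b i) = Pᵀ * gram T b * P := by
  ext k l
  rw [Matrix.mul_apply, gram, Matrix.of_apply, T.sum_right]
  refine Finset.sum_congr rfl fun j _ => ?_
  rw [T.smul_right, T.sum_left, Matrix.mul_apply, RingHom.id_apply, mul_comm]
  congr 1
  exact Finset.sum_congr rfl fun i _ => by rw [T.smul_left, Matrix.transpose_apply]; rfl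

omit [Fintype F] in
theorem gram_det_ne_zero {ι : Type*} [Fintype ι] [DecidableEq ι] (b : Basis ι F V) :
    (gram T b).det ≠ 0 := by
  intro h
  obtain ⟨c, hc0, hc⟩ := Matrix.exists_mulVec_eq_zero_iff.2 h
  apply hc0
  have hy : ∑ k, c k • b k = 0 := by
    refine T.nd _ fun x => ?_
    rw [← b.sum_repr x, T.sum_left]
    refine Finset.sum_eq_zero fun i _ => ?_
    rw [T.smul_left, T.sum_right]
    have : ∑ k, T.B (b i) (c k • b k) = 0 := by
      have h1 := congrFun hc i
      rw [Matrix.mulVec, dotProduct] at h1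
      refine Eq.trans (Finset.sum_congr rfl fun k _ => ?_) h1
      rw [T.smul_right, RingHom.id_apply, mul_comm]
      rfl
    rw [this, mul_zero]
  funext k
  exact Fintype.linearIndependent_iff.1 b.linearIndependent c hy k

/-- The discriminant, as a quadratic character. -/
noncomputable def disc [FiniteDimensional F V] : ℤ := quadraticChar F (gram T (finBasis F V)).det

theorem disc_eq [FiniteDimensional F V] {ι : Type*} [Fintype ι] [DecidableEq ι] (b : Basis ι F V) :
    disc T = quadraticChar F (gram T b).det := by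
  let e : Fin (finrank F V) ≃ ι := (finBasis F V).indexEquiv b
  let b' := b.reindex e.symm
  have h1 : gram T b' = (gram T b).submatrix e e := by
    ext i k
    simp [gram, b', Basis.reindex_apply]
  have h2 : (fun k => ∑ i, (finBasis F V).toMatrix b' i k • finBasis F V i) = (b' : _ → V) :=
    funext fun k => (finBasis F V).sum_toMatrix_smul_self b' k
  have h3 : gram T b' = ((finBasis F V).toMatrix b')ᵀ * gram T (finBasis F V) * (finBasis F V).toMatrix b' := by
    rw [← gram_comb, h2]
  have h4 : ((finBasis F V).toMatrix b').det ≠ 0 := by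
    intro h
    have h5 := gram_det_ne_zero T b'
    rw [h3, Matrix.det_mul, h, mul_zero] at h5
    exact h5 rfl
  have h6 : (gram T b).det = (gram T b').det := by rw [h1, Matrix.det_submatrix_equiv_self]
  rw [h6, h3, Matrix.det_mul, Matrix.det_mul, Matrix.det_transpose, map_mul, map_mul, mul_right_comm,
    ← map_mul, quadraticChar_sq_one' h4 |> fun h => (show quadraticChar F
      (((finBasis F V).toMatrix b').det * ((finBasis F V).toMatrix b').det) = 1 by
        rw [← pow_two]; exact h), one_mul]
  rfl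

theorem disc_ne_zero [FiniteDimensional F V] : disc T ≠ 0 := fun h =>
  gram_det_ne_zero T (finBasis F V) (quadraticChar_eq_zero_iff.1 h)

end Gram

theorem disc_equiv {V W : Type u} [AddCommGroup V] [Module F V] [FiniteDimensional F V] [AddCommGroup W]
    [Module F W] [FiniteDimensional F W] {T : IForm (RingHom.id F) (1 : F) V} {S : IForm (RingHom.id F) (1 : F) W}
    (h : IForm.Equiv' T S) : disc T = disc S := by
  obtain ⟨e, he, -⟩ := h
  rw [disc_eq S ((finBasis F V).map e)]
  show quadraticChar F _ = quadraticChar F _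
  congr 2
  ext i k
  simp [gram, he]

theorem disc_split {V : Type u} [AddCommGroup V] [Module F V] [FiniteDimensional F V]
    (T : IForm (RingHom.id F) (1 : F) V) {U : Submodule F V} (hU : ∀ x ∈ U, T.A x ∈ U)
    (hnd : ∀ y ∈ U, (∀ x ∈ U, T.B x y = 0) → y = 0) :
    disc T = disc (T.restrict U hU hnd) *
      disc (T.restrict (T.orth U) (T.orth_invariant hU) (T.orth_nd hnd)) := by
  let P := Submodule.prodEquivOfIsCompl _ _ (T.isCompl_orth hnd)
  let b := ((finBasis F U).prod (finBasis F (T.orth U))).map P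
  have h : gram T b = Matrix.fromBlocks (gram (T.restrict U hU hnd) (finBasis F U)) 0 0
      (gram (T.restrict (T.orth U) (T.orth_invariant hU) (T.orth_nd hnd)) (finBasis F (T.orth U))) := by
    ext i k
    rcases i with i | i <;> rcases k with k | k <;>
      simp only [gram, Matrix.of_apply, Matrix.fromBlocks_apply₁₁, Matrix.fromBlocks_apply₁₂,
        Matrix.fromBlocks_apply₂₁, Matrix.fromBlocks_apply₂₂, Matrix.zero_apply, b, Basis.map_apply,
        Basis.prod_apply_inl_fst, Basis.prod_apply_inl_snd, Basis.prod_apply_inr_fst, Basis.prod_apply_inr_snd,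
        P, Submodule.coe_prodEquivOfIsCompl', Submodule.coe_zero, add_zero, zero_add]
    · rfl
    · exact T.eq_zero_comm ((finBasis F (T.orth U) k).2 _ (finBasis F U i).2)
    · exact (finBasis F (T.orth U) i).2 _ (finBasis F U k).2
    · rfl
  rw [disc_eq T b, h, Matrix.det_fromBlocks_zero₁₂, map_mul]
  rfl

section Piece

variable {V W : Type u} [AddCommGroup V] [Module F V] [FiniteDimensional F V] [AddCommGroup W] [Module F W]
  [FiniteDimensional F W] {T : IForm (RingHom.id F) (1 : F) V} {S : IForm (RingHom.id F) (1 : F) W}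

/-- The discriminant of a cyclic piece at `X ± 1`. -/
theorem disc_piece {D : PData (RingHom.id F) Unit} {v : Unit → V} (h : D.Gens T v) {e : F} (hf : D.f = X - C e)
    (hr : D.r () = D.f) :
    disc (PData.pieceForm h) = quadraticChar F
      (((Equiv.Perm.sign (Fin.revPerm : Equiv.Perm (Fin D.j)) : ℤˣ) : ℤ) : F) *
      quadraticChar F (∏ i : Fin D.j, (D.f.coeff 0 * e) ^ (i : ℕ)) *
      quadraticChar F (D.top T v () () 1) ^ D.j := by
  have hk : ∀ i, T.op (D.f ^ D.j) (v i) = 0 := fun i => PData.kill_f h.kill i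
  let w : Fin D.j → PData.sub T v := fun i =>
    ⟨T.op (D.f ^ (i : ℕ)) (v ()), fun _ => D.f ^ (i : ℕ), by simp [PData.span_apply]⟩
  set c := D.top T v () () 1 with hc
  set M := gram (PData.pieceForm h) w
  have hmove : ∀ (i : ℕ) (x y : V), T.B (T.op (D.f ^ i) x) y =
      D.f.coeff 0 ^ i * T.B (T.op (X ^ i) x) (T.op (D.f ^ i) y) := by
    intro i x y
    have hd : (D.f ^ i).natDegree = i := by rw [natDegree_pow, hf, natDegree_X_sub_C, mul_one]
    have hg : srp (RingHom.id F) (D.f ^ i) = D.f ^ i := by rw [srp_pow, D.f_srp]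
    have h0 : (D.f ^ i).coeff 0 = D.f.coeff 0 ^ i := by
      rw [coeff_zero_eq_eval_zero, eval_pow, ← coeff_zero_eq_eval_zero]
    rw [T.adj_self hg (by rw [h0]; exact pow_ne_zero _ D.f0), hd, h0]
  have hentry : ∀ i k : Fin D.j, M i k = D.f.coeff 0 ^ (i : ℕ) *
      T.B (T.op (X ^ (i : ℕ)) (v ())) (T.op (D.f ^ ((i : ℕ) + k)) (v ())) := by
    intro i k
    show T.B (T.op (D.f ^ (i : ℕ)) (v ())) (T.op (D.f ^ (k : ℕ)) (v ())) = _
    rw [hmove, pow_add, T.op_mul_apply]
  set M' := M.submatrix id (Fin.revPerm : Equiv.Perm (Fin D.j)) with hM'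
  have htri : Matrix.BlockTriangular M' id := by
    intro i l hil
    show M i (Fin.revPerm l) = 0
    rw [hentry, T.op_eq_zero_of_dvd (p := D.f ^ D.j) (pow_dvd_pow _ ?_) (hk ()), T.zero_right, mul_zero]
    have : (l : ℕ) < i := hil
    simp only [Fin.revPerm_apply, Fin.val_rev]
    omega
  have hdiag : ∀ i, M' i i = (D.f.coeff 0 * e) ^ (i : ℕ) * c := by
    intro i
    show M i (Fin.revPerm i) = _
    have hi := i.isLt
    rw [hentry, show (i : ℕ) + (Fin.revPerm i : Fin D.j) = D.j - 1 by
      simp only [Fin.revPerm_apply, Fin.val_rev]; omega]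
    show _ * D.top T v () () (X ^ (i : ℕ)) = _
    rw [top_lin D hf hk, eval_pow, eval_X, mul_pow, mul_assoc]
  have hdet' : M'.det = (∏ i : Fin D.j, (D.f.coeff 0 * e) ^ (i : ℕ)) * c ^ D.j := by
    rw [Matrix.det_of_upperTriangular htri]
    simp only [hdiag, Finset.prod_mul_distrib, Finset.prod_const, Finset.card_univ, Fintype.card_fin]
  have hsgn : M.det = (((Equiv.Perm.sign (Fin.revPerm : Equiv.Perm (Fin D.j)) : ℤˣ) : ℤ) : F) * M'.det := by
    rw [hM', Matrix.det_permute', ← mul_assoc, ← Int.cast_mul, ← Units.val_mul, Int.units_mul_self,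
      Units.val_one, Int.cast_one, one_mul]
  have hc0 : c ≠ 0 := by
    intro h0
    obtain ⟨p, hp⟩ := h.ne ()
    exact hp (by rw [top_lin D hf hk, show D.top T v (D.π ()) () 1 = c from rfl, h0, mul_zero])
  have hM0 : M.det ≠ 0 := by
    rw [hsgn, hdet']
    refine mul_ne_zero ?_ (mul_ne_zero (Finset.prod_ne_zero_iff.2 fun i _ => pow_ne_zero _ ?_) (pow_ne_zero _ hc0))
    · rcases Int.units_eq_one_or (Equiv.Perm.sign (Fin.revPerm : Equiv.Perm (Fin D.j))) with h | h <;> simp [h]
    · refine mul_ne_zero D.f0 fun he => D.f0 ?_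
      rw [hf, he, C_0, sub_zero, coeff_X_zero]
  have hli : LinearIndependent F w := by
    rw [Fintype.linearIndependent_iff]
    intro a ha
    have : Matrix.mulVec M a = 0 := by
      funext i
      rw [Matrix.mulVec, dotProduct, Pi.zero_apply, ← (PData.pieceForm h).zero_right (w i), ← ha,
        (PData.pieceForm h).sum_right]
      exact Finset.sum_congr rfl fun k _ => by
        rw [(PData.pieceForm h).smul_right, RingHom.id_apply, mul_comm]; rfl
    exact congrFun (Matrix.eq_zero_of_mulVec_eq_zero hM0 this)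
  have hrk : finrank F (PData.sub T v) = D.j := by
    haveI : ∀ i : Unit, Module.Finite F (F[X] ⧸ Ideal.span {D.r i ^ D.j}) := fun i =>
      Similarity.finite_quot ((D.r_monic i).pow _)
    rw [← (PData.modelEquiv h).finrank_eq, Module.finrank_pi_fintype, Finset.univ_unique, Finset.sum_singleton,
      Similarity.finrank_quot ((D.r_monic _).pow _), natDegree_pow, show D.r (default : Unit) = D.f from hr,
      hf, natDegree_X_sub_C, mul_one]
  haveI : Nonempty (Fin D.j) := ⟨⟨0, D.hj⟩⟩
  let b := basisOfLinearIndependentOfCardEqFinrank hli (by rw [Fintype.card_fin, hrk])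
  rw [disc_eq _ b, show gram (PData.pieceForm h) b = M by
    rw [coe_basisOfLinearIndependentOfCardEqFinrank], hsgn, hdet', map_mul, map_mul, map_pow, ← mul_assoc]

theorem isSquare_top_iff {D : PData (RingHom.id F) Unit} {v : Unit → V} {w : Unit → W} (h : D.Gens T v) (h' : D.Gens S w)
    (hs : Spec (RingHom.id F) (1 : F) (D.r (), D.j)) (hf : D.f = D.r ()) (h2 : (2 : F) ≠ 0)
    (hd : disc (PData.pieceForm h) = disc (PData.pieceForm h')) :
    IsSquare (D.top T v () () 1) ↔ IsSquare (D.top S w () () 1) := by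
  obtain ⟨e, he, -⟩ := hs.1.exists_root
  have hf' : D.f = X - C e := hf.trans he
  have hne : ∀ {U : Type u} [AddCommGroup U] [Module F U] {R : IForm (RingHom.id F) (1 : F) U} {x : Unit → U},
      D.Gens R x → D.top R x () () 1 ≠ 0 := by
    intro U _ _ R x hx h0
    obtain ⟨p, hp⟩ := hx.ne ()
    exact hp (by rw [top_lin D hf' (fun i => PData.kill_f hx.kill i), h0, mul_zero])
  have hodd : Odd D.j := by
    rw [← Nat.not_even_iff_odd]
    rintro ⟨k, hk⟩
    have := hs.2
    have hkpos := D.hj
    rw [one_mul, show (D.r (), D.j).2 - 1 = 2 * (k - 1) + 1 by show D.j - 1 = _; omega, pow_add, pow_mul,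
      neg_one_sq, one_pow, one_mul, pow_one] at this
    exact h2 (by linear_combination (-1 : F) * this)
  have h0 := disc_ne_zero (PData.pieceForm h)
  rw [disc_piece h hf' hf.symm] at h0 hd
  rw [disc_piece h' hf' hf.symm] at hd
  have h3 := mul_left_cancel₀ (left_ne_zero_of_mul h0) hd
  have hp : ∀ c : F, c ≠ 0 → quadraticChar F c ^ D.j = quadraticChar F c := by
    intro c hc
    rcases quadraticChar_dichotomy hc with h | h <;> simp [h, hodd.neg_one_pow]
  rw [hp _ (hne h), hp _ (hne h')] at h3
  rw [← quadraticChar_one_iff_isSquare (hne h), ← quadraticChar_one_iff_isSquare (hne h'), h3]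

theorem disc_rest {ι : Type} [Fintype ι] {D : PData (RingHom.id F) ι} {v : ι → V} (h : D.Gens T v) :
    disc T = disc (PData.pieceForm h) * disc (restTrip h).form :=
  disc_split T (PData.sub_invariant v) (PData.sub_nd h)

theorem disc_piece_eq_of_match {ι : Type} [Fintype ι] {D : PData (RingHom.id F) ι} {v : ι → V} {w : ι → W}
    {z : F} (hz : z + z = 1) (h : D.Gens T v) (h' : D.Gens S w)
    (hu : ∃ u : ι → F[X], D.Gens S (fun i => S.op (u i) (w i)) ∧
      ∀ k i p, D.top T v k i p = D.top S (fun i => S.op (u i) (w i)) k i p) :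
    disc (PData.pieceForm h) = disc (PData.pieceForm h') := by
  obtain ⟨u, hu', htop⟩ := hu
  rw [disc_equiv (PData.piece_unique (z := z) (by simpa using hz) h hu' htop)]
  have key : ∀ (U U' : Submodule F W), U = U' → ∀ (a : ∀ x ∈ U, S.A x ∈ U)
      (b : ∀ y ∈ U, (∀ x ∈ U, S.B x y = 0) → y = 0) (a' : ∀ x ∈ U', S.A x ∈ U')
      (b' : ∀ y ∈ U', (∀ x ∈ U', S.B x y = 0) → y = 0),
      disc (S.restrict U a b) = disc (S.restrict U' a' b') := by
    rintro U U' rfl a b a' b'
    rfl
  exact key _ _ (sub_eq_of_gens h' hu') _ _ _ _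

end Piece

/-- The number of special blocks is positive. -/
def HasSpec (μ : Multiset (F[X] × ℕ)) : Prop := ∃ x ∈ μ, Spec (RingHom.id F) (1 : F) x

omit [Fintype F] in
theorem weight_one_of_not_hasSpec {μ : Multiset (F[X] × ℕ)} (h : ¬ HasSpec μ) : weight (RingHom.id F) (1 : F) μ = 1 := by
  rw [weight, Finset.filter_false_of_mem fun x hx hs => h ⟨x, Multiset.mem_toFinset.1 hx, hs⟩,
    Finset.card_empty, pow_zero]

omit [Fintype F] in
theorem hasSpec_sub {μ ν : Multiset (F[X] × ℕ)} (h : HasSpec μ)
    (hν : ∀ x ∈ ν, Spec (RingHom.id F) (1 : F) x → ν.count x < μ.count x) : HasSpec (μ - ν) := by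
  obtain ⟨x, hx, hs⟩ := h
  refine ⟨x, ?_, hs⟩
  rw [← Multiset.count_pos, Multiset.count_sub]
  by_cases hxν : x ∈ ν
  · have := hν x hxν hs
    omega
  · rw [Multiset.count_eq_zero.2 hxν, Nat.sub_zero]
    exact Multiset.count_pos.2 hx

/-- In a space of given discriminant there are at most half as many types when a special block occurs. -/
theorem exists_label_disc (h2 : (2 : F) ≠ 0) :
    ∀ μ : Multiset (F[X] × ℕ), Good μ → ∃ (α : Type) (_ : Fintype α),
      Fintype.card α ≤ weight (RingHom.id F) (1 : F) μ ∧ (HasSpec μ → 2 * Fintype.card α ≤ weight (RingHom.id F) (1 : F) μ) ∧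
      ∃ L : Trip.{u} (RingHom.id F) (1 : F) → α, ∀ T S : Trip.{u} (RingHom.id F) (1 : F), Typed T.form μ → Typed S.form μ →
        disc T.form = disc S.form → L T = L S → IForm.Equiv' T.form S.form := by
  have hhalf : (2 : F)⁻¹ + (2 : F)⁻¹ = 1 := by field_simp; norm_num
  have hz : ∃ z : F, z + (RingHom.id F) z = 1 := ⟨_, hhalf⟩
  intro μ
  induction hn : Multiset.card μ using Nat.strong_induction_on generalizing μ with
  | _ n ih =>
  intro hg
  by_cases hH : HasSpec μ
  swap
  · obtain ⟨α, i, hα, L, hL⟩ := exists_label (η := (1 : F)) (fun _ => rfl) hz μ hg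
    exact ⟨α, i, hα, fun h => absurd h hH, L, fun T S hT hS _ h => hL T S hT hS h⟩
  obtain ⟨x₁, hx₁, -⟩ := id hH
  obtain ⟨⟨r, j⟩, hmem, hmax⟩ := Multiset.exists_max_image (fun x : F[X] × ℕ => x.2) (s := μ)
    (fun h => by rw [h] at hx₁; exact Multiset.notMem_zero _ hx₁)
  replace hmax : ∀ x ∈ μ, x.2 ≤ j := hmax
  obtain ⟨hi, hm, h0, hj⟩ := hg _ hmem
  obtain ⟨hU, hB⟩ := exists_pdata (θ := (RingHom.id F)) (fun _ => rfl) hi hm h0 hj
  -- cancellation of piece discriminants
  have hcancel : ∀ {ι : Type} [Fintype ι] {D : PData (RingHom.id F) ι} {T S : Trip.{u} (RingHom.id F) (1 : F)} {v : ι → T.V}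
      {w : ι → S.V} (h : D.Gens T.form v) (h' : D.Gens S.form w), disc T.form = disc S.form →
      disc (PData.pieceForm h) = disc (PData.pieceForm h') →
      disc (restTrip h).form = disc (restTrip h').form := by
    intro ι _ D T S v w h h' hd hp
    rw [disc_rest h, disc_rest h', ← hp] at hd
    exact mul_left_cancel₀ (disc_ne_zero (PData.pieceForm h)) hd
  by_cases hc : Cyclic (RingHom.id F) (1 : F) (r, j)
  · obtain ⟨D, hDj, hDr, hDf⟩ := hU hc.1
    have hpb : pieceBlocks D = {(r, j)} := by simp [pieceBlocks, hDr, hDj]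
    have hsplit : ∀ (T : Trip.{u} (RingHom.id F) (1 : F)), Typed T.form μ → ∀ {v : Unit → T.V} (hv : D.Gens T.form v),
        Typed (restTrip hv).form (μ - {(r, j)}) := fun T hT v hv => by
      rw [← hpb]; exact (split hT (by rw [hDj]; exact hmax) hv).2
    have hlt : Multiset.card (μ - {(r, j)}) < n := by
      rw [← hn, Multiset.card_sub (Multiset.singleton_le.2 hmem), Multiset.card_singleton]
      have := Multiset.card_pos_iff_exists_mem.2 ⟨_, hmem⟩
      omega
    obtain ⟨α, iα, hα, hα2, L, hL⟩ := ih _ hlt (μ - {(r, j)}) rfl (good_sub hg)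
    by_cases hsp : Spec (RingHom.id F) (1 : F) (r, j)
    · have hsp' : Spec (RingHom.id F) (1 : F) (D.r (), D.j) := by rw [hDr, hDj]; exact hsp
      by_cases hcount : μ.count (r, j) = 1
      · by_cases hH' : HasSpec (μ - {(r, j)})
        · refine ⟨Bool × α, inferInstance, ?_, fun _ => ?_, fun T => if h : Typed T.form μ then
              (decide (IsSquare (D.top T.form (gens_cyclic hz hg h hmem hmax D hDj hDr hDf hc).choose () () 1)),
                L (restTrip (gens_cyclic hz hg h hmem hmax D hDj hDr hDf hc).choose_spec))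
              else (true, L T), fun T S hT hS hd hTS => ?_⟩
          · rw [Fintype.card_prod, Fintype.card_bool, ← weight_step hcount hsp]
            omega
          · rw [Fintype.card_prod, Fintype.card_bool, ← weight_step hcount hsp]
            have := hα2 hH'
            omega
          · simp only [dif_pos hT, dif_pos hS] at hTS
            obtain ⟨h1, h3⟩ := Prod.mk.inj hTS
            have hv := (gens_cyclic hz hg hT hmem hmax D hDj hDr hDf hc).choose_spec
            have hw := (gens_cyclic hz hg hS hmem hmax D hDj hDr hDf hc).choose_spec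
            have hu := match_unit_spec hv hw hsp'.1 (by rw [hDr]; exact hDf) (decide_eq_decide.1 h1)
            exact equiv_glue hz hv hw hu (hL _ _ (hsplit T hT hv) (hsplit S hS hw)
              (hcancel hv hw hd (disc_piece_eq_of_match hhalf hv hw hu)) h3)
        · obtain ⟨β, iβ, hβ, L', hL'⟩ :=
            exists_label (η := (1 : F)) (fun _ => rfl) hz _ (good_sub (ν := {(r, j)}) hg)
          rw [weight_one_of_not_hasSpec hH'] at hβ
          haveI : Subsingleton β := Fintype.card_le_one_iff_subsingleton.1 hβ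
          have hw2 : weight (RingHom.id F) (1 : F) μ = 2 := by
            rw [← weight_step hcount hsp, weight_one_of_not_hasSpec hH']
          refine ⟨Unit, inferInstance, by rw [hw2]; simp, fun _ => by rw [hw2]; simp, fun _ => (),
            fun T S hT hS hd _ => ?_⟩
          obtain ⟨v, hv⟩ := gens_cyclic hz hg hT hmem hmax D hDj hDr hDf hc
          obtain ⟨w, hw⟩ := gens_cyclic hz hg hS hmem hmax D hDj hDr hDf hc
          have hrest := hL' _ _ (hsplit T hT hv) (hsplit S hS hw) (Subsingleton.elim _ _)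
          have hp : disc (PData.pieceForm hv) = disc (PData.pieceForm hw) := by
            rw [disc_rest hv, disc_rest hw, ← disc_equiv hrest] at hd
            exact mul_right_cancel₀ (disc_ne_zero (restTrip hv).form) hd
          exact equiv_glue hz hv hw (match_unit_spec hv hw hsp'.1 (by rw [hDr]; exact hDf)
            (isSquare_top_iff hv hw hsp' (by rw [hDr]; exact hDf) h2 hp)) hrest
      · have h2c : 2 ≤ μ.count (r, j) := by
          have := Multiset.count_pos.2 hmem
          omega
        have hH' : HasSpec (μ - {(r, j)}) := hasSpec_sub hH fun x hx _ => by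
          rw [Multiset.mem_singleton.1 hx, Multiset.count_singleton_self]; omega
        have hw' : weight (RingHom.id F) (1 : F) (μ - {(r, j)}) ≤ weight (RingHom.id F) (1 : F) μ :=
          weight_mono (Multiset.sub_le_self _ _)
        refine ⟨α, iα, hα.trans hw', fun _ => (hα2 hH').trans hw', fun T =>
          if h : Typed T.form μ then
            L (restTrip (gens_square hz hg h h2c hmax D hDj hDr hDf hsp).choose_spec.1) else L T,
          fun T S hT hS hd hTS => ?_⟩
        simp only [dif_pos hT, dif_pos hS] at hTS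
        obtain ⟨hv, hv1⟩ := (gens_square hz hg hT h2c hmax D hDj hDr hDf hsp).choose_spec
        obtain ⟨hw, hw1⟩ := (gens_square hz hg hS h2c hmax D hDj hDr hDf hsp).choose_spec
        have hu := match_unit_spec hv hw hsp'.1 (by rw [hDr]; exact hDf) (iff_of_true hv1 hw1)
        exact equiv_glue hz hv hw hu (hL _ _ (hsplit T hT hv) (hsplit S hS hw)
          (hcancel hv hw hd (disc_piece_eq_of_match hhalf hv hw hu)) hTS)
    · have hH' : HasSpec (μ - {(r, j)}) := hasSpec_sub hH fun x hx hs =>
        absurd (Multiset.mem_singleton.1 hx ▸ hs) hsp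
      have hw' : weight (RingHom.id F) (1 : F) (μ - {(r, j)}) ≤ weight (RingHom.id F) (1 : F) μ :=
        weight_mono (Multiset.sub_le_self _ _)
      refine ⟨α, iα, hα.trans hw', fun _ => (hα2 hH').trans hw', fun T =>
        if h : Typed T.form μ then
          L (restTrip (gens_cyclic hz hg h hmem hmax D hDj hDr hDf hc).choose_spec) else L T,
        fun T S hT hS hd hTS => ?_⟩
      simp only [dif_pos hT, dif_pos hS] at hTS
      have hv := (gens_cyclic hz hg hT hmem hmax D hDj hDr hDf hc).choose_spec
      have hw := (gens_cyclic hz hg hS hmem hmax D hDj hDr hDf hc).choose_spec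
      have hu := match_unit_norm hv hw (fun hl => hsp (hc.2 (hDr ▸ hl)))
      exact equiv_glue hz hv hw hu (hL _ _ (hsplit T hT hv) (hsplit S hS hw)
        (hcancel hv hw hd (disc_piece_eq_of_match hhalf hv hw hu)) hTS)
  · obtain ⟨D, hDj, hπ, h1, h2', hf1, hf2⟩ := hB
    have hmem' : (r, j) ∈ pieceBlocks D :=
      Multiset.mem_map.2 ⟨false, (Finset.mem_univ false : (false : Bool) ∈ (Finset.univ : Finset Bool)),
        by rw [h1, hDj]⟩
    have hlt : Multiset.card (μ - pieceBlocks D) < n := by
      rw [← hn]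
      refine Multiset.card_lt_card (lt_of_le_of_ne (Multiset.sub_le_self _ _) fun e => ?_)
      have := congrArg (Multiset.count (r, j)) e
      rw [Multiset.count_sub] at this
      have := Multiset.count_pos.2 hmem
      have := Multiset.count_pos.2 hmem'
      omega
    have hH' : HasSpec (μ - pieceBlocks D) := hasSpec_sub hH fun x hx hs => by
      exfalso
      obtain ⟨i, -, rfl⟩ := Multiset.mem_map.1 hx
      apply hc
      have hls : srp (RingHom.id F) (D.r i) = D.r i := hs.1.srp_eq
      have hr : D.r i = r := by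
        cases i
        · exact h1
        · rw [h2', srp_srp (fun _ => rfl) hm h0] at hls
          rw [h2', ← hls]
      rw [hr, hDj] at hs
      exact ⟨hs.1.srp_eq, fun _ => hs⟩
    obtain ⟨α, iα, hα, hα2, L, hL⟩ := ih _ hlt (μ - pieceBlocks D) rfl (good_sub hg)
    have hw' : weight (RingHom.id F) (1 : F) (μ - pieceBlocks D) ≤ weight (RingHom.id F) (1 : F) μ :=
      weight_mono (Multiset.sub_le_self _ _)
    refine ⟨α, iα, hα.trans hw', fun _ => (hα2 hH').trans hw', fun T =>
      if h : Typed T.form μ then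
        L (restTrip (gens_pair hg h hmem hmax D hDj hπ h1 h2' hf1 hf2 hc).choose_spec) else L T,
      fun T S hT hS hd hTS => ?_⟩
    simp only [dif_pos hT, dif_pos hS] at hTS
    have hv := (gens_pair hg hT hmem hmax D hDj hπ h1 h2' hf1 hf2 hc).choose_spec
    have hw := (gens_pair hg hS hmem hmax D hDj hπ h1 h2' hf1 hf2 hc).choose_spec
    have hu := match_bool hπ hv hw
    exact equiv_glue hz hv hw hu
      (hL _ _ (split hT (by rw [hDj]; exact hmax) hv).2 (split hS (by rw [hDj]; exact hmax) hw).2
        (hcancel hv hw hd (disc_piece_eq_of_match hhalf hv hw hu)) hTS)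

/-- The class number of an orthogonal group, odd characteristic. -/
theorem two_mul_card_conjClasses_le {V : Type u} [AddCommGroup V] [Module F V] [FiniteDimensional F V] {n : ℕ}
    (hn : finrank F V = n) (h2 : (2 : F) ≠ 0) (T₀ : IForm (RingHom.id F) (1 : F) V) {G : Type*} [Group G] [Finite G]
    (ρ : G → (V ≃ₗ[F] V)) (hρ : ∀ a b x, ρ (a * b) x = ρ a (ρ b x)) (hinj : Function.Injective ρ)
    (hiso : ∀ a x y, T₀.B (ρ a x) (ρ a y) = T₀.B x y)
    (hsurj : ∀ A : V ≃ₗ[F] V, (∀ x y, T₀.B (A x) (A y) = T₀.B x y) → ∃ a, ρ a = A) :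
    2 * Nat.card (ConjClasses G) ≤ ∑ g ∈ admCodes (RingHom.id F) (1 : F) n,
      (weight (RingHom.id F) (1 : F) (blocks g) + if HasSpec (blocks g) then 0 else 1) := by
  have hz : ∃ z : F, z + (RingHom.id F) z = 1 := ⟨(2 : F)⁻¹, by rw [RingHom.id_apply]; field_simp; norm_num⟩
  let tr : G → Trip.{u} (RingHom.id F) (1 : F) := fun a =>
    { V := V, form := { T₀ with A := ρ a, iso := hiso a } }
  have hcode : ∀ a, ∃ g ∈ admCodes (RingHom.id F) (1 : F) n, Typed (tr a).form (blocks g) := fun a => by
    obtain ⟨g, hg, hT⟩ := exists_typed hn (tr a).form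
    exact ⟨g, Finset.mem_filter.2 ⟨hg, adm_of_typed T₀.inv hz (mem_codes.1 hg).1 (tr a) hT⟩, hT⟩
  choose code hcode hT using hcode
  have hlab : ∀ g : (admCodes (RingHom.id F) (1 : F) n : Finset _), ∃ (α : Type) (_ : Fintype α),
      Fintype.card α ≤ weight (RingHom.id F) (1 : F) (blocks g.1) ∧
      (HasSpec (blocks g.1) → 2 * Fintype.card α ≤ weight (RingHom.id F) (1 : F) (blocks g.1)) ∧
      ∃ L : Trip.{u} (RingHom.id F) (1 : F) → α, ∀ T S : Trip.{u} (RingHom.id F) (1 : F), Typed T.form (blocks g.1) →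
        Typed S.form (blocks g.1) → disc T.form = disc S.form → L T = L S → IForm.Equiv' T.form S.form :=
    fun g => exists_label_disc h2 _ (good_blocks (mem_codes.1 (Finset.mem_filter.1 g.2).1).1)
  choose α hα hcard hcard2 L hL using hlab
  let Φ : ConjClasses G → Σ g : (admCodes (RingHom.id F) (1 : F) n : Finset _), α g := fun c =>
    ⟨⟨code c.out, hcode c.out⟩, L ⟨code c.out, hcode c.out⟩ (tr c.out)⟩
  have hΦ : Function.Injective Φ := by
    intro c d h
    have hsig : ∀ (s t : Σ g : (admCodes (RingHom.id F) (1 : F) n : Finset _), α g), s = t →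
        ∀ T S : Trip.{u} (RingHom.id F) (1 : F), Typed T.form (blocks s.1.1) → Typed S.form (blocks t.1.1) →
        disc T.form = disc S.form →
        s.2 = L s.1 T → t.2 = L t.1 S → IForm.Equiv' T.form S.form := by
      rintro s t rfl T S h1 h2' hd h3 h4
      exact hL s.1 T S h1 h2' hd (h3.symm.trans h4)
    obtain ⟨e, he, heA⟩ := hsig _ _ h (tr c.out) (tr d.out) (hT _) (hT _) rfl rfl rfl
    obtain ⟨z, hz⟩ := hsurj e he
    rw [← Quotient.out_eq c, ← Quotient.out_eq d]
    refine ConjClasses.mk_eq_mk_iff_isConj.2 (isConj_iff.2 ⟨z, ?_⟩)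
    rw [mul_inv_eq_iff_eq_mul]
    refine hinj (LinearEquiv.ext fun x => ?_)
    rw [hρ, hρ, hz]
    exact heA x
  have h := Nat.card_le_card_of_injective _ hΦ
  letI : ∀ g, Fintype (α g) := hα
  rw [Nat.card_sigma] at h
  simp only [Nat.card_eq_fintype_card] at h
  refine (Nat.mul_le_mul_left 2 h).trans ?_
  rw [Finset.mul_sum, ← Finset.sum_coe_sort (admCodes (RingHom.id F) (1 : F) n)]
  refine Finset.sum_le_sum fun g _ => ?_
  split_ifs with hs
  · exact (hcard2 g hs).trans (Nat.le_add_right _ _)
  · have := hcard g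
    rw [weight_one_of_not_hasSpec hs] at this ⊢
    omega

end Cfsg.Agent.Lib.ClassNumber
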