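import Cfsg.Agent.Lib.ClassNumber.Piece

/-!
Existence of generators of pieces at a top exponent, and adjusting them to given top values.
-/

set_option autoImplicit false

namespace Cfsg.Agent.Lib.ClassNumber

open Polynomial Module

universe u v

variable {F : Type v} [Field F] {θ : F →+* F} {η : F}

/-- `X - 1` or `X + 1`, with trivial involution of the field. -/
def Lin (θ : F →+* F) (r : F[X]) : Prop := (∀ a, θ a = a) ∧ (r = X - C 1 ∨ r = X + C 1)

/-- The blocks which occur in two isometry types. -/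
def Spec (θ : F →+* F) (η : F) (x : F[X] × ℕ) : Prop := Lin θ x.1 ∧ η * (-1) ^ (x.2 - 1) = 1

theorem Lin.exists_root {r : F[X]} (h : Lin θ r) : ∃ e : F, r = X - C e ∧ e * e = 1 := by
  rcases h.2 with h | h
  · exact ⟨1, h, one_mul 1⟩
  · exact ⟨-1, by rw [h, C_neg, sub_neg_eq_add], by ring⟩

theorem Lin.srp_eq {r : F[X]} (h : Lin θ r) : srp θ r = r := by
  have hmap : r.map θ = r := Polynomial.ext fun n => by rw [coeff_map, h.1]
  obtain ⟨e, he, he2⟩ := h.exists_root
  have he0 : e ≠ 0 := left_ne_zero_of_mul_eq_one he2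
  rw [srp, hmap, h.1, he]
  have h1 : (X - C e : F[X]).reverse = 1 - C e * X := by
    rw [reverse, natDegree_X_sub_C]
    ext n
    rcases n with _ | _ | n <;> simp [coeff_reflect, revAt, coeff_X, coeff_C, coeff_one]
  rw [h1, coeff_sub, coeff_X_zero, coeff_C_zero, zero_sub, show (-e)⁻¹ = -e by
    rw [inv_neg, inv_eq_of_mul_eq_one_right he2], C_neg, mul_sub, mul_one, neg_mul]
  rw [← mul_assoc, ← C_mul, he2, C_1]
  ring

theorem exists_pdata (hθ : ∀ a, θ (θ a) = a) {r : F[X]} (hi : Irreducible r) (hm : r.Monic)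
    (h0 : r.coeff 0 ≠ 0) {j : ℕ} (hj : 1 ≤ j) :
    (srp θ r = r → ∃ D : PData θ Unit, D.j = j ∧ D.r () = r ∧ D.f = r) ∧
    ∃ D : PData θ Bool, D.j = j ∧ D.π = not ∧ D.r false = r ∧ D.r true = srp θ r ∧
      (srp θ r = r → D.f = r) ∧ (srp θ r ≠ r → D.f = r * srp θ r) := by
  classical
  have hXi : ∀ f : F[X], f.coeff 0 ≠ 0 → ∃ Xi, f ^ j ∣ X * Xi - 1 := by
    intro f hf
    obtain ⟨a, b, hab⟩ := ((irreducible_X (R := F)).coprime_iff_not_dvd.2
      (fun h => hf (X_dvd_iff.1 h))).pow_right (n := j)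
    exact ⟨a, -b, by linear_combination hab⟩
  constructor
  · intro hs
    obtain ⟨Xi, hX⟩ := hXi r h0
    exact ⟨{ π := id, ππ := fun _ => rfl, r := fun _ => r, t := fun _ => 1, f := r, Xi := Xi, j := j,
             hj := hj, r_irr := fun _ => hi, r_monic := fun _ => hm, f_monic := hm, f0 := h0, f_srp := hs,
             r_dvd := fun _ => dvd_rfl, ht := fun _ => by simp, hπ := fun _ => hs, hXi := hX }, rfl, rfl, rfl⟩
  · have hm' := srp_monic (θ := θ) h0
    have h0' := srp_coeff_zero_ne (θ := θ) hm h0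
    have hi' := srp_irreducible hθ hm hi h0
    by_cases hs : srp θ r = r
    · obtain ⟨Xi, hX⟩ := hXi r h0
      exact ⟨{ π := not, ππ := Bool.not_not, r := fun _ => r, t := fun _ => 1, f := r, Xi := Xi, j := j,
               hj := hj, r_irr := fun _ => hi, r_monic := fun _ => hm, f_monic := hm, f0 := h0, f_srp := hs,
               r_dvd := fun _ => dvd_rfl, ht := fun _ => by simp, hπ := fun _ => hs, hXi := hX },
        rfl, rfl, rfl, hs.symm, fun _ => rfl, fun h => absurd hs h⟩
    · have hne : ¬ r ∣ srp θ r := fun h =>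
        hs (eq_of_monic_of_associated hm hm' (hi.associated_of_dvd hi' h)).symm
      have hne' : ¬ srp θ r ∣ r := fun h =>
        hs (eq_of_monic_of_associated hm' hm (hi'.associated_of_dvd hi h))
      obtain ⟨a, b, hab⟩ := (hi.coprime_iff_not_dvd.2 hne).pow_left (m := j)
      obtain ⟨a', b', hab'⟩ := (hi'.coprime_iff_not_dvd.2 hne').pow_left (m := j)
      obtain ⟨Xi, hX⟩ := hXi (r * srp θ r) (by rw [mul_coeff_zero]; exact mul_ne_zero h0 h0')
      refine ⟨{ π := not, ππ := Bool.not_not, r := fun i => if i then srp θ r else r,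
                t := fun i => if i then b' else b, f := r * srp θ r, Xi := Xi, j := j, hj := hj,
                r_irr := fun i => by cases i <;> simpa, r_monic := fun i => by cases i <;> simpa,
                f_monic := hm.mul hm', f0 := by rw [mul_coeff_zero]; exact mul_ne_zero h0 h0',
                f_srp := by rw [srp_mul, srp_srp hθ hm h0, mul_comm],
                r_dvd := fun i => by cases i <;> simp,
                ht := fun i => ?_, hπ := fun i => by cases i <;> simp [srp_srp hθ hm h0], hXi := hX },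
        rfl, rfl, rfl, rfl, fun h => absurd h hs, fun _ => rfl⟩
      cases i
      · exact ⟨-(r * a), by simp only [Bool.false_eq_true, ↓reduceIte]; linear_combination r * hab⟩
      · exact ⟨-(srp θ r * a'), by simp only [↓reduceIte]; linear_combination srp θ r * hab'⟩

variable {V : Type u} [AddCommGroup V] [Module F V] [FiniteDimensional F V] {T : IForm θ η V}

/-- Exponents at most `j`. -/
def Bounded (T : IForm θ η V) (j : ℕ) : Prop :=
  ∀ p : F[X], Irreducible p → p.Monic → ∀ x, T.op (p ^ j * p ^ j) x = 0 → T.op (p ^ j) x = 0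

omit [FiniteDimensional F V] in
/-- Coprime kernels. -/
theorem eq_zero_of_coprime {p q : F[X]} (h : IsCoprime p q) {x : V} (hp : T.op p x = 0)
    (hq : T.op q x = 0) : x = 0 := by
  obtain ⟨a, b, hab⟩ := h
  rw [← T.op_one_apply x, ← hab, T.op_add_apply, T.op_mul_apply, T.op_mul_apply, hp, hq, map_zero, map_zero,
    add_zero]

omit [FiniteDimensional F V] in
theorem B_g_eq_zero {ι : Type} (D : PData θ ι) {x : V} (hx : T.op D.g x = 0) (y : V) :
    T.B x (T.op D.g y) = 0 :=
  T.eq_zero_comm (T.B_op_eq_zero D.g0 (by rwa [D.g_srp]) y)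

/-- A vector outside the kernel pairs with some vector of the reciprocal kernel. -/
theorem exists_pairing {j : ℕ} (hb : Bounded T j) {s : F[X]} (hs : Irreducible s) (hsm : s.Monic)
    (hs0 : s.coeff 0 ≠ 0) {y : V} (hy : T.op (srp θ s ^ j) y = 0) (hy0 : y ≠ 0) :
    ∃ x, T.op (s ^ j) x = 0 ∧ T.B x y ≠ 0 := by
  by_contra h
  simp only [not_exists, not_and, not_not] at h
  exact hy0 (T.eq_zero_of_orth_ker (by rw [coeff_zero_eq_eval_zero, eval_pow, ← coeff_zero_eq_eval_zero]; exact pow_ne_zero _ hs0)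
    (fun x hx => hb s hs hsm x (by rwa [T.op_mul_apply])) (by rwa [srp_pow]) h)

omit [FiniteDimensional F V] in
theorem isotropic {j : ℕ} {r : F[X]} (hi : Irreducible r) (hθ : ∀ a, θ (θ a) = a) (hm : r.Monic)
    (h0 : r.coeff 0 ≠ 0) (hs : srp θ r ≠ r) {x y : V} (hx : T.op (r ^ j) x = 0) (hy : T.op (r ^ j) y = 0) :
    T.B x y = 0 := by
  have hi' := srp_irreducible hθ hm hi h0
  have hne : ¬ r ∣ srp θ r := fun h =>
    hs (eq_of_monic_of_associated hm (srp_monic h0) (hi.associated_of_dvd hi' h)).symm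
  obtain ⟨a, b, hab⟩ := (hi.coprime_iff_not_dvd.2 hne).pow (m := j) (n := j)
  have e : x = T.op (srp θ r ^ j) (T.op b x) := by
    conv_lhs => rw [← T.op_one_apply x, ← hab, T.op_add_apply, T.op_mul_apply a, hx, map_zero, zero_add,
      mul_comm, T.op_mul_apply]
  rw [e]
  refine T.B_op_eq_zero ?_ (by rwa [srp_pow, srp_srp hθ hm h0]) _
  rw [coeff_zero_eq_eval_zero, eval_pow, ← coeff_zero_eq_eval_zero]
  exact pow_ne_zero _ (srp_coeff_zero_ne hm h0)

omit [FiniteDimensional F V] in
/-- The top value of a linear factor. -/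
theorem top_lin {ι : Type} [Fintype ι] (D : PData θ ι) {e : F} (hf : D.f = X - C e) {v : ι → V}
    (hk : ∀ i, T.op (D.f ^ D.j) (v i) = 0) (k i : ι) (p : F[X]) :
    D.top T v k i p = p.eval e * D.top T v k i 1 := by
  obtain ⟨q, hq⟩ : D.f ∣ p - C (p.eval e) := by rw [hf]; exact X_sub_C_dvd_sub_C_eval
  have hp : p = C (p.eval e) * 1 + D.f * q := by rw [← hq]; ring
  conv_lhs => rw [hp, map_add]
  have h1 : D.top T v k i (D.f * q) = 0 := by
    rw [PData.top_apply, T.op_mul_apply]
    refine B_g_eq_zero D ?_ _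
    rw [← T.op_mul_apply, mul_comm, D.f_mul_g, T.op_comm_apply, hk, map_zero]
  rw [h1, add_zero, show C (p.eval e) * (1 : F[X]) = p.eval e • (1 : F[X]) by rw [smul_eq_C_mul], map_smul,
    smul_eq_mul]

/-- The constant in the symmetry of the top values at `X - e`. -/
theorem lin_const {ι : Type} (D : PData θ ι) {e : F} (hf : D.f = X - C e) (hθ : ∀ a, θ a = a)
    (he : e * e = 1) : θ (D.g.coeff 0) * e ^ D.g.natDegree = (-1) ^ (D.j - 1) := by
  rw [hθ, PData.g, hf, natDegree_pow, natDegree_X_sub_C, mul_one, coeff_zero_eq_eval_zero, eval_pow,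
    eval_sub, eval_X, eval_C, zero_sub, ← mul_pow, neg_mul, he]

omit [FiniteDimensional F V] in
theorem top_lin_self {ι : Type} [Fintype ι] (D : PData θ ι) {e : F} (hf : D.f = X - C e)
    (hr : ∀ i, D.r i = D.f) (hθ : ∀ a, θ a = a) (he : e * e = 1) {v : ι → V}
    (hk : ∀ i, T.op (D.r i ^ D.j) (v i) = 0) (k i : ι) :
    D.top T v k i 1 = η * (-1) ^ (D.j - 1) * D.top T v i k 1 := by
  have hk' : ∀ i, T.op (D.f ^ D.j) (v i) = 0 := fun i => by rw [← hr i]; exact hk i
  rw [PData.top_symm hk, top_lin D hf hk' i k, ← lin_const D hf hθ he]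
  simp only [hθ, eval_mul, eval_pow, eval_X, IForm.bar, Polynomial.map_one, one_comp, eval_one]
  ring

theorem exists_gens_bool {j : ℕ} (hb : Bounded T j) (D : PData θ Bool) (hDj : D.j = j) (hπ : D.π = not)
    {v₀ : V} (hv : T.op (D.r false ^ j) v₀ = 0) (hv0 : T.op (D.r false ^ (j - 1)) v₀ ≠ 0)
    (hs : D.r true = srp θ (D.r false))
    (hcase : (srp θ (D.r false) ≠ D.r false ∧ D.f = D.r false * srp θ (D.r false)) ∨
      (Lin θ (D.r false) ∧ ¬ Spec θ η (D.r false, j) ∧ D.f = D.r false)) :
    ∃ v, D.Gens T v := by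
  classical
  have hinv := T.inv
  set r := D.r false
  have hi := D.r_irr false
  have hm := D.r_monic false
  have h0 := D.r0 false
  have hy0 : T.op D.g v₀ ≠ 0 := by
    rcases hcase with ⟨hne, hf⟩ | ⟨-, -, hf⟩
    · rw [PData.g, hf, mul_pow, T.op_mul_apply, T.op_comm_apply]
      intro h
      rw [hDj] at h
      apply hv0
      refine eq_zero_of_coprime (T := T) ?_ (T.op_eq_zero_of_dvd (dvd_refl _) ?_) h
        (p := r ^ j)
      · have hne' : ¬ r ∣ srp θ r := fun h =>
          hne (eq_of_monic_of_associated hm (srp_monic h0) (hi.associated_of_dvd (srp_irreducible hinv hm hi h0) h)).symm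
        exact (hi.coprime_iff_not_dvd.2 hne').pow
      · rw [T.op_comm_apply, hv, map_zero]
    · rwa [PData.g, hf, hDj]
  have hy : T.op (srp θ (srp θ r) ^ j) (T.op D.g v₀) = 0 := by
    rw [srp_srp hinv hm h0, T.op_comm_apply, hv, map_zero]
  obtain ⟨w, hw, hwy⟩ := exists_pairing hb (srp_irreducible hinv hm hi h0) (srp_monic h0)
    (srp_coeff_zero_ne hm h0) hy hy0
  let v : Bool → V := fun i => if i then w else v₀
  have hkill : ∀ i, T.op (D.r i ^ D.j) (v i) = 0 := by
    intro i
    cases i
    · simpa [v, hDj] using hv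
    · simpa [v, hDj, hs] using hw
  have h1 : D.top T v true false 1 ≠ 0 := by
    simpa [PData.top_apply, v, T.op_one_apply] using hwy
  refine ⟨v, ⟨hkill, fun k i hki p => ?_, fun i => ?_⟩⟩
  · have hki' : k = i := by rw [hπ] at hki; revert hki; cases k <;> cases i <;> simp
    subst hki'
    rcases hcase with ⟨hne, -⟩ | ⟨hlin, hspec, hf⟩
    · rw [PData.top_apply]
      have hne' : srp θ (D.r k) ≠ D.r k := by
        cases k
        · exact hne
        · rw [hs, srp_srp hinv hm h0]; exact hne.symm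
      refine isotropic (D.r_irr k) hinv (D.r_monic k) (D.r0 k) hne' (j := D.j) ?_ ?_ <;>
        rw [T.op_comm_apply, hkill k, map_zero]
    · obtain ⟨e, he, he2⟩ := hlin.exists_root
      have hf' : D.f = X - C e := hf.trans he
      have hr : ∀ i, D.r i = D.f := fun i => by
        cases i
        · exact hf.symm
        · rw [hs, hlin.srp_eq]; exact hf.symm
      rw [top_lin D hf' (fun i => by rw [← hr i]; exact hkill i)]
      have h2 := top_lin_self (T := T) D hf' hr hlin.1 he2 hkill k k
      have h3 : η * (-1) ^ (D.j - 1) ≠ 1 := fun h => hspec ⟨hlin, by rw [← hDj]; exact h⟩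
      have h4 : (1 - η * (-1) ^ (D.j - 1)) * D.top T v k k 1 = 0 := by linear_combination h2
      rw [(mul_eq_zero.1 h4).resolve_left (sub_ne_zero.2 h3.symm), mul_zero]
  · rw [hπ]
    cases i
    · exact ⟨1, h1⟩
    · refine ⟨X ^ D.g.natDegree * IForm.bar θ D.Xi 1, fun h => h1 ?_⟩
      rw [PData.top_symm hkill true false 1]
      rw [show (!true) = false from rfl] at h
      rw [h, map_zero, mul_zero]

theorem exists_gens_unit_op {j : ℕ} (hb : Bounded T j) (D : PData θ Unit)
    (hz : Lin θ (D.r ()) → ∃ z : F, z + θ z = 1)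
    (hDj : D.j = j) (hf : D.f = D.r ()) (hnl : Lin θ (D.r ()) → Spec θ η (D.r (), j))
    {y₀ : V} (hy : T.op (D.r () ^ j) y₀ = 0) (hy0 : T.op (D.r () ^ (j - 1)) y₀ ≠ 0) :
    ∃ v, D.Gens T v := by
  classical
  by_contra hno
  set r := D.r ()
  have hi := D.r_irr ()
  have hm := D.r_monic ()
  have hself : srp θ r = r := by
    have := D.hπ ()
    rwa [show D.π () = () from rfl] at this
  have hdiag : ∀ x, T.op (r ^ j) x = 0 → ∀ p, T.B (T.op p x) (T.op D.g x) = 0 := by
    intro x hx p
    by_contra h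
    exact hno ⟨fun _ => x, ⟨fun _ => by rw [hDj]; exact hx, fun k i hki => absurd rfl hki,
      fun _ => ⟨p, h⟩⟩⟩
  have hpolar : ∀ x y, T.op (r ^ j) x = 0 → T.op (r ^ j) y = 0 → ∀ p,
      T.B (T.op p x) (T.op D.g y) + T.B (T.op p y) (T.op D.g x) = 0 := by
    intro x y hx hy p
    have h := hdiag (x + y) (by rw [map_add, hx, hy, add_zero]) p
    rw [map_add, map_add, T.add_left, T.add_right, T.add_right, hdiag x hx p, hdiag y hy p, zero_add,
      add_zero] at h
    exact h
  have hid : ∀ a, θ a = a := by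
    by_contra h
    simp only [not_forall] at h
    obtain ⟨c, hc⟩ := h
    have hy1 : T.op D.g y₀ ≠ 0 := by rwa [PData.g, hf, hDj]
    obtain ⟨x, hx, hxy⟩ := exists_pairing hb hi hm (D.r0 ()) (y := T.op D.g y₀)
      (by rw [hself, T.op_comm_apply, hy, map_zero]) hy1
    have h1 := hpolar x y₀ hx hy 1
    have h2 := hpolar x (c • y₀) hx (by rw [map_smul, hy, smul_zero]) 1
    simp only [T.op_one_apply, map_smul, T.smul_left, T.smul_right] at h1 h2
    have h3 : (θ c - c) * T.B x (T.op D.g y₀) = 0 := by linear_combination h2 - c * h1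
    exact hxy ((mul_eq_zero.1 h3).resolve_left (sub_ne_zero.2 hc))
  set κ := η * θ (D.g.coeff 0)
  have hmain : ∀ p, r ∣ p + C κ * (X ^ D.g.natDegree * IForm.bar θ D.Xi p) := by
    intro p
    by_contra hq
    set q := p + C κ * (X ^ D.g.natDegree * IForm.bar θ D.Xi p)
    apply hy0
    have hy1 : T.op D.g y₀ = 0 := by
      have hq2 : T.op (IForm.bar θ D.Xi q) (T.op D.g y₀) = 0 := by
        by_contra hne
        obtain ⟨x, hx, hxy⟩ := exists_pairing hb hi hm (D.r0 ())
          (by rw [hself, T.op_comm_apply, T.op_comm_apply (r ^ j), hy, map_zero, map_zero]) hne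
        apply hxy
        rw [← T.adj_bar D.hXi q x (by rw [T.op_comm_apply, hf, hDj, hy, map_zero])]
        rw [T.op_add_apply, T.add_left, T.op_mul_apply, T.op_C_apply, T.smul_left]
        have h1 := hpolar x y₀ hx hy p
        have h2 : T.B (T.op p y₀) (T.op D.g x) =
            κ * θ (T.B (T.op (X ^ D.g.natDegree * IForm.bar θ D.Xi p) x) (T.op D.g y₀)) := by
          rw [T.symm, T.adj_self D.g_srp D.g0, map_mul, ← mul_assoc]
          congr 2
          rw [← T.op_mul_apply D.g p, mul_comm D.g p, T.op_mul_apply,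
            T.adj_bar' D.hXi p (x := T.op (X ^ D.g.natDegree) x)
              (by rw [T.op_comm_apply, hf, hDj, hx, map_zero]),
            ← T.op_mul_apply, mul_comm]
        rw [h2, hid] at h1
        exact h1
      have hcop : IsCoprime (D.r (D.π ()) ^ j) (IForm.bar θ D.Xi q) :=
        ((D.r_irr _).coprime_iff_not_dvd.2 (D.not_dvd_bar hq)).pow_left
      refine eq_zero_of_coprime hcop ?_ hq2
      show T.op (r ^ j) _ = 0
      rw [T.op_comm_apply, hy, map_zero]
    rwa [PData.g, hf, hDj] at hy1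
  have hp1 := hmain 1
  have hpX := hmain X
  have hlin : Lin θ r := by
    refine ⟨hid, ?_⟩
    simp only [IForm.bar, Polynomial.map_one, one_comp, mul_one] at hp1
    simp only [IForm.bar, map_X, X_comp] at hpX
    have hrXi : r ∣ X * D.Xi - 1 := by
      refine (dvd_pow_self r (n := D.j) (by have := D.hj; omega)).trans ?_
      rw [← hf]; exact D.hXi
    have h2 : r ∣ (X - C 1) * (X + C 1) := by
      have := dvd_sub (dvd_add (dvd_mul_of_dvd_right hpX X) hrXi) (dvd_mul_of_dvd_right hp1 (X * D.Xi))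
      convert this using 1
      rw [C_1]
      ring
    rcases hi.prime.dvd_or_dvd h2 with h3 | h3
    · exact Or.inl (eq_of_monic_of_associated hm (monic_X_sub_C 1)
        (hi.associated_of_dvd (irreducible_X_sub_C 1) h3))
    · exact Or.inr (eq_of_monic_of_associated hm (monic_X_add_C 1)
        (hi.associated_of_dvd (by rw [← sub_neg_eq_add, ← C_neg]; exact irreducible_X_sub_C _) h3))
  obtain ⟨e, he, he2⟩ := hlin.exists_root
  have hsp := (hnl hlin).2
  have h5 : (1 : F) + η * (-1) ^ (D.j - 1) = 0 := by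
    have h6 : (1 + C κ * (X ^ D.g.natDegree * IForm.bar θ D.Xi 1)).eval e = 0 := by
      rw [he] at hp1; exact dvd_iff_isRoot.1 hp1
    rw [← lin_const D (hf.trans he) hid he2]
    simpa [IForm.bar, κ, mul_assoc] using h6
  rw [hDj, hsp] at h5
  obtain ⟨z, hz⟩ := hz hlin
  rw [hid] at hz
  exact one_ne_zero (by linear_combination (-1 : F) * hz + z * h5)

theorem exists_gens_unit {j : ℕ} (hb : Bounded T j) (hz : ∃ z : F, z + θ z = 1) (D : PData θ Unit)
    (hDj : D.j = j) (hf : D.f = D.r ()) (hnl : Lin θ (D.r ()) → Spec θ η (D.r (), j))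
    {y₀ : V} (hy : T.op (D.r () ^ j) y₀ = 0) (hy0 : T.op (D.r () ^ (j - 1)) y₀ ≠ 0) :
    ∃ v, D.Gens T v :=
  exists_gens_unit_op hb D (fun _ => hz) hDj hf hnl hy hy0

theorem exists_gens_square [Finite F] {j : ℕ} (hb : Bounded T j) (hz : ∃ z : F, z + θ z = 1)
    (D : PData θ Unit) (hDj : D.j = j) (hf : D.f = D.r ()) (hsp : Spec θ η (D.r (), j))
    (hrank : finrank F (LinearMap.ker (T.op (D.r () ^ (j - 1)))) + 2 ≤
      finrank F (LinearMap.ker (T.op (D.r () ^ j)))) :
    ∃ v, D.Gens T v ∧ IsSquare (D.top T v () () 1) := by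
  classical
  haveI : Fintype F := Fintype.ofFinite F
  set r := D.r ()
  obtain ⟨e, he, he2⟩ := hsp.1.exists_root
  have hf' : D.f = X - C e := hf.trans he
  have hid := hsp.1.1
  have hgr : D.g = r ^ (j - 1) := by rw [PData.g, hf, hDj]
  let K := LinearMap.ker (T.op (r ^ j))
  have hyex : ∃ y₀, T.op (r ^ j) y₀ = 0 ∧ T.op (r ^ (j - 1)) y₀ ≠ 0 := by
    by_contra h
    simp only [not_exists, not_and, not_not] at h
    have := Submodule.finrank_mono (s := K) (t := LinearMap.ker (T.op (r ^ (j - 1)))) (fun x hx => h x hx)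
    simp only [K] at this
    omega
  obtain ⟨y₀, hy₀, hy₀'⟩ := hyex
  obtain ⟨v, hv⟩ := exists_gens_unit hb hz D hDj hf (fun _ => hsp) hy₀ hy₀'
  have hkill : ∀ i, T.op (D.r i ^ D.j) (v i) = 0 := hv.kill
  set v₁ := v ()
  have hv1K : T.op (r ^ j) v₁ = 0 := by rw [← hDj]; exact hkill ()
  -- the symmetric form on the kernel
  have hsym : ∀ x y, T.op (r ^ j) x = 0 → T.op (r ^ j) y = 0 → T.B x (T.op D.g y) = T.B y (T.op D.g x) := by
    intro x y hx hy
    rw [T.symm x, hid, T.adj_self D.g_srp D.g0]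
    have hA : T.op (X ^ D.g.natDegree) y - e ^ D.g.natDegree • y = T.op (X ^ D.g.natDegree - C (e ^ D.g.natDegree)) y := by
      rw [T.op_sub_apply, T.op_C_apply]
    have h0 : T.B (T.op (X ^ D.g.natDegree) y - e ^ D.g.natDegree • y) (T.op D.g x) = 0 := by
      rw [hA]
      refine B_g_eq_zero D ?_ _
      rw [← T.op_mul_apply]
      refine T.op_eq_zero_of_dvd ?_ hy
      rw [← hDj, ← hf, ← D.f_mul_g, mul_comm D.g]
      refine mul_dvd_mul_right ?_ _
      rw [hf', C_pow]
      exact sub_dvd_pow_sub_pow X (C e) _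
    rw [T.sub_left, sub_eq_zero] at h0
    rw [h0, T.smul_left, ← mul_assoc, ← mul_assoc]
    have h1 : η * θ (D.g.coeff 0) * e ^ D.g.natDegree = 1 := by
      rw [mul_assoc, lin_const D hf' hid he2, hDj]; exact hsp.2
    rw [hid] at h1
    rw [h1, one_mul]
  set c₁ := T.B v₁ (T.op D.g v₁)
  have hc₁ : c₁ ≠ 0 := by
    intro h0
    obtain ⟨p, hp⟩ := hv.ne ()
    apply hp
    rw [show D.π () = () from rfl, top_lin D hf' (fun i => by rw [hf]; exact hkill i)]
    show _ * T.B (T.op 1 v₁) _ = 0
    rw [T.op_one_apply]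
    exact mul_eq_zero_of_right _ h0
  have hex : ∃ w, T.op (r ^ j) w = 0 ∧ T.B w (T.op D.g v₁) = 0 ∧ T.B w (T.op D.g w) ≠ 0 := by
    by_contra h
    simp only [not_exists, not_and, not_not] at h
    have hz2 : (2 : F) ≠ 0 := by
      obtain ⟨z, hz⟩ := hz
      rw [hid] at hz
      intro h2
      exact one_ne_zero (by linear_combination (-1 : F) * hz + z * h2)
    have hle : K.map (T.op D.g) ≤ Submodule.span F {T.op D.g v₁} := by
      rintro _ ⟨y, hy, rfl⟩
      set a := T.B y (T.op D.g v₁) / c₁
      set y' := y - a • v₁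
      have hy' : T.op (r ^ j) y' = 0 := by
        rw [map_sub, map_smul, show T.op (r ^ j) y = 0 from hy, hv1K, smul_zero, sub_zero]
      have hort : T.B y' (T.op D.g v₁) = 0 := by
        rw [T.sub_left, T.smul_left]
        exact sub_eq_zero.2 (div_mul_cancel₀ _ hc₁).symm
      have h0 : T.op D.g y' = 0 := by
        by_contra hne
        obtain ⟨x, hx, hxy⟩ := exists_pairing hb (D.r_irr ()) (D.r_monic ()) (D.r0 ())
          (by rw [hsp.1.srp_eq, T.op_comm_apply, hy', map_zero]) hne
        apply hxy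
        set a' := T.B x (T.op D.g v₁) / c₁
        have hxK : T.op (r ^ j) (x - a' • v₁) = 0 := by
          rw [map_sub, map_smul, hx, hv1K, smul_zero, sub_zero]
        have hxo : T.B (x - a' • v₁) (T.op D.g v₁) = 0 := by
          rw [T.sub_left, T.smul_left]
          exact sub_eq_zero.2 (div_mul_cancel₀ _ hc₁).symm
        have hsum := h (x - a' • v₁ + y') (by rw [map_add, hxK, hy', add_zero])
          (by rw [T.add_left, hxo, hort, add_zero])
        rw [map_add, T.add_left, T.add_right, T.add_right, h _ hxK hxo, h _ hy' hort,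
          hsym y' _ hy' hxK, zero_add, add_zero, ← two_mul] at hsum
        have h3 := (mul_eq_zero.1 hsum).resolve_left hz2
        rwa [T.sub_left, T.smul_left, hsym v₁ y' hv1K hy', hort, mul_zero, sub_zero] at h3
      rw [map_sub, map_smul, sub_eq_zero] at h0
      rw [h0]
      exact Submodule.smul_mem _ _ (Submodule.mem_span_singleton_self _)
    have h1 := LinearMap.finrank_range_add_finrank_ker ((T.op D.g).domRestrict K)
    rw [LinearMap.range_domRestrict] at h1
    have h2 := Submodule.finrank_mono hle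
    have h3 : finrank F (Submodule.span F {T.op D.g v₁}) ≤ 1 := by
      by_cases h : T.op D.g v₁ = 0
      · rw [h, Submodule.span_zero_singleton, finrank_bot]; omega
      · rw [finrank_span_singleton h]
    have h4 : finrank F (LinearMap.ker ((T.op D.g).domRestrict K)) ≤ finrank F (LinearMap.ker (T.op D.g)) :=
      LinearMap.finrank_le_finrank_of_injective
        (f := (K.subtype.comp (LinearMap.ker ((T.op D.g).domRestrict K)).subtype).codRestrict _ (fun x => x.2))
        (fun a b hab => Subtype.ext (Subtype.ext (congrArg Subtype.val hab :)))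
    rw [hgr] at h4 h1 h2 h3
    simp only [K] at *
    omega
  obtain ⟨w, hw, hwo, hww⟩ := hex
  obtain ⟨a, b, hab⟩ : ∃ a b : F, c₁ * a ^ 2 + T.B w (T.op D.g w) * b ^ 2 = 1 := by
    obtain ⟨a, b, hab⟩ := FiniteField.exists_root_sum_quadratic (R := F)
      (f := C c₁ * X ^ 2) (g := C (T.B w (T.op D.g w)) * X ^ 2 - C 1)
      (by rw [degree_C_mul hc₁, degree_X_pow]; rfl)
      (by rw [degree_sub_C (by rw [degree_C_mul hww, degree_X_pow]; decide), degree_C_mul hww, degree_X_pow]; rfl)
      (by
        refine FiniteField.odd_card_of_char_ne_two fun h2 => ?_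
        obtain ⟨z, hz⟩ := hz
        rw [hid] at hz
        haveI : CharP F 2 := ringChar.eq_iff.1 h2
        rw [CharTwo.add_self_eq_zero] at hz
        exact zero_ne_one hz)
    exact ⟨a, b, by simp at hab; linear_combination hab⟩
  refine ⟨fun _ => a • v₁ + b • w, ?_, ?_⟩
  · refine ⟨fun _ => ?_, fun k i hki => absurd rfl hki, fun _ => ⟨1, ?_⟩⟩
    · rw [hDj, map_add, map_smul, map_smul, show T.op (r ^ j) v₁ = 0 from hv1K, hw, smul_zero, smul_zero, add_zero]
    · rw [show D.top T _ (D.π ()) () 1 = T.B (T.op 1 (a • v₁ + b • w)) (T.op D.g (a • v₁ + b • w)) from rfl,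
        T.op_one_apply, map_add, map_smul, map_smul, T.add_left, T.smul_left, T.smul_left, T.add_right,
        T.add_right, T.smul_right, T.smul_right, T.smul_right, T.smul_right, hid, hid,
        hsym v₁ w hv1K hw, hwo]
      intro h0
      exact one_ne_zero (by linear_combination h0 - hab)
  · refine ⟨1, ?_⟩
    rw [show D.top T _ () () 1 = T.B (T.op 1 (a • v₁ + b • w)) (T.op D.g (a • v₁ + b • w)) from rfl,
      T.op_one_apply, map_add, map_smul, map_smul, T.add_left, T.smul_left, T.smul_left, T.add_right,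
      T.add_right, T.smul_right, T.smul_right, T.smul_right, T.smul_right, hid, hid,
      hsym v₁ w hv1K hw, hwo]
    linear_combination hab

section Adjust

variable {W : Type u} [AddCommGroup W] [Module F W] [FiniteDimensional F W] {S : IForm θ η W}
variable {ι : Type} [Fintype ι] {D : PData θ ι}

omit [FiniteDimensional F W] in
theorem sub_smul_le (u : ι → F[X]) (w : ι → W) :
    PData.sub S (fun i => S.op (u i) (w i)) ≤ PData.sub S w := by
  rintro _ ⟨a, rfl⟩
  exact ⟨fun i => a i * u i, Finset.sum_congr rfl fun i _ => S.op_mul_apply _ _ _⟩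

theorem sub_eq_of_gens {u : ι → F[X]} {w : ι → W} (h : D.Gens S w)
    (h' : D.Gens S (fun i => S.op (u i) (w i))) :
    PData.sub S (fun i => S.op (u i) (w i)) = PData.sub S w :=
  Submodule.eq_of_le_of_finrank_eq (sub_smul_le u w)
    ((PData.modelEquiv h').symm.trans (PData.modelEquiv h)).finrank_eq

omit [FiniteDimensional F V] [FiniteDimensional F W] in
theorem match_unit_norm [Finite F] {D : PData θ Unit} {v : Unit → V} {w : Unit → W} (h : D.Gens T v)
    (h' : D.Gens S w) (hnl : ¬ Lin θ (D.r ())) :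
    ∃ u : Unit → F[X], D.Gens S (fun i => S.op (u i) (w i)) ∧
      ∀ k i p, D.top T v k i p = D.top S (fun i => S.op (u i) (w i)) k i p := by
  have hXi : D.r () ∣ X * D.Xi - 1 :=
    (D.r_dvd ()).trans ((dvd_pow_self _ (by have := D.hj; omega)).trans D.hXi)
  have hself : srp θ (D.r ()) = D.r () := by
    have := D.hπ (); rwa [show D.π () = () from rfl] at this
  obtain ⟨u, -, hu⟩ := exists_norm_mul T.inv (D.r_irr ()) (D.r_monic ()) (D.r0 ()) hself
    (φ := D.top S w () ()) (ψ := D.top T v () ())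
    (fun p => PData.top_dvd (D := D) h'.kill () p) (h'.ne ())
    (fun p => PData.top_dvd (D := D) h.kill () p) (h.ne ()) hXi
    (η * θ (D.g.coeff 0)) D.g.natDegree (fun p => PData.top_symm h'.kill () () p)
    (fun p => PData.top_symm h.kill () () p) hnl
  have htop : ∀ k i p, D.top T v k i p = D.top S (fun i => S.op u (w i)) k i p := by
    intro k i p
    rw [show k = () from rfl, show i = () from rfl, hu, PData.top_apply, PData.top_apply,
      S.op_comm_apply D.g u,
      S.adj_bar' D.hXi u (x := S.op p (S.op u (w ())))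
        (by rw [S.op_comm_apply, S.op_comm_apply (D.f ^ D.j), PData.kill_f h'.kill, map_zero, map_zero]),
      ← S.op_mul_apply, ← S.op_mul_apply]
    show S.B (S.op (p * (u * IForm.bar θ D.Xi u)) _) _ = _
    congr 2
    congr 1
    ring
  refine ⟨fun _ => u, ⟨fun i => ?_, fun k i hki => absurd rfl hki, fun i => ?_⟩, htop⟩
  · rw [S.op_comm_apply, h'.kill, map_zero]
  · obtain ⟨p, hp⟩ := h.ne i
    exact ⟨p, by rwa [← htop]⟩

omit [FiniteDimensional F V] [FiniteDimensional F W] in
theorem match_unit_spec [Finite F] {D : PData θ Unit} {v : Unit → V} {w : Unit → W} (h : D.Gens T v)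
    (h' : D.Gens S w) (hl : Lin θ (D.r ())) (hf : D.f = D.r ())
    (hsq : IsSquare (D.top T v () () 1) ↔ IsSquare (D.top S w () () 1)) :
    ∃ u : Unit → F[X], D.Gens S (fun i => S.op (u i) (w i)) ∧
      ∀ k i p, D.top T v k i p = D.top S (fun i => S.op (u i) (w i)) k i p := by
  classical
  haveI : Fintype F := Fintype.ofFinite F
  obtain ⟨e, he, -⟩ := hl.exists_root
  have hf' : D.f = X - C e := hf.trans he
  set c := D.top T v () () 1
  set c' := D.top S w () () 1
  have hne : ∀ {U : Type u} [AddCommGroup U] [Module F U] {R : IForm θ η U} {x : Unit → U},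
      D.Gens R x → D.top R x () () 1 ≠ 0 := by
    intro U _ _ R x hx h0
    obtain ⟨p, hp⟩ := hx.ne ()
    exact hp (by rw [top_lin D hf' (fun i => PData.kill_f hx.kill i), h0, mul_zero])
  have hc : c ≠ 0 := hne h
  have hc' : c' ≠ 0 := hne h'
  obtain ⟨s, hs⟩ : IsSquare (c / c') := by
    by_cases hcs : IsSquare c
    · exact hcs.div (hsq.1 hcs)
    · have h1 := quadraticChar_neg_one_iff_not_isSquare.2 hcs
      have h2 := quadraticChar_neg_one_iff_not_isSquare.2 (fun hx => hcs (hsq.2 hx))
      rw [← quadraticChar_one_iff_isSquare (div_ne_zero hc hc'), div_eq_mul_inv, map_mul, h1]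
      have h3 : quadraticChar F c' * quadraticChar F c'⁻¹ = 1 := by
        rw [← map_mul, mul_inv_cancel₀ hc', map_one]
      rw [h2] at h3
      linarith
  have htop : ∀ k i p, D.top T v k i p = D.top S (fun i => S.op (C s) (w i)) k i p := by
    intro k i p
    rw [show k = () from rfl, show i = () from rfl, top_lin D hf' (fun i => PData.kill_f h.kill i),
      top_lin D hf' (fun i => by rw [S.op_comm_apply, PData.kill_f h'.kill i, map_zero]) () () p]
    congr 1
    rw [PData.top_apply (v := fun i => S.op (C s) (w i))]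
    simp only [S.op_one_apply, S.op_C_apply, map_smul, S.smul_left, S.smul_right, hl.1]
    have h4 : T.B (T.op 1 (v ())) (T.op D.g (v ())) = c := rfl
    have h5 : S.B (w ()) (S.op D.g (w ())) = c' := by
      show _ = S.B (S.op 1 (w ())) (S.op D.g (w ())); rw [S.op_one_apply]
    rw [PData.top_apply, h4, h5, ← mul_assoc, ← hs, div_mul_cancel₀ _ hc']
  refine ⟨fun _ => C s, ⟨fun i => ?_, fun k i hki => absurd rfl hki, fun i => ?_⟩, htop⟩
  · rw [S.op_comm_apply, h'.kill, map_zero]
  · obtain ⟨p, hp⟩ := h.ne i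
    exact ⟨p, by rwa [← htop]⟩

omit [FiniteDimensional F V] [FiniteDimensional F W] in
theorem match_bool {D : PData θ Bool} (hπ : D.π = not) {v : Bool → V} {w : Bool → W} (h : D.Gens T v)
    (h' : D.Gens S w) :
    ∃ u : Bool → F[X], D.Gens S (fun i => S.op (u i) (w i)) ∧
      ∀ k i p, D.top T v k i p = D.top S (fun i => S.op (u i) (w i)) k i p := by
  classical
  have hπf : D.π false = true := by rw [hπ]; rfl
  obtain ⟨u, hu⟩ := exists_mul_eq (D.r_irr true) (D.r_monic true) (φ := D.top S w true false)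
    (ψ := D.top T v true false)
    (fun p => by have := PData.top_dvd (D := D) h'.kill false p; rwa [hπf] at this)
    (by have := h'.ne false; rwa [hπf] at this)
    (fun p => by have := PData.top_dvd (D := D) h.kill false p; rwa [hπf] at this)
  let uu : Bool → F[X] := fun i => if i then u else 1
  have hk : ∀ i, S.op (D.r i ^ D.j) (S.op (uu i) (w i)) = 0 := fun i => by
    rw [S.op_comm_apply, h'.kill, map_zero]
  have htf : ∀ p, D.top T v true false p = D.top S (fun i => S.op (uu i) (w i)) true false p := by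
    intro p
    rw [hu, PData.top_apply, PData.top_apply]
    simp only [uu, ↓reduceIte, Bool.false_eq_true, S.op_one_apply, ← S.op_mul_apply]
  have hzero : ∀ k i, k ≠ D.π i → ∀ p, D.top S (fun i => S.op (uu i) (w i)) k i p = 0 := by
    intro k i hki p
    rw [PData.top_apply, S.op_comm_apply D.g,
      S.adj_bar' D.hXi (uu i) (x := S.op p (S.op (uu k) (w k)))
        (by rw [S.op_comm_apply, S.op_comm_apply (D.f ^ D.j), PData.kill_f h'.kill, map_zero, map_zero]),
      ← S.op_mul_apply, ← S.op_mul_apply, ← PData.top_apply, h'.zero k i hki]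
  have htop : ∀ k i p, D.top T v k i p = D.top S (fun i => S.op (uu i) (w i)) k i p := by
    intro k i p
    cases k <;> cases i
    · rw [h.zero _ _ (by rw [hπ]; simp), hzero _ _ (by rw [hπ]; simp)]
    · rw [PData.top_symm h.kill, PData.top_symm hk, htf]
    · exact htf p
    · rw [h.zero _ _ (by rw [hπ]; simp), hzero _ _ (by rw [hπ]; simp)]
  refine ⟨uu, ⟨hk, hzero, fun i => ?_⟩, htop⟩
  obtain ⟨p, hp⟩ := h.ne i
  exact ⟨p, by rwa [← htop]⟩

end Adjust

end Cfsg.Agent.Lib.ClassNumber
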