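import Cfsg.Agent.Lib.ClassNumber.OddCount

/-!
Generating function bounds for the count of orthogonal data in odd dimension.
-/

set_option autoImplicit false

namespace Cfsg.Agent.Lib.ClassNumber

/-- The factor of block size `J` in the generating function. -/
noncomputable def gF (c z : ℝ) (J : ℕ) : ℝ :=
  (if Odd J then (1 + z ^ J) ^ 4 else 1) / (1 - c * z ^ (2 * J))

theorem geom_part {c x : ℝ} (hc : 0 ≤ c) (hx : 0 ≤ x) (h1 : c * x ^ 2 < 1) (i L : ℕ) :
    ∑ t ∈ (Finset.range L).filter (fun t => i ≤ t ∧ (t - i) % 2 = 0), c ^ ((t - i) / 2) * x ^ t ≤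
      x ^ i * (1 / (1 - c * x ^ 2)) := by
  calc ∑ t ∈ (Finset.range L).filter (fun t => i ≤ t ∧ (t - i) % 2 = 0), c ^ ((t - i) / 2) * x ^ t
      ≤ ∑ t ∈ (Finset.range L).image (fun k => i + 2 * k), c ^ ((t - i) / 2) * x ^ t := by
        refine Finset.sum_le_sum_of_subset_of_nonneg (fun t ht => ?_) fun t _ _ => by positivity
        simp only [Finset.mem_filter, Finset.mem_range, Finset.mem_image] at ht ⊢
        exact ⟨(t - i) / 2, by omega, by omega⟩
    _ = ∑ k ∈ Finset.range L, x ^ i * (c * x ^ 2) ^ k := by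
        rw [Finset.sum_image fun a _ b _ h => by simpa using h]
        refine Finset.sum_congr rfl fun k _ => ?_
        rw [Nat.add_sub_cancel_left, Nat.mul_div_cancel_left _ Nat.two_pos, pow_add, pow_mul, mul_pow]
        ring
    _ ≤ _ := by
        rw [← Finset.mul_sum]
        exact mul_le_mul_of_nonneg_left (geom_real_le (by positivity) h1 L) (by positivity)

theorem sum_hd_le (q : ℕ) {x : ℝ} (hx : 0 ≤ x) (h1 : (q : ℝ) * x ^ 2 < 1) (L : ℕ) :
    ∑ t ∈ Finset.range L, (hd q t : ℝ) * x ^ t ≤ (1 + x) ^ 4 / (1 - q * x ^ 2) := by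
  simp only [hd]
  push_cast
  simp only [Finset.sum_mul, ite_mul, zero_mul]
  rw [Finset.sum_comm]
  simp only [← Finset.sum_filter]
  refine le_trans (Finset.sum_le_sum (g := fun i => (Nat.choose 4 i : ℝ) * (x ^ i * (1 / (1 - q * x ^ 2))))
    fun i _ => ?_) (le_of_eq ?_)
  · simp only [mul_assoc, ← Finset.mul_sum]
    exact mul_le_mul_of_nonneg_left (geom_part (Nat.cast_nonneg q) hx h1 i L) (Nat.cast_nonneg _)
  · simp [Finset.sum_range_succ, Nat.choose]
    ring

theorem sum_ofac_le (q : ℕ) {J : ℕ} (hJ : 1 ≤ J) {z : ℝ} (hz : 0 ≤ z)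
    (h1 : (q : ℝ) * z ^ (2 * J) < 1) (L : ℕ) :
    ∑ u ∈ Finset.range L, (ofac q J u : ℝ) * z ^ u ≤ gF q z J := by
  have e : z ^ (2 * J) = (z ^ J) ^ 2 := by rw [mul_comm, pow_mul]
  have hx : 0 ≤ z ^ J := by positivity
  rw [e] at h1
  calc ∑ u ∈ Finset.range L, (ofac q J u : ℝ) * z ^ u
      = ∑ u ∈ (Finset.range L).filter (fun u => u % J = 0), (ofac q J u : ℝ) * z ^ u := by
        rw [Finset.sum_filter]
        refine Finset.sum_congr rfl fun u _ => ?_
        split_ifs with h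
        · rfl
        · simp [ofac, h]
    _ ≤ ∑ u ∈ (Finset.range L).image (fun t => J * t), (ofac q J u : ℝ) * z ^ u := by
        refine Finset.sum_le_sum_of_subset_of_nonneg (fun u hu => ?_) fun u _ _ => by positivity
        simp only [Finset.mem_filter, Finset.mem_range, Finset.mem_image] at hu ⊢
        exact ⟨u / J, lt_of_le_of_lt (Nat.div_le_self u J) hu.1, Nat.mul_div_cancel' (Nat.dvd_of_mod_eq_zero hu.2)⟩
    _ = ∑ t ∈ Finset.range L, (ofac q J (J * t) : ℝ) * (z ^ J) ^ t := by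
        rw [Finset.sum_image fun a _ b _ h => Nat.eq_of_mul_eq_mul_left hJ h]
        exact Finset.sum_congr rfl fun t _ => by rw [pow_mul]
    _ ≤ _ := by
        rw [gF, e]
        rcases Nat.even_or_odd J with he | ho
        · rw [if_neg (Nat.not_odd_iff_even.2 he)]
          refine le_trans (le_of_eq ?_) ((geom_part (Nat.cast_nonneg q) hx h1 0 L).trans_eq (by rw [pow_zero, one_mul]))
          rw [Finset.sum_filter]
          refine Finset.sum_congr rfl fun t _ => ?_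
          rw [ofac, if_pos (Nat.mul_mod_right J t), Nat.mul_div_cancel_left _ hJ,
            if_neg (by rw [Nat.even_iff] at he; omega)]
          simp only [Nat.zero_le, true_and, Nat.sub_zero]
          split_ifs <;> simp
        · rw [if_pos ho]
          refine le_trans (le_of_eq ?_) (sum_hd_le q hx h1 L)
          refine Finset.sum_congr rfl fun t _ => ?_
          rw [ofac, if_pos (Nat.mul_mod_right J t), Nat.mul_div_cancel_left _ hJ,
            if_pos (by rwa [Nat.odd_iff] at ho)]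

theorem gF_one_le {c z : ℝ} (hc : 0 ≤ c) (hz : 0 ≤ z) {J : ℕ} (h1 : c * z ^ (2 * J) < 1) :
    1 ≤ gF c z J := by
  have h0 : 0 ≤ c * z ^ (2 * J) := by positivity
  rw [gF, le_div_iff₀ (by linarith), one_mul]
  split_ifs
  · linarith [one_le_pow₀ (n := 4) (show 1 ≤ 1 + z ^ J by linarith [pow_nonneg hz J])]
  · linarith

theorem gF_mono {c c₀ z z₀ : ℝ} (hz : 0 ≤ z) (hz₀ : z ≤ z₀) {J : ℕ}
    (hu : c * z ^ (2 * J) ≤ c₀ * z₀ ^ (2 * J)) (h1 : c₀ * z₀ ^ (2 * J) < 1) :
    gF c z J ≤ gF c₀ z₀ J := by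
  have hz' : 0 ≤ z₀ := hz.trans hz₀
  rw [gF, gF]
  refine div_le_div₀ (by split_ifs <;> positivity) ?_ (by linarith) (by linarith)
  split_ifs
  · exact pow_le_pow_left₀ (by positivity) (by linarith [pow_le_pow_left₀ hz hz₀ J]) 4
  · exact le_rfl

theorem gF_tail {c z : ℝ} (hc : 0 ≤ c) (hc5 : c ≤ 5) (hz : 0 ≤ z) {J : ℕ} (hw : z ^ J ≤ 1 / 100) :
    gF c z J ≤ 1 + 5 * z ^ J := by
  set w := z ^ J
  have hw0 : 0 ≤ w := by positivity
  have e : z ^ (2 * J) = w ^ 2 := by rw [mul_comm, pow_mul]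
  rw [gF, e, div_le_iff₀ (by nlinarith)]
  have h2 : w ^ 2 ≤ 1 / 100 * w := by nlinarith
  have h3 : w ^ 3 ≤ 1 / 100 * w ^ 2 := by nlinarith
  have h4 : w ^ 4 ≤ 1 / 100 * w ^ 3 := by nlinarith [pow_nonneg hw0 3]
  have key : (1 + w) ^ 4 ≤ (1 + 5 * w) * (1 - c * w ^ 2) := by
    nlinarith [mul_nonneg (sub_nonneg.2 hc5) (sq_nonneg w),
      mul_nonneg (sub_nonneg.2 hc5) (pow_nonneg hw0 3)]
  split_ifs
  · exact key
  · exact le_trans (one_le_pow₀ (by linarith)) key

theorem prod_one_add_mul_le (x : ℕ → ℝ) (hx : ∀ i, 0 ≤ x i) (M : ℕ) :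
    (∏ i ∈ Finset.range M, (1 + x i)) * (1 - ∑ i ∈ Finset.range M, x i) ≤ 1 := by
  induction M with
  | zero => simp
  | succ M ih =>
    rw [Finset.prod_range_succ, Finset.sum_range_succ]
    have hP : 0 ≤ ∏ i ∈ Finset.range M, (1 + x i) := Finset.prod_nonneg fun i _ => by linarith [hx i]
    have hS : 0 ≤ ∑ i ∈ Finset.range M, x i := Finset.sum_nonneg fun i _ => hx i
    nlinarith [mul_nonneg (mul_nonneg hP (hx M)) (add_nonneg hS (hx M))]

/-- A bound for all the finite products from finitely many factors. -/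
theorem prod_gF_le {c z : ℝ} (hc : 0 ≤ c) (hc5 : c ≤ 5) (hz : 0 ≤ z) (hz1 : z < 1) (h1 : c * z ^ 4 < 1) (K : ℕ)
    (hK : z ^ (K + 2) ≤ 1 / 100) (hK' : 5 * z ^ (K + 2) / (1 - z) < 1) {G : ℝ}
    (hG : ∏ i ∈ Finset.range K, gF c z (i + 2) ≤ G * (1 - 5 * z ^ (K + 2) / (1 - z))) (m : ℕ) :
    ∏ i ∈ Finset.range m, gF c z (i + 2) ≤ G := by
  have hlt : ∀ i, c * z ^ (2 * (i + 2)) < 1 := fun i => lt_of_le_of_lt
    (mul_le_mul_of_nonneg_left (pow_le_pow_of_le_one hz hz1.le (show 4 ≤ 2 * (i + 2) by omega)) hc) h1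
  have hone : ∀ i, 1 ≤ gF c z (i + 2) := fun i => gF_one_le hc hz (hlt i)
  refine le_trans (Finset.prod_le_prod_of_subset_of_one_le (t := Finset.range (K + m))
    (by intro i hi; simp only [Finset.mem_range] at hi ⊢; omega) (fun i _ => le_trans zero_le_one (hone i))
    fun i _ _ => hone i) ?_
  rw [Finset.prod_range_add]
  set P := ∏ i ∈ Finset.range K, gF c z (i + 2) with hP
  set S := 5 * z ^ (K + 2) / (1 - z) with hS
  have hP1 : 1 ≤ P := Finset.one_le_prod fun i _ => hone i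
  set T := ∏ i ∈ Finset.range m, gF c z (K + i + 2)
  set x : ℕ → ℝ := fun i => 5 * z ^ (K + 2) * z ^ i
  have hT0 : 0 ≤ T := Finset.prod_nonneg fun i _ => le_trans zero_le_one (hone _)
  have hx : ∀ i, 0 ≤ x i := fun i => by positivity
  have hT : T ≤ ∏ i ∈ Finset.range m, (1 + x i) := by
    refine Finset.prod_le_prod (fun i _ => le_trans zero_le_one (hone _)) fun i _ => ?_
    refine le_trans (gF_tail hc hc5 hz (le_trans (pow_le_pow_of_le_one hz hz1.le (by omega)) hK)) (le_of_eq ?_)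
    show _ = 1 + 5 * z ^ (K + 2) * z ^ i
    rw [show K + i + 2 = K + 2 + i by omega, pow_add]
    ring
  have hsum : ∑ i ∈ Finset.range m, x i ≤ S := by
    rw [hS, show 5 * z ^ (K + 2) / (1 - z) = 5 * z ^ (K + 2) * (1 / (1 - z)) by ring]
    show ∑ i ∈ Finset.range m, 5 * z ^ (K + 2) * z ^ i ≤ _
    rw [← Finset.mul_sum]
    exact mul_le_mul_of_nonneg_left (geom_real_le hz hz1 m) (by positivity)
  have hp := prod_one_add_mul_le x hx m
  have hQ : 0 ≤ ∏ i ∈ Finset.range m, (1 + x i) := Finset.prod_nonneg fun i _ => by linarith [hx i]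
  have hS1 : S < 1 := hK'
  have hTS : T * (1 - S) ≤ 1 := by
    calc T * (1 - S) ≤ (∏ i ∈ Finset.range m, (1 + x i)) * (1 - ∑ i ∈ Finset.range m, x i) :=
            mul_le_mul hT (by linarith) (by linarith) hQ
      _ ≤ 1 := hp
  have hG0 : 0 ≤ G := by nlinarith
  calc P * T ≤ G * (1 - S) * T := mul_le_mul_of_nonneg_right hG hT0
    _ = G * (T * (1 - S)) := by ring
    _ ≤ G := mul_le_of_le_one_right hG0 hTS

theorem sum_tR_le (q : ℕ) {z : ℝ} (hz : 0 ≤ z) (hz1 : z ≤ 1) (h1 : (q : ℝ) * z ^ 4 < 1) : ∀ m L : ℕ,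
    ∑ s ∈ Finset.range L, (tR q m s : ℝ) * z ^ s ≤ ∏ i ∈ Finset.range m, gF q z (i + 2) := by
  intro m
  induction m with
  | zero =>
    intro L
    simp only [tR, Finset.range_zero, Finset.prod_empty]
    push_cast
    simp only [ite_mul, one_mul, zero_mul, Finset.sum_ite_eq', pow_zero]
    split_ifs <;> norm_num
  | succ m ih =>
    intro L
    have hlt : (q : ℝ) * z ^ (2 * (m + 2)) < 1 := lt_of_le_of_lt
      (mul_le_mul_of_nonneg_left (pow_le_pow_of_le_one hz hz1 (by omega)) (Nat.cast_nonneg q)) h1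
    calc ∑ s ∈ Finset.range L, (tR q (m + 1) s : ℝ) * z ^ s
        = ∑ s ∈ Finset.range L, ∑ u ∈ Finset.range (s + 1),
            ((ofac q (m + 2) u : ℝ) * z ^ u) * ((tR q m (s - u) : ℝ) * z ^ (s - u)) := by
          refine Finset.sum_congr rfl fun s _ => ?_
          rw [tR, Nat.cast_sum, Finset.sum_mul]
          refine Finset.sum_congr rfl fun u hu => ?_
          rw [Finset.mem_range] at hu
          rw [show z ^ s = z ^ u * z ^ (s - u) by rw [← pow_add]; congr 1; omega]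
          push_cast
          ring
      _ = ∑ u ∈ Finset.range L, ∑ r ∈ Finset.range (L - u),
            ((ofac q (m + 2) u : ℝ) * z ^ u) * ((tR q m r : ℝ) * z ^ r) :=
          Finset.sum_range_diag_flip L fun u r =>
            ((ofac q (m + 2) u : ℝ) * z ^ u) * ((tR q m r : ℝ) * z ^ r)
      _ ≤ (∑ u ∈ Finset.range L, (ofac q (m + 2) u : ℝ) * z ^ u) * ∑ r ∈ Finset.range L, (tR q m r : ℝ) * z ^ r := by
          rw [Finset.sum_mul]
          refine Finset.sum_le_sum fun u _ => ?_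
          rw [← Finset.mul_sum]
          exact mul_le_mul_of_nonneg_left (Finset.sum_le_sum_of_subset_of_nonneg
            (Finset.range_subset_range.2 (Nat.sub_le L u)) fun r _ _ => by positivity) (by positivity)
      _ ≤ (gF q z (m + 2)) * ∏ i ∈ Finset.range m, gF q z (i + 2) :=
          mul_le_mul (sum_ofac_le q (by omega) hz hlt L) (ih L) (Finset.sum_nonneg fun r _ => by positivity)
            (le_trans zero_le_one (gF_one_le (Nat.cast_nonneg q) hz hlt))
      _ = _ := by rw [Finset.prod_range_succ, mul_comm]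

theorem gF_three_crit : ∀ m, ∏ i ∈ Finset.range m, gF 3 (97 / 168) (i + 2) ≤ 5262 / 1000 :=
  prod_gF_le (by norm_num) (by norm_num) (by norm_num) (by norm_num) (by norm_num) 18 (by norm_num) (by norm_num)
    (by simp only [Finset.prod_range_succ, Finset.prod_range_zero, gF, Nat.odd_iff]; norm_num)

theorem gF_three_wide : ∀ m, ∏ i ∈ Finset.range m, gF 3 (2 / 3) (i + 2) ≤ 30 :=
  prod_gF_le (by norm_num) (by norm_num) (by norm_num) (by norm_num) (by norm_num) 14 (by norm_num) (by norm_num)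
    (by simp only [Finset.prod_range_succ, Finset.prod_range_zero, gF, Nat.odd_iff]; norm_num)

theorem gF_five : ∀ m, ∏ i ∈ Finset.range m, gF 5 (17 / 38) (i + 2) ≤ 23 / 10 :=
  prod_gF_le (by norm_num) (by norm_num) (by norm_num) (by norm_num) (by norm_num) 6 (by norm_num) (by norm_num)
    (by simp only [Finset.prod_range_succ, Finset.prod_range_zero, gF, Nat.odd_iff]; norm_num)

theorem mul_sub_one_le {lam a a₀ b b₀ : ℝ} (ha : 1 ≤ a) (ha₀ : a ≤ a₀) (hA : a - 1 ≤ lam * (a₀ - 1))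
    (hb : 1 ≤ b) (hB : b - 1 ≤ lam * (b₀ - 1)) : a * b - 1 ≤ lam * (a₀ * b₀ - 1) := by
  have h : 0 ≤ lam * (b₀ - 1) := le_trans (by linarith) hB
  calc a * b - 1 = (a - 1) + a * (b - 1) := by ring
    _ ≤ lam * (a₀ - 1) + a₀ * (lam * (b₀ - 1)) := by
        refine add_le_add hA (le_trans (mul_le_mul_of_nonneg_left hB (by linarith)) ?_)
        exact mul_le_mul_of_nonneg_right ha₀ h
    _ = _ := by ring

/-- Contraction of a factor towards one. -/
theorem gF_sub_one_le {c c₀ z z₀ lam : ℝ} (hc : 0 ≤ c) (hz : 0 ≤ z) (hz₀ : z ≤ z₀) (hlam : lam ≤ 1)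
    {J : ℕ} (hw : z ^ J ≤ lam * z₀ ^ J) (hu : c * z ^ (2 * J) ≤ lam * (c₀ * z₀ ^ (2 * J)))
    (hu0 : c * z ^ (2 * J) ≤ c₀ * z₀ ^ (2 * J)) (h1 : c₀ * z₀ ^ (2 * J) < 1) :
    gF c z J - 1 ≤ lam * (gF c₀ z₀ J - 1) := by
  set u := c * z ^ (2 * J)
  set v := c₀ * z₀ ^ (2 * J)
  have hu' : 0 ≤ u := by positivity
  have hinv : 1 / (1 - u) - 1 ≤ lam * (1 / (1 - v) - 1) := by
    rw [show 1 / (1 - u) - 1 = u / (1 - u) by field_simp [show 1 - u ≠ 0 by linarith]; ring,
      show 1 / (1 - v) - 1 = v / (1 - v) by field_simp [show 1 - v ≠ 0 by linarith]; ring, ← mul_div_assoc]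
    exact div_le_div₀ (le_trans hu' hu) hu (by linarith) (by linarith)
  have hi1 : 1 ≤ 1 / (1 - u) := by rw [le_div_iff₀ (by linarith)]; linarith
  rw [gF, gF]
  split_ifs
  · set w := z ^ J
    set w₀ := z₀ ^ J
    have hw0 : 0 ≤ w := by positivity
    have hww : w ≤ w₀ := pow_le_pow_left₀ hz hz₀ J
    have h1w : 1 ≤ 1 + w := by linarith
    have hstep : (1 + w) - 1 ≤ lam * ((1 + w₀) - 1) := by linarith
    have h2 := mul_sub_one_le h1w (by linarith : 1 + w ≤ 1 + w₀) hstep h1w hstep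
    have h2m : (1 + w) * (1 + w) ≤ (1 + w₀) * (1 + w₀) := mul_le_mul (by linarith) (by linarith) (by linarith) (by linarith)
    have h2o : 1 ≤ (1 + w) * (1 + w) := one_le_mul_of_one_le_of_one_le h1w h1w
    have h4 := mul_sub_one_le h2o h2m h2 h2o h2
    have h4o : 1 ≤ (1 + w) ^ 4 := one_le_pow₀ h1w
    have h4m : (1 + w) ^ 4 ≤ (1 + w₀) ^ 4 := pow_le_pow_left₀ (by linarith) (by linarith) 4
    rw [show (1 + w) * (1 + w) * ((1 + w) * (1 + w)) = (1 + w) ^ 4 by ring,
      show (1 + w₀) * (1 + w₀) * ((1 + w₀) * (1 + w₀)) = (1 + w₀) ^ 4 by ring] at h4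
    have := mul_sub_one_le h4o h4m h4 hi1 hinv
    rwa [mul_one_div, mul_one_div] at this
  · exact hinv

theorem hC_bound (t : ℕ) {z : ℝ} (hz : 0 ≤ z) (h3 : 3 * z ^ 2 = 1) (hzb : z ≤ 97 / 168) :
    (hC t : ℝ) * z ^ t ≤ 56 / 9 + if t = 1 ∨ t = 2 then 16 / 3 * z ^ t else 0 := by
  obtain ⟨k, rfl | rfl⟩ := Nat.even_or_odd' t
  · rcases k with _ | _ | _ | k
    · norm_num [hC, rh, palNum, (hd_small 3).1]
    · rw [if_pos (Or.inr rfl)]
      norm_num [hC, rh, palNum, (hd_small 3).2.2]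
      nlinarith
    · rw [if_neg (by omega), add_zero]
      norm_num [hC, rh, palNum, hd_even 3 0, show hd 3 4 = 28 from rfl]
      rw [show z ^ 4 = (z ^ 2) ^ 2 by ring, show z ^ 2 = 1 / 3 by linarith]
      norm_num
    · rw [if_neg (by omega), add_zero]
      have e : hC (2 * (k + 3)) = 168 * 3 ^ k := by
        rw [hC, rh, if_neg (by omega), Nat.mul_div_cancel_left _ Nat.two_pos, if_neg (by omega),
          show hd 3 (2 * (k + 3)) = hd 3 (2 * ((k + 1) + 2)) from rfl, hd_even]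
        show _ + 3 * ((3 - 1) ^ 2 * 3 ^ (k + 1) + 4 * ((3 - 1) ^ 2 * 3 ^ k)) = _
        ring
      rw [show k + 1 + 1 + 1 = k + 3 from rfl, e, pow_mul, show z ^ 2 = 1 / 3 by linarith, Nat.cast_mul,
        Nat.cast_pow, div_pow, one_pow, pow_add]
      norm_num
      field_simp
      norm_num
  · rcases k with _ | _ | k
    · rw [if_pos (Or.inl rfl)]
      norm_num [hC, rh, palNum, show hd 3 1 = 4 from rfl]
      linarith
    · rw [if_neg (by omega), add_zero]
      norm_num [hC, rh, palNum, show hd 3 3 = 16 from rfl]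
      rw [show z ^ 3 = z ^ 2 * z by ring, show z ^ 2 = 1 / 3 by linarith]
      linarith
    · rw [if_neg (by omega), add_zero]
      have e : hC (2 * (k + 2) + 1) = 96 * 3 ^ k := by
        rw [hC, rh, if_pos (by omega), show (2 * (k + 2) + 1) / 2 = k + 2 by omega,
          show hd 3 (2 * (k + 2) + 1) = hd 3 (2 * ((k + 1) + 1) + 1) from rfl, hd_odd]
        show _ + 3 * (4 * ((3 - 1) ^ 2 * 3 ^ k)) = _
        ring
      rw [show k + 1 + 1 = k + 2 from rfl, e, pow_succ, pow_mul, show z ^ 2 = 1 / 3 by linarith, Nat.cast_mul,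
        Nat.cast_pow, div_pow, one_pow, pow_add]
      norm_num
      field_simp
      nlinarith [pow_pos (show (0 : ℝ) < 3 by norm_num) k]

theorem count_three (n m : ℕ) (hm : m ≤ 2 * n) :
    5 * ∑ t ∈ Finset.range (2 * n + 2), hC t * tR 3 m (2 * n + 1 - t) ≤ 292 * 3 ^ n := by
  by_cases hn : n ≤ 18
  · exact count_small hn (by omega)
  set z : ℝ := (Real.sqrt 3)⁻¹ with hzdef
  have hs : Real.sqrt 3 * Real.sqrt 3 = 3 := Real.mul_self_sqrt (by norm_num)
  have hs0 : 0 < Real.sqrt 3 := by positivity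
  have hz : 0 < z := by positivity
  have h3 : 3 * z ^ 2 = 1 := by rw [hzdef, inv_pow, Real.sq_sqrt (by norm_num)]; norm_num
  have hzb : z ≤ 97 / 168 := by nlinarith
  have hinv : 1 ≤ z * (173206 / 100000) := by nlinarith
  set N := 2 * n + 1 with hN
  set R : ℕ → ℝ := fun s => (tR 3 m s : ℝ)
  have hsum : ∀ L, ∑ s ∈ Finset.range L, R s * z ^ s ≤ 5262 / 1000 := fun L =>
    (sum_tR_le 3 hz.le (by linarith) (by push_cast; nlinarith) m L).trans (by
      refine le_trans (Finset.prod_le_prod (fun i _ => ?_) fun i _ => ?_) (gF_three_crit m)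
      · refine le_trans zero_le_one (gF_one_le (Nat.cast_nonneg _) hz.le ?_)
        push_cast
        rw [show 2 * (i + 2) = 2 * (i + 1) + 2 by omega, pow_add]
        nlinarith [pow_lt_one₀ hz.le (show z < 1 by linarith) (show 2 * (i + 1) ≠ 0 by omega)]
      · push_cast
        refine gF_mono hz.le hzb (mul_le_mul_of_nonneg_left (pow_le_pow_left₀ hz.le hzb _) (by norm_num)) ?_
        refine lt_of_le_of_lt (mul_le_mul_of_nonneg_left (pow_le_pow_of_le_one (by norm_num) (by norm_num)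
          (show 4 ≤ 2 * (i + 2) by omega)) (by norm_num)) (by norm_num))
  have hwide : ∀ s, R s * (2 / 3 : ℝ) ^ s ≤ 30 := fun s => by
    refine le_trans (Finset.single_le_sum (f := fun s => R s * (2 / 3 : ℝ) ^ s) (fun _ _ => by positivity)
      (Finset.self_mem_range_succ s)) ((sum_tR_le 3 (by norm_num) (by norm_num) (by norm_num) m (s + 1)).trans ?_)
    exact_mod_cast gF_three_wide m
  set T : ℝ := ∑ t ∈ Finset.range (N + 1), (hC t : ℝ) * R (N - t)
  have hT : T * z ^ N ≤ 56 / 9 * (5262 / 1000) +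
      (16 / 3 * z * (R (2 * n) * z ^ (2 * n)) + 16 / 3 * z ^ 2 * (R (2 * n - 1) * z ^ (2 * n - 1))) := by
    rw [Finset.sum_mul]
    refine le_trans (Finset.sum_le_sum (g := fun t => 56 / 9 * (R (N - t) * z ^ (N - t)) +
      if t = 1 ∨ t = 2 then 16 / 3 * z ^ t * (R (N - t) * z ^ (N - t)) else 0) fun t ht => ?_) ?_
    · rw [Finset.mem_range] at ht
      rw [show z ^ N = z ^ t * z ^ (N - t) by rw [← pow_add]; congr 1; omega]
      calc (hC t : ℝ) * R (N - t) * (z ^ t * z ^ (N - t))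
          = ((hC t : ℝ) * z ^ t) * (R (N - t) * z ^ (N - t)) := by ring
        _ ≤ (56 / 9 + if t = 1 ∨ t = 2 then 16 / 3 * z ^ t else 0) * (R (N - t) * z ^ (N - t)) :=
            mul_le_mul_of_nonneg_right (hC_bound t hz.le h3 hzb) (by positivity)
        _ = _ := by split_ifs <;> ring
    · rw [Finset.sum_add_distrib, ← Finset.mul_sum]
      refine add_le_add (mul_le_mul_of_nonneg_left ?_ (by norm_num)) (le_of_eq ?_)
      · refine le_trans (le_of_eq ?_) (hsum (N + 1))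
        exact Finset.sum_range_reflect (fun s => R s * z ^ s) (N + 1)
      · rw [← Finset.sum_filter, show (Finset.range (N + 1)).filter (fun t => t = 1 ∨ t = 2) = {1, 2} by
          ext t; simp only [Finset.mem_filter, Finset.mem_range, Finset.mem_insert, Finset.mem_singleton]; omega,
          Finset.sum_pair (by norm_num), pow_one, show N - 1 = 2 * n by omega, show N - 2 = 2 * n - 1 by omega]
  have hd : ∀ s, R s * z ^ s ≤ 30 * (z * (3 / 2)) ^ s := fun s => by
    have h := hwide s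
    have e : z ^ s = (2 / 3 : ℝ) ^ s * (z * (3 / 2)) ^ s := by rw [← mul_pow]; congr 1; ring
    rw [e, ← mul_assoc]
    exact mul_le_mul_of_nonneg_right h (by positivity)
  have hsm : (z * (3 / 2)) ^ (2 * n) ≤ (3 / 4 : ℝ) ^ 19 := by
    rw [pow_mul, show (z * (3 / 2)) ^ 2 = 3 / 4 by rw [mul_pow]; linarith]
    exact pow_le_pow_of_le_one (by norm_num) (by norm_num) (by omega)
  have hA : 16 / 3 * z * (R (2 * n) * z ^ (2 * n)) ≤ 160 * z * (3 / 4 : ℝ) ^ 19 := by
    have := (hd (2 * n)).trans (mul_le_mul_of_nonneg_left hsm (by norm_num))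
    nlinarith
  have hB : 16 / 3 * z ^ 2 * (R (2 * n - 1) * z ^ (2 * n - 1)) ≤ 320 / 3 * z * (3 / 4 : ℝ) ^ 19 := by
    have e : z ^ 2 * (z * (3 / 2)) ^ (2 * n - 1) = 2 / 3 * z * (z * (3 / 2)) ^ (2 * n) := by
      conv_rhs => rw [show 2 * n = (2 * n - 1) + 1 by omega, pow_succ]
      ring
    have h := mul_le_mul_of_nonneg_left (hd (2 * n - 1)) (show (0 : ℝ) ≤ 16 / 3 * z ^ 2 by positivity)
    have e' : 16 / 3 * z ^ 2 * (30 * (z * (3 / 2)) ^ (2 * n - 1)) = 320 / 3 * z * (z * (3 / 2)) ^ (2 * n) := by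
      linear_combination (160 : ℝ) * e
    rw [e'] at h
    exact h.trans (mul_le_mul_of_nonneg_left hsm (by positivity))
  have hzN : z ^ N = z * ((3 : ℝ) ^ n)⁻¹ := by
    rw [hN, pow_succ, pow_mul, show z ^ 2 = (3 : ℝ)⁻¹ by linarith, inv_pow, mul_comm]
  have hfin : T * ((3 : ℝ) ^ n)⁻¹ ≤ 292 / 5 := by
    have h0 : 56 / 9 * (5262 / 1000 : ℝ) ≤ 56 / 9 * (5262 / 1000) * (173206 / 100000) * z := by nlinarith
    have h1 : T * ((3 : ℝ) ^ n)⁻¹ * z ≤
        (56 / 9 * (5262 / 1000) * (173206 / 100000) + (160 + 320 / 3) * (3 / 4) ^ 19) * z := by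
      rw [mul_assoc, mul_comm _ z, ← hzN]
      linarith
    exact (le_of_mul_le_mul_right h1 hz).trans (by norm_num)
  rw [← div_eq_mul_inv, div_le_iff₀ (by positivity)] at hfin
  have key : ((5 * ∑ t ∈ Finset.range (2 * n + 2), hC t * tR 3 m (2 * n + 1 - t) : ℕ) : ℝ) ≤
      ((292 * 3 ^ n : ℕ) : ℝ) := by
    push_cast
    change 5 * T ≤ _
    linarith
  exact_mod_cast key

theorem hd_bound {q : ℕ} (hq : 5 ≤ q) (t : ℕ) {z : ℝ} (hz : 0 ≤ z) (h1 : (q : ℝ) * z ^ 2 = 1) :
    (hd q t : ℝ) * z ^ t ≤ (4 + 4 * z ^ 2) * z + if t % 2 = 0 then 1 else 0 := by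
  have hq' : (5 : ℝ) ≤ q := by exact_mod_cast hq
  have hz2 : z ^ 2 ≤ 1 / 5 := by nlinarith
  have hzh : z ≤ 1 / 2 := by nlinarith
  have hp : ∀ k, (q : ℝ) ^ k * z ^ (2 * k) = 1 := fun k => by rw [pow_mul, ← mul_pow, h1, one_pow]
  obtain ⟨k, rfl | rfl⟩ := Nat.even_or_odd' t
  · rw [if_pos (Nat.mul_mod_right 2 k)]
    rcases k with _ | _ | k
    · rw [(hd_small q).1]; simp; positivity
    · rw [(hd_small q).2.2]
      push_cast
      nlinarith
    · rw [hd_even]
      push_cast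
      rw [show 2 * (k + 2) = 2 * k + 4 by omega, pow_add z]
      have := hp k
      calc ((q : ℝ) ^ (k + 2) + 6 * q ^ (k + 1) + q ^ k) * (z ^ (2 * k) * z ^ 4)
          = ((q : ℝ) ^ k * z ^ (2 * k)) * ((q * z ^ 2) ^ 2 + 6 * (q * z ^ 2) * z ^ 2 + z ^ 4) := by ring
        _ = 1 + 6 * z ^ 2 + z ^ 4 := by rw [this, h1]; ring
        _ ≤ _ := by nlinarith [pow_nonneg hz 3]
  · rw [if_neg (by omega), add_zero]
    rcases k with _ | k
    · rw [(hd_small q).2.1]
      push_cast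
      nlinarith [pow_nonneg hz 3]
    · rw [hd_odd]
      push_cast
      rw [show 2 * (k + 1) + 1 = 2 * k + 3 by omega, pow_add z]
      calc (4 * (q : ℝ) ^ (k + 1) + 4 * q ^ k) * (z ^ (2 * k) * z ^ 3)
          = ((q : ℝ) ^ k * z ^ (2 * k)) * (4 * (q * z ^ 2) * z + 4 * z ^ 3) := by ring
        _ = _ := by rw [hp k, h1]; ring
        _ ≤ _ := le_refl _

theorem count_five {q : ℕ} (hq : 5 ≤ q) (n m : ℕ) :
    5 * ∑ t ∈ Finset.range (2 * n + 2), hd q t * tR q m (2 * n + 1 - t) ≤ 73 * q ^ n := by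
  have hq' : (5 : ℝ) ≤ q := by exact_mod_cast hq
  set z : ℝ := (Real.sqrt q)⁻¹ with hzdef
  have hz : 0 < z := by positivity
  have h1 : (q : ℝ) * z ^ 2 = 1 := by
    rw [hzdef, inv_pow, Real.sq_sqrt (Nat.cast_nonneg q), mul_inv_cancel₀ (by positivity)]
  set z₀ : ℝ := 17 / 38
  have hz2 : z ^ 2 ≤ 1 / 5 := by nlinarith
  have hz0 : z ≤ z₀ := by show z ≤ 17 / 38; nlinarith
  set lam := z / z₀
  have hlam : lam ≤ 1 := by rw [div_le_one (by norm_num)]; exact hz0
  have hlam0 : 0 ≤ lam := by positivity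
  have hfac : ∀ i, gF q z (i + 2) - 1 ≤ lam * (gF 5 z₀ (i + 2) - 1) ∧ gF q z (i + 2) ≤ gF 5 z₀ (i + 2) ∧
      1 ≤ gF q z (i + 2) := by
    intro i
    have hv : (5 : ℝ) * z₀ ^ (2 * (i + 2)) < 1 := lt_of_le_of_lt (mul_le_mul_of_nonneg_left
      (pow_le_pow_of_le_one (by norm_num) (by norm_num) (show 4 ≤ 2 * (i + 2) by omega)) (by norm_num))
      (by norm_num)
    have hzz : z = lam * z₀ := by
      exact (div_mul_cancel₀ z (by norm_num : z₀ ≠ 0)).symm
    have hu : (q : ℝ) * z ^ (2 * (i + 2)) ≤ lam * (5 * z₀ ^ (2 * (i + 2))) := by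
      rw [show 2 * (i + 2) = 2 * (i + 1) + 2 by omega, pow_add, pow_add, mul_left_comm, h1, mul_one]
      have hpow : z ^ (2 * (i + 1)) ≤ lam * z₀ ^ (2 * (i + 1)) := by
        rw [hzz, mul_pow]
        refine mul_le_mul_of_nonneg_right ?_ (by positivity)
        exact (pow_le_pow_of_le_one hlam0 hlam (show 1 ≤ 2 * (i + 1) by omega)).trans_eq (pow_one _)
      have h5 : (1 : ℝ) ≤ 5 * z₀ ^ 2 := by norm_num
      calc z ^ (2 * (i + 1)) ≤ lam * z₀ ^ (2 * (i + 1)) := hpow
        _ ≤ lam * z₀ ^ (2 * (i + 1)) * (5 * z₀ ^ 2) := le_mul_of_one_le_right (by positivity) h5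
        _ = _ := by ring
    have hu0 : (q : ℝ) * z ^ (2 * (i + 2)) ≤ 5 * z₀ ^ (2 * (i + 2)) :=
      hu.trans (mul_le_of_le_one_left (by positivity) hlam)
    have hw : z ^ (i + 2) ≤ lam * z₀ ^ (i + 2) := by
      rw [hzz, mul_pow]
      refine mul_le_mul_of_nonneg_right ?_ (by positivity)
      exact (pow_le_pow_of_le_one hlam0 hlam (show 1 ≤ i + 2 by omega)).trans_eq (pow_one _)
    exact ⟨gF_sub_one_le (Nat.cast_nonneg q) hz.le hz0 hlam hw hu hu0 hv,
      gF_mono hz.le hz0 hu0 hv, gF_one_le (Nat.cast_nonneg q) hz.le (lt_of_le_of_lt hu0 hv)⟩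
  have hP : ∀ k, (∏ i ∈ Finset.range k, gF q z (i + 2)) - 1 ≤
      lam * ((∏ i ∈ Finset.range k, gF 5 z₀ (i + 2)) - 1) ∧ 1 ≤ ∏ i ∈ Finset.range k, gF q z (i + 2) ∧
      ∏ i ∈ Finset.range k, gF q z (i + 2) ≤ ∏ i ∈ Finset.range k, gF 5 z₀ (i + 2) := by
    intro k
    induction k with
    | zero => simp
    | succ k ih =>
      obtain ⟨a, b, c⟩ := ih
      obtain ⟨d, e, f⟩ := hfac k
      simp only [Finset.prod_range_succ]
      exact ⟨mul_sub_one_le b c a f d, one_le_mul_of_one_le_of_one_le b f,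
        mul_le_mul c e (by linarith) (by linarith)⟩
  obtain ⟨hPa, hP1, hPb⟩ := hP m
  set P := ∏ i ∈ Finset.range m, gF q z (i + 2)
  have hP₀ := gF_five m
  have hP' : P ≤ 23 / 10 := hPb.trans hP₀
  have hP'' : P - 1 ≤ lam * (13 / 10) := hPa.trans (mul_le_mul_of_nonneg_left (by linarith) hlam0)
  set N := 2 * n + 1 with hN
  set R : ℕ → ℝ := fun s => (tR q m s : ℝ)
  have hz1 : z ≤ 1 := hz0.trans (by norm_num)
  have hsum : ∑ s ∈ Finset.range (N + 1), R s * z ^ s ≤ P :=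
    sum_tR_le q hz.le hz1 (by rw [show z ^ 4 = z ^ 2 * z ^ 2 by ring, ← mul_assoc, h1, one_mul]; linarith) m _
  have hR0 : R 0 * z ^ 0 = 1 := by
    have h : ∀ k, tR q k 0 = 1 := fun k => by
      induction k with
      | zero => simp [tR]
      | succ k ih => simp [tR, ih, ofac, hd]
    simp [R, h]
  set T : ℝ := ∑ t ∈ Finset.range (N + 1), (hd q t : ℝ) * R (N - t)
  have hT : T * z ^ N ≤ (4 + 4 * z ^ 2) * z * P + (P - 1) := by
    rw [Finset.sum_mul]
    refine le_trans (Finset.sum_le_sum (g := fun t => (4 + 4 * z ^ 2) * z * (R (N - t) * z ^ (N - t)) +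
      (if N - t = 0 then 0 else R (N - t) * z ^ (N - t))) fun t ht => ?_) ?_
    · rw [Finset.mem_range] at ht
      rw [show z ^ N = z ^ t * z ^ (N - t) by rw [← pow_add]; congr 1; omega]
      have h0 : 0 ≤ R (N - t) * z ^ (N - t) := by positivity
      calc (hd q t : ℝ) * R (N - t) * (z ^ t * z ^ (N - t))
          = ((hd q t : ℝ) * z ^ t) * (R (N - t) * z ^ (N - t)) := by ring
        _ ≤ ((4 + 4 * z ^ 2) * z + if t % 2 = 0 then 1 else 0) * (R (N - t) * z ^ (N - t)) :=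
            mul_le_mul_of_nonneg_right (hd_bound hq t hz.le h1) h0
        _ ≤ _ := by
            rw [add_mul]
            refine add_le_add le_rfl ?_
            split_ifs with he hk <;> simp_all
            omega
    · rw [Finset.sum_add_distrib, ← Finset.mul_sum]
      have e := Finset.sum_range_reflect (fun s => R s * z ^ s) (N + 1)
      refine add_le_add (mul_le_mul_of_nonneg_left (le_of_eq_of_le e hsum) (by positivity)) ?_
      refine le_trans (le_of_eq (Finset.sum_range_reflect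
        (fun s => if s = 0 then (0 : ℝ) else R s * z ^ s) (N + 1))) ?_
      rw [Finset.sum_range_succ'] at hsum ⊢
      simp only [Nat.succ_ne_zero, if_false, if_true, add_zero]
      linarith
  have hfin : T * ((q : ℝ) ^ n)⁻¹ ≤ 73 / 5 := by
    have hzN : z ^ N = z * ((q : ℝ) ^ n)⁻¹ := by
      rw [hN, pow_succ, pow_mul, eq_inv_of_mul_eq_one_right h1, inv_pow, mul_comm]
    have hl : lam = z * (38 / 17) := by
      show z / (17 / 38) = _
      ring
    have h2 : (4 + 4 * z ^ 2) * z * P + (P - 1) ≤ (73 / 5) * z := by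
      have : (4 + 4 * z ^ 2) * z * P ≤ (24 / 5) * z * (23 / 10) :=
        mul_le_mul (mul_le_mul_of_nonneg_right (by linarith) hz.le) hP' (by linarith) (by positivity)
      rw [hl] at hP''
      nlinarith
    refine le_of_mul_le_mul_right ?_ hz
    rw [mul_assoc, mul_comm _ z, ← hzN]
    linarith
  rw [← div_eq_mul_inv, div_le_iff₀ (by positivity)] at hfin
  have key : ((5 * ∑ t ∈ Finset.range (2 * n + 2), hd q t * tR q m (2 * n + 1 - t) : ℕ) : ℝ) ≤
      ((73 * q ^ n : ℕ) : ℝ) := by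
    push_cast
    change 5 * T ≤ _
    linarith
  exact_mod_cast key

end Cfsg.Agent.Lib.ClassNumber
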