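import Cfsg.Agent.Lib.ClassNumber.SympCount
import Cfsg.Agent.Lib.Similarity.RegularSympGroup

/-!
Class number bounds for symplectic groups: the upper bound in odd characteristic, the lower bound in
every characteristic.
-/

set_option autoImplicit false

namespace Cfsg.Agent.Lib.ClassNumber

open Polynomial Matrix
open scoped Matrix

variable {F : Type*} [Field F]

/-- The majorant of the generating function at `x`. -/
def sympProd (x : ℚ) (M : ℕ) : ℚ := ∏ k ∈ Finset.range M, (1 + x ^ (k + 1)) ^ 4 / (1 - x ^ (k + 1))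

theorem sympProd_tail (M : ℕ) : sympProd (1 / 3) (M + 7) * (1 - 1 / 729 * (3 / 2)) ≤
    sympProd (1 / 3) 7 := by
  have hpos : 0 ≤ sympProd (1 / 3) 7 := by norm_num [sympProd, Finset.prod_range_succ]
  suffices H : ∀ M : ℕ, 0 ≤ sympProd (1 / 3) (M + 7) ∧
      sympProd (1 / 3) (M + 7) * (1 - 1 / 729 * (3 / 2) * (1 - (1 / 3) ^ M)) ≤ sympProd (1 / 3) 7 by
    obtain ⟨h0, h⟩ := H M
    have : (0 : ℚ) ≤ (1 / 3) ^ M := by positivity
    nlinarith
  intro M
  induction M with
  | zero => exact ⟨hpos, by simp⟩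
  | succ M ih =>
    obtain ⟨h0, h⟩ := ih
    set s : ℚ := 1 / 729 * (3 / 2) * (1 - (1 / 3) ^ M) with hs
    set u : ℚ := (1 / 3 : ℚ) ^ (M + 7 + 1) with hu
    have hu' : u = 1 / 6561 * (1 / 3) ^ M := by
      rw [hu, show M + 7 + 1 = M + 8 by omega, pow_add]; ring
    have hu0 : 0 < u := by positivity
    have hu1 : u ≤ 1 / 6561 := by
      rw [hu']; exact mul_le_of_le_one_right (by norm_num) (pow_le_one₀ (by norm_num) (by norm_num))
    have hs' : 1 / 729 * (3 / 2) * (1 - (1 / 3 : ℚ) ^ (M + 1)) = s + 9 * u := by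
      rw [hs, hu', pow_succ]; ring
    have hstep : sympProd (1 / 3) (M + 1 + 7) = sympProd (1 / 3) (M + 7) * ((1 + u) ^ 4 / (1 - u)) := by
      rw [show M + 1 + 7 = (M + 7) + 1 by omega, sympProd, Finset.prod_range_succ, ← sympProd]
    have hf : (1 + u) ^ 4 / (1 - u) ≤ 1 + 9 * u := by
      rw [div_le_iff₀ (by linarith)]
      nlinarith [mul_pos hu0 hu0, mul_pos (mul_pos hu0 hu0) hu0]
    have hs0 : 0 ≤ s := by
      have : (1 / 3 : ℚ) ^ M ≤ 1 := pow_le_one₀ (by norm_num) (by norm_num)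
      rw [hs]; nlinarith
    have hs1 : s + 9 * u ≤ 1 := by
      have : (0 : ℚ) ≤ (1 / 3) ^ M := by positivity
      rw [hs]; nlinarith
    refine ⟨by rw [hstep]; exact mul_nonneg h0 (div_nonneg (by positivity) (by linarith)), ?_⟩
    rw [hs', hstep]
    calc sympProd (1 / 3) (M + 7) * ((1 + u) ^ 4 / (1 - u)) * (1 - (s + 9 * u))
        ≤ sympProd (1 / 3) (M + 7) * (1 + 9 * u) * (1 - (s + 9 * u)) :=
          mul_le_mul_of_nonneg_right (mul_le_mul_of_nonneg_left hf h0) (by linarith)
      _ ≤ sympProd (1 / 3) (M + 7) * (1 - s) := by nlinarith [mul_nonneg hs0 hu0.le, mul_pos hu0 hu0]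
      _ ≤ _ := h

theorem sympProd_mono {x : ℚ} (hx0 : 0 ≤ x) (hx : x ≤ 1 / 3) (M : ℕ) :
    sympProd x M ≤ sympProd (1 / 3) M := by
  refine Finset.prod_le_prod (fun k _ => ?_) fun k _ => ?_
  · have : x ^ (k + 1) ≤ 1 := pow_le_one₀ hx0 (by linarith)
    exact div_nonneg (by positivity) (by linarith)
  · have h1 : x ^ (k + 1) ≤ (1 / 3 : ℚ) ^ (k + 1) := pow_le_pow_left₀ hx0 hx _
    have h2 : (1 / 3 : ℚ) ^ (k + 1) < 1 := pow_lt_one₀ (by norm_num) (by norm_num) (by omega)
    have h3 : 0 ≤ x ^ (k + 1) := by positivity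
    gcongr

theorem sympProd_le_succ {x : ℚ} (hx0 : 0 ≤ x) (hx : x < 1) (M : ℕ) :
    sympProd x M ≤ sympProd x (M + 1) := by
  have hpos : ∀ N, 0 ≤ sympProd x N := fun N => Finset.prod_nonneg fun k _ =>
    div_nonneg (by positivity) (by have := pow_le_one₀ (n := k + 1) hx0 hx.le; linarith)
  have h1 : x ^ (M + 1) < 1 := pow_lt_one₀ hx0 hx (by omega)
  conv_rhs => rw [sympProd, Finset.prod_range_succ, ← sympProd]
  refine le_mul_of_one_le_right (hpos M) ?_
  rw [le_div_iff₀ (by linarith), one_mul]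
  have h2 : 0 ≤ x ^ (M + 1) := by positivity
  nlinarith [one_le_pow₀ (n := 4) (show (1 : ℚ) ≤ 1 + x ^ (M + 1) by linarith)]

theorem sympProd_le {x : ℚ} (hx0 : 0 ≤ x) (hx : x ≤ 1 / 3) (M : ℕ) : sympProd x M ≤ 54 / 5 := by
  refine (sympProd_mono hx0 hx M).trans ?_
  have hle : sympProd (1 / 3) M ≤ sympProd (1 / 3) (M + 7) :=
    monotone_nat_of_le_succ (fun N => sympProd_le_succ (by norm_num) (by norm_num) N) (Nat.le_add_right _ _)
  have h7 : sympProd (1 / 3) 7 ≤ 54 / 5 * (1 - 1 / 729 * (3 / 2)) := by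
    norm_num [sympProd, Finset.prod_range_succ]
  nlinarith [sympProd_tail M]

theorem prod_blockFactor_le {x : ℚ} (hx0 : 0 ≤ x) (hx : x < 1) (N : ℕ) :
    ∏ i ∈ Finset.range (2 * N - 1), blockFactor x (i + 2) ≤ sympProd x (2 * N) := by
  have h1 : ∀ k : ℕ, 0 < k → x ^ k < 1 := fun k hk => pow_lt_one₀ hx0 hx hk.ne'
  have hpos : ∀ i : ℕ, 0 ≤ blockFactor x (i + 2) := fun i => by
    have := h1 (i + 2 - 1) (by omega)
    exact div_nonneg (by split_ifs <;> positivity) (by linarith)
  have hge : ∀ i : ℕ, 1 ≤ blockFactor x (i + 2) := fun i => by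
    have h := h1 (i + 2 - 1) (by omega)
    have h0 : 0 ≤ x ^ (i + 2 - 1) := by positivity
    rw [blockFactor, le_div_iff₀ (by linarith), one_mul]
    split_ifs
    · linarith [one_le_pow₀ (n := 4) (show (1 : ℚ) ≤ 1 + x ^ ((i + 2) / 2) by linarith [pow_nonneg hx0 ((i + 2) / 2)])]
    · linarith
  have key : ∀ K, ∏ i ∈ Finset.range (2 * K), blockFactor x (i + 2) =
      (∏ k ∈ Finset.range (2 * K), 1 / (1 - x ^ (k + 1))) * ∏ i ∈ Finset.range K, (1 + x ^ (i + 1)) ^ 4 := by
    intro K
    induction K with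
    | zero => simp
    | succ K ih =>
      rw [show 2 * (K + 1) = 2 * K + 1 + 1 by omega, Finset.prod_range_succ, Finset.prod_range_succ, ih,
        Finset.prod_range_succ _ (2 * K + 1), Finset.prod_range_succ _ (2 * K), Finset.prod_range_succ _ K,
        blockFactor, blockFactor, if_pos ⟨K + 1, by omega⟩, if_neg (Nat.not_even_iff_odd.2 ⟨K + 1, by omega⟩),
        show (2 * K + 2) / 2 = K + 1 by omega, show 2 * K + 2 - 1 = 2 * K + 1 by omega,
        show 2 * K + 1 + 2 - 1 = 2 * K + 1 + 1 by omega]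
      ring
  refine le_trans (Finset.prod_le_prod_of_subset_of_one_le
    (s := Finset.range (2 * N - 1)) (t := Finset.range (2 * N))
    (by intro i hi; simp only [Finset.mem_range] at hi ⊢; omega)
    (fun i _ => hpos i) (fun i _ _ => hge i)) ?_
  rw [key, sympProd]
  simp only [div_eq_mul_inv, one_mul, Finset.prod_mul_distrib]
  rw [mul_comm]
  refine mul_le_mul_of_nonneg_right ?_ (Finset.prod_nonneg fun k _ => inv_nonneg.2 (by linarith [h1 (k + 1) (by omega)]))
  exact Finset.prod_le_prod_of_subset_of_one_le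
    (by intro i hi; simp only [Finset.mem_range] at hi ⊢; omega)
    (fun i _ => by positivity) (fun i _ _ => one_le_pow₀ (by linarith [pow_nonneg hx0 (i + 1)]))

/-- The symplectic form as an `IForm` with the trivial isometry. -/
noncomputable def sympIForm (n : ℕ) (F : Type*) [Field F] :
    IForm (RingHom.id F) (-1 : F) (Fin n ⊕ Fin n → F) where
  B x y := Cfsg.Agent.Lib.Similarity.sympMap n F x y
  A := LinearEquiv.refl F _
  add_left x y z := by simp
  smul_left c x y := by simp
  symm x y := by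
    have h := Cfsg.Agent.Lib.Similarity.sympMap_alt (m := n) (F := F) (x + y)
    simp only [map_add, LinearMap.add_apply, Cfsg.Agent.Lib.Similarity.sympMap_alt] at h
    rw [RingHom.id_apply]
    linear_combination h
  nd y h := Cfsg.Agent.Lib.Similarity.sympMap_nondeg y h
  iso x y := rfl
  inv a := rfl

variable [Fintype F]

theorem three_le_card (h2 : (2 : F) ≠ 0) : 3 ≤ Fintype.card F := by
  by_contra h
  have hlt := Fintype.one_lt_card (α := F)
  have : Fintype.card F = 2 := by omega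
  apply h2
  have h' : ((Fintype.card F : ℕ) : F) = 0 := Nat.cast_card_eq_zero F
  rw [this] at h'
  exact_mod_cast h'

theorem symp_upper (h2 : (2 : F) ≠ 0) (n : ℕ) (hn : 1 ≤ n) :
    5 * Nat.card (ConjClasses (Matrix.symplecticGroup (Fin n) F)) ≤ 54 * Fintype.card F ^ n := by
  classical
  obtain ⟨m, hm⟩ : ∃ m, m + 1 = 2 * n := ⟨2 * n - 1, by omega⟩
  let ρ : Matrix.symplecticGroup (Fin n) F → ((Fin n ⊕ Fin n → F) ≃ₗ[F] (Fin n ⊕ Fin n → F)) := fun a =>
    LinearEquiv.ofLinear (Matrix.toLin' (a : Matrix (Fin n ⊕ Fin n) (Fin n ⊕ Fin n) F))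
      (Matrix.toLin' ((a⁻¹ : Matrix.symplecticGroup (Fin n) F) : Matrix (Fin n ⊕ Fin n) (Fin n ⊕ Fin n) F))
      (by rw [← Matrix.toLin'_mul, ← Submonoid.coe_mul, mul_inv_cancel, Submonoid.coe_one, Matrix.toLin'_one])
      (by rw [← Matrix.toLin'_mul, ← Submonoid.coe_mul, inv_mul_cancel, Submonoid.coe_one, Matrix.toLin'_one])
  have hρ : ∀ a x, ρ a x = (a : Matrix (Fin n ⊕ Fin n) (Fin n ⊕ Fin n) F) *ᵥ x := fun a x => rfl
  have h := card_conjClasses_le (n := m + 1)
    (by rw [Module.finrank_fintype_fun_eq_card, Fintype.card_sum, Fintype.card_fin]; omega)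
    ⟨(2 : F)⁻¹, by rw [RingHom.id_apply]; field_simp; norm_num⟩ (sympIForm n F) ρ
    (fun a b x => by rw [hρ, hρ, hρ, Submonoid.coe_mul, Matrix.mulVec_mulVec])
    (fun a b hab => Subtype.ext (Matrix.toLin'.injective
      (LinearMap.ext fun x => LinearEquiv.congr_fun hab x)))
    (fun a x y => (Cfsg.Agent.Lib.Similarity.mem_symplecticGroup_iff _).1 a.2 x y)
    (fun A hA => ⟨⟨LinearMap.toMatrix' A.toLinearMap,
      (Cfsg.Agent.Lib.Similarity.mem_symplecticGroup_iff _).2 fun x y => by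
        rw [LinearMap.toMatrix'_mulVec, LinearMap.toMatrix'_mulVec]; exact hA x y⟩,
      LinearEquiv.ext fun x => by rw [hρ, LinearMap.toMatrix'_mulVec]; rfl⟩)
  have hq := three_le_card h2
  have hx0 : (0 : ℚ) ≤ 1 / Fintype.card F := by positivity
  have hq' : (3 : ℚ) ≤ Fintype.card F := by exact_mod_cast hq
  have hx : (1 / Fintype.card F : ℚ) ≤ 1 / 3 := one_div_le_one_div_of_le (by norm_num) hq'
  have h1 := sum_adm_le h2 hq n hm
  rw [Fin.prod_univ_eq_prod_range (fun i => blockFactor (1 / Fintype.card F : ℚ) (i + 2)) m,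
    show m = 2 * n - 1 by omega] at h1
  have h3 := (prod_blockFactor_le hx0 (by linarith) n).trans (sympProd_le hx0 hx (2 * n))
  rw [show m = 2 * n - 1 by omega] at h
  have h4 : (Nat.card (ConjClasses (Matrix.symplecticGroup (Fin n) F)) : ℚ) ≤
      (Fintype.card F : ℚ) ^ n * (54 / 5) :=
    ((Nat.cast_le (α := ℚ)).2 h).trans (h1.trans (mul_le_mul_of_nonneg_left h3 (by positivity)))
  have h5 : ((5 * Nat.card (ConjClasses (Matrix.symplecticGroup (Fin n) F)) : ℕ) : ℚ) ≤
      ((54 * Fintype.card F ^ n : ℕ) : ℚ) := by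
    push_cast
    linarith
  exact_mod_cast h5

omit [Fintype F] in
theorem unitriangular_mem_symplectic {n : ℕ} {S : Matrix (Fin n) (Fin n) F} (hS : Sᵀ = S) :
    Matrix.fromBlocks 1 S 0 1 ∈ Matrix.symplecticGroup (Fin n) F ∧
    Matrix.fromBlocks 1 0 S 1 ∈ Matrix.symplecticGroup (Fin n) F := by
  constructor <;>
    simp [SymplecticGroup.mem_iff, Matrix.J, Matrix.fromBlocks_transpose, Matrix.fromBlocks_multiply, hS]

omit [Fintype F] in
theorem homog_injective : ∀ (n : ℕ) (p : ℕ → F),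
    ∑ i ∈ Finset.range (n + 1), C (p i) * ((X - C 1) ^ 2) ^ i * X ^ (n - i) = (0 : F[X]) →
    ∀ i ≤ n, p i = 0 := by
  intro n
  induction n with
  | zero =>
    intro p h i hi
    obtain rfl : i = 0 := by omega
    simpa using h
  | succ n ih =>
    intro p h
    rw [Finset.sum_range_succ, Nat.sub_self, pow_zero, mul_one] at h
    have h' : (∑ i ∈ Finset.range (n + 1), C (p i) * ((X - C (1 : F)) ^ 2) ^ i * X ^ (n + 1 - i)) =
        X * ∑ i ∈ Finset.range (n + 1), C (p i) * ((X - C 1) ^ 2) ^ i * X ^ (n - i) := by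
      rw [Finset.mul_sum]
      refine Finset.sum_congr rfl fun i hi => ?_
      rw [Finset.mem_range] at hi
      rw [show n + 1 - i = n - i + 1 by omega, pow_succ]
      ring
    rw [h'] at h
    have h0 : p (n + 1) = 0 := by
      have h1 := congrArg (eval (0 : F)) h
      simp only [eval_add, eval_mul, eval_X, zero_mul, zero_add, eval_C, eval_pow, eval_sub, zero_sub,
        neg_one_sq, one_pow, mul_one, eval_zero] at h1
      exact h1
    rw [h0, C_0, zero_mul, add_zero, mul_eq_zero, or_iff_right X_ne_zero] at h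
    intro i hi
    rcases Nat.lt_or_ge i (n + 1) with h1 | h1
    · exact ih p h i (by omega)
    · rwa [show i = n + 1 by omega]

open Classical in
omit [Fintype F] in
/-- The characteristic polynomial of a product of two opposite unitriangular matrices. -/
theorem charpoly_pair {n : ℕ} (S T : Matrix (Fin n) (Fin n) F) :
    (Matrix.fromBlocks 1 S 0 1 * Matrix.fromBlocks 1 0 T 1).charpoly =
      ∑ i ∈ Finset.range (n + 1), C ((S * T).charpoly.coeff i) * ((X - C 1) ^ 2) ^ i * X ^ (n - i) := by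
  set d : F[X] := X - C 1
  have hd : d ≠ 0 := X_sub_C_ne_zero 1
  set SC : Matrix (Fin n) (Fin n) F[X] := S.map (C : F →+* F[X])
  set TC : Matrix (Fin n) (Fin n) F[X] := T.map (C : F →+* F[X])
  have hST : (S * T).map (C : F →+* F[X]) = SC * TC := Matrix.map_mul
  set A := Matrix.fromBlocks 1 S 0 1 * Matrix.fromBlocks 1 0 T 1 with hA
  have hcm : A.charmatrix = Matrix.fromBlocks (d • 1 - SC * TC) (-SC) (-TC) (d • 1) := by
    rw [hA, Matrix.fromBlocks_multiply]
    simp only [one_mul, mul_one, mul_zero, zero_mul, add_zero, zero_add]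
    rw [Matrix.charmatrix_fromBlocks]
    have hs : Matrix.scalar (Fin n) (X : F[X]) = (X : F[X]) • 1 := by
      rw [Matrix.scalar_apply, Matrix.smul_one_eq_diagonal]
    have hd1 : d • (1 : Matrix (Fin n) (Fin n) F[X]) = (X : F[X]) • 1 - 1 := by
      rw [show d = X - 1 by simp [d], sub_smul, one_smul]
    congr 1
    · rw [Matrix.charmatrix, hs, map_add, map_one, RingHom.mapMatrix_apply, hST, hd1]
      abel
    · rw [Matrix.charmatrix, hs, map_one, hd1]
  have hmul : A.charmatrix * Matrix.fromBlocks (d • 1) 0 TC 1 =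
      Matrix.fromBlocks ((d ^ 2) • 1 - (X : F[X]) • (SC * TC)) (-SC) 0 (d • 1) := by
    rw [hcm, Matrix.fromBlocks_multiply]
    congr 1
    · rw [sub_mul, smul_mul_assoc, one_mul, mul_smul_comm, mul_one, smul_smul, pow_two, neg_mul]
      have : (X : F[X]) • (SC * TC) = d • (SC * TC) + SC * TC := by
        rw [show (X : F[X]) = d + 1 by simp [d], add_smul, one_smul]
      rw [this]
      abel
    · simp
    · simp
    · simp
  have hdet := congrArg Matrix.det hmul
  rw [Matrix.det_mul, Matrix.det_fromBlocks_zero₁₂, Matrix.det_fromBlocks_zero₂₁, Matrix.det_smul,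
    Matrix.det_one, mul_one, Fintype.card_fin] at hdet
  have hchar : A.charpoly = ((d ^ 2) • 1 - (X : F[X]) • (SC * TC)).det :=
    mul_right_cancel₀ (pow_ne_zero n hd) (by simpa only [mul_one, Matrix.charpoly] using hdet)
  rw [hchar]
  apply IsFractionRing.injective F[X] (RatFunc F)
  set φ : F[X] →+* RatFunc F := algebraMap F[X] (RatFunc F)
  set w : RatFunc F := φ X
  set y : RatFunc F := φ (d ^ 2) / w
  have hw : w ≠ 0 := fun h => X_ne_zero (IsFractionRing.injective F[X] (RatFunc F) (by rw [map_zero]; exact h))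
  have hm : ((d ^ 2) • (1 : Matrix (Fin n) (Fin n) F[X]) - (X : F[X]) • (SC * TC)).map φ =
      w • (Matrix.scalar (Fin n) y - (S * T).map (φ.comp C)) := by
    ext i j
    rw [← hST]
    simp only [Matrix.map_apply, Matrix.sub_apply, Matrix.smul_apply, Matrix.one_apply, smul_eq_mul,
      map_sub, map_mul, Matrix.scalar_apply, Matrix.diagonal_apply, RingHom.comp_apply, mul_sub]
    split_ifs
    · rw [map_one, mul_one, mul_div_cancel₀ _ hw]
    · rw [map_zero, mul_zero, mul_zero]
  rw [RingHom.map_det, RingHom.mapMatrix_apply, hm, Matrix.det_smul, ← Matrix.eval_charpoly,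
    Matrix.charpoly_map, eval_map, eval₂_eq_sum_range, Matrix.charpoly_natDegree_eq_dim, Fintype.card_fin,
    Finset.mul_sum, map_sum]
  refine Finset.sum_congr rfl fun i hi => ?_
  rw [Finset.mem_range] at hi
  rw [map_mul, map_mul, map_pow φ X, RingHom.comp_apply, map_pow φ (d ^ 2)]
  show w ^ n * (φ (C ((S * T).charpoly.coeff i)) * (φ (d ^ 2) / w) ^ i) = _
  rw [show w ^ n = w ^ (n - i) * w ^ i by rw [← pow_add, Nat.sub_add_cancel (by omega)], div_pow]
  field_simp
  ring

theorem exists_symmetric_pair_unit {n : ℕ} {f : F[X]} (hf : f.Monic) (hd : f.natDegree = n) :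
    ∃ S T : Matrix (Fin n) (Fin n) F, Sᵀ = S ∧ Tᵀ = T ∧ (S * T).charpoly = f ∧ IsUnit S.det := by
  classical
  let pb := AdjoinRoot.powerBasis hf.ne_zero
  have hdim : pb.dim = n := (AdjoinRoot.powerBasis_dim hf.ne_zero).trans hd
  rcases Nat.eq_zero_or_pos n with rfl | hn
  · refine ⟨0, 0, Matrix.transpose_zero, Matrix.transpose_zero, ?_, by simp⟩
    rw [hf.natDegree_eq_zero.1 hd]
    simp [Matrix.charpoly]
  let b := pb.basis.reindex (finCongr hdim)
  set M := Algebra.leftMulMatrix b (AdjoinRoot.root f) with hM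
  have hc : M.charpoly = f := by
    have e : M = Matrix.reindex (finCongr hdim) (finCongr hdim) (Algebra.leftMulMatrix pb.basis pb.gen) := by
      ext i j
      simp [hM, b, Algebra.leftMulMatrix_eq_repr_mul, pb, AdjoinRoot.powerBasis_gen]
    rw [e, Matrix.charpoly_reindex, charpoly_leftMulMatrix, AdjoinRoot.minpoly_powerBasis_gen_of_monic hf]
  let τ : AdjoinRoot f →ₗ[F] F := b.coord ⟨n - 1, by omega⟩
  let S₀ : Matrix (Fin n) (Fin n) F := Matrix.of fun i k => τ (b i * b k)
  have hS₀ : S₀ᵀ = S₀ := by ext i k; simp [S₀, mul_comm]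
  have hSM : ∀ i k, (S₀ * M) i k = τ (b i * (AdjoinRoot.root f * b k)) := by
    intro i k
    conv_rhs => rw [← b.sum_repr (AdjoinRoot.root f * b k), Finset.mul_sum, map_sum]
    rw [Matrix.mul_apply]
    refine Finset.sum_congr rfl fun l _ => ?_
    rw [mul_smul_comm, map_smul, hM, Algebra.leftMulMatrix_eq_repr_mul, smul_eq_mul, mul_comm]
    rfl
  have hT : (S₀ * M)ᵀ = S₀ * M := by
    ext i k
    rw [Matrix.transpose_apply, hSM, hSM]
    congr 1
    ring
  have hnd : ∀ x : AdjoinRoot f, (∀ k, τ (x * b k) = 0) → x = 0 := by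
    intro x hx
    have h1 : ∀ y, τ (x * y) = 0 := fun y => by
      rw [← b.sum_repr y, Finset.mul_sum, map_sum]
      exact Finset.sum_eq_zero fun k _ => by rw [mul_smul_comm, map_smul, hx, smul_zero]
    by_contra hx0
    have hex : ∃ k : Fin n, b.repr x k ≠ 0 := by
      by_contra h
      simp only [not_exists, ne_eq, not_not] at h
      exact hx0 (b.ext_elem fun k => by rw [h, map_zero]; rfl)
    set s := Finset.univ.filter fun k : Fin n => b.repr x k ≠ 0
    have hs : s.Nonempty := by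
      obtain ⟨k, hk⟩ := hex
      exact ⟨k, Finset.mem_filter.2 ⟨Finset.mem_univ _, hk⟩⟩
    set t := s.max' hs
    have ht : b.repr x t ≠ 0 := (Finset.mem_filter.1 (s.max'_mem hs)).2
    apply ht
    have hb : ∀ l : Fin n, b l = AdjoinRoot.root f ^ (l : ℕ) := fun l => by
      simp [b, pb, AdjoinRoot.powerBasis_gen]
    have h2 := h1 (AdjoinRoot.root f ^ (n - 1 - (t : ℕ)))
    rw [← b.sum_repr x, Finset.sum_mul, map_sum, Finset.sum_eq_single t] at h2
    · rw [smul_mul_assoc, map_smul, hb, ← pow_add, show (t : ℕ) + (n - 1 - t) = n - 1 by omega,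
        show AdjoinRoot.root f ^ (n - 1) = b ⟨n - 1, by omega⟩ from (hb ⟨n - 1, by omega⟩).symm] at h2
      simpa [τ] using h2
    · intro l _ hl
      rw [smul_mul_assoc, map_smul]
      by_cases h0 : b.repr x l = 0
      · rw [h0, zero_smul]
      · have hlt : (l : ℕ) < t := lt_of_le_of_ne
          (s.le_max' l (Finset.mem_filter.2 ⟨Finset.mem_univ _, h0⟩)) (fun e => hl (Fin.ext e))
        rw [hb, ← pow_add, show AdjoinRoot.root f ^ ((l : ℕ) + (n - 1 - t)) =
          b ⟨(l : ℕ) + (n - 1 - t), by omega⟩ from (hb ⟨(l : ℕ) + (n - 1 - t), by omega⟩).symm]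
        simp [τ, show (l : ℕ) + (n - 1 - t) ≠ n - 1 by omega]
    · simp
  have hdet : IsUnit S₀.det := by
    rw [← Matrix.isUnit_iff_isUnit_det, ← Matrix.mulVec_injective_iff_isUnit]
    intro u v huv
    have : ∑ k, (u k - v k) • b k = 0 := by
      refine hnd _ fun i => ?_
      rw [Finset.sum_mul, map_sum]
      have h := congrFun huv i
      simp only [Matrix.mulVec, dotProduct, S₀, Matrix.of_apply] at h
      calc ∑ k, τ ((u k - v k) • b k * b i) = ∑ k, (τ (b i * b k) * u k - τ (b i * b k) * v k) :=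
            Finset.sum_congr rfl fun k _ => by
              rw [smul_mul_assoc, map_smul, smul_eq_mul, mul_comm (b k) (b i)]; ring
        _ = 0 := by rw [Finset.sum_sub_distrib, h, sub_self]
    funext k
    exact sub_eq_zero.1 (Fintype.linearIndependent_iff.1 b.linearIndependent _ this k)
  refine ⟨S₀⁻¹, S₀ * M, by rw [Matrix.transpose_nonsing_inv, hS₀], hT, ?_, ?_⟩
  · rw [← mul_assoc, Matrix.nonsing_inv_mul _ hdet, one_mul, hc]
  · rwa [Matrix.isUnit_nonsing_inv_det_iff]

theorem exists_symmetric_pair {n : ℕ} {f : F[X]} (hf : f.Monic) (hd : f.natDegree = n) :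
    ∃ S T : Matrix (Fin n) (Fin n) F, Sᵀ = S ∧ Tᵀ = T ∧ (S * T).charpoly = f := by
  obtain ⟨S, T, h1, h2, h3, -⟩ := exists_symmetric_pair_unit hf hd
  exact ⟨S, T, h1, h2, h3⟩

theorem symp_lower (n : ℕ) :
    Fintype.card F ^ n ≤ Nat.card (ConjClasses (Matrix.symplecticGroup (Fin n) F)) := by
  classical
  let poly : (Fin n → F) → F[X] := fun c => X ^ n + ∑ i : Fin n, C (c i) * X ^ (i : ℕ)
  have hmon : ∀ c, (poly c).Monic ∧ (poly c).natDegree = n := fun c => by
    have hlt : (∑ i : Fin n, C (c i) * X ^ (i : ℕ) : F[X]).degree < ((n : ℕ) : WithBot ℕ) := degree_sum_fin_lt c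
    refine ⟨monic_X_pow_add hlt, natDegree_eq_of_degree_eq_some ?_⟩
    rw [degree_add_eq_left_of_degree_lt (by rwa [degree_X_pow]), degree_X_pow]
  choose S T hS hT hST using fun c => exists_symmetric_pair (hmon c).1 (hmon c).2
  let el : (Fin n → F) → Matrix.symplecticGroup (Fin n) F := fun c =>
    ⟨_, Submonoid.mul_mem _ (unitriangular_mem_symplectic (hS c)).1 (unitriangular_mem_symplectic (hT c)).2⟩
  have hinj : Function.Injective fun c => ConjClasses.mk (el c) := by
    intro c c' h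
    obtain ⟨g, hg⟩ := isConj_iff.1 (ConjClasses.mk_eq_mk_iff_isConj.1 h)
    have hval := congrArg Subtype.val hg
    simp only [Submonoid.coe_mul] at hval
    let u : (Matrix (Fin n ⊕ Fin n) (Fin n ⊕ Fin n) F)ˣ :=
      ⟨g, (g⁻¹ : Matrix.symplecticGroup (Fin n) F), by rw [← Submonoid.coe_mul, mul_inv_cancel]; rfl,
        by rw [← Submonoid.coe_mul, inv_mul_cancel]; rfl⟩
    have hcp : (el c : Matrix (Fin n ⊕ Fin n) (Fin n ⊕ Fin n) F).charpoly =
        (el c' : Matrix (Fin n ⊕ Fin n) (Fin n ⊕ Fin n) F).charpoly := by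
      rw [← hval]
      show _ = ((u : Matrix _ _ F) * (el c : Matrix _ _ F) * ((u⁻¹ : (Matrix (Fin n ⊕ Fin n) (Fin n ⊕ Fin n) F)ˣ) :
        Matrix (Fin n ⊕ Fin n) (Fin n ⊕ Fin n) F)).charpoly
      rw [Matrix.coe_units_inv, Matrix.charpoly_units_conj]
    rw [show (el c : Matrix (Fin n ⊕ Fin n) (Fin n ⊕ Fin n) F) = _ from rfl, charpoly_pair, hST] at hcp
    rw [show (el c' : Matrix (Fin n ⊕ Fin n) (Fin n ⊕ Fin n) F) = _ from rfl, charpoly_pair, hST] at hcp
    have h0 : ∑ i ∈ Finset.range (n + 1),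
        C ((poly c).coeff i - (poly c').coeff i) * ((X - C (1 : F)) ^ 2) ^ i * X ^ (n - i) = 0 := by
      simp only [C_sub, sub_mul, Finset.sum_sub_distrib, hcp, sub_self]
    funext i
    have := sub_eq_zero.1 (homog_injective n _ h0 i (by omega))
    simpa [poly, coeff_X_pow, finsetSum_coeff, i.isLt.ne, Fin.val_inj] using this
  have h := Nat.card_le_card_of_injective _ hinj
  rwa [Nat.card_eq_fintype_card, Fintype.card_fun, Fintype.card_fin] at h

end Cfsg.Agent.Lib.ClassNumber
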