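import Cfsg.Agent.Lib.ClassNumber.OddBound
import Cfsg.Agent.Lib.ClassNumber.SympMain

/-!
Admissible codes in odd dimension and classes with a prescribed property.
-/

set_option autoImplicit false

namespace Cfsg.Agent.Lib.ClassNumber

open Polynomial Module Cfsg.Agent.Lib.GLClasses UniqueFactorizationMonoid
open scoped Classical

universe u v

variable {F : Type v} [Field F] [Fintype F]

/-- An admissible code gives a datum of the same size, and its weight is bounded by the weight of the datum. -/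
theorem adm_datum (h2 : (2 : F) ≠ 0) (m : ℕ) : ∀ {g₀ : Fin (m + 1) → F[X]},
    g₀ ∈ admCodes (RingHom.id F) (1 : F) (m + 1) →
    (fun j => datOf (g₀ j)) ∈ (Fintype.piFinset fun j : Fin (m + 1) => odat F (m + 1) ((j : ℕ) + 1)).filter
        (fun x => ∑ j : Fin (m + 1), osz ((j : ℕ) + 1) (x j) = m + 1) ∧
      weight (RingHom.id F) (1 : F) (blocks g₀) ≤
        ∏ j : Fin (m + 1), opw owt ((j : ℕ) + 1) (datOf (g₀ j)) ∧
      (∀ (j : Fin (m + 1)) (r : F[X]), (r = X - C 1 ∨ r = X + C 1) → Odd ((j : ℕ) + 1) →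
        r ∈ normalizedFactors (g₀ j) → HasSpec (blocks g₀)) := by
  set N := m + 1
  let D : Fin (m + 1) → Finset (ℕ × ℕ × F[X]) := fun j => odat F N ((j : ℕ) + 1)
  set S := (Fintype.piFinset D).filter (fun x => ∑ j : Fin (m + 1), osz ((j : ℕ) + 1) (x j) = N)
  let Φ : (Fin (m + 1) → F[X]) → Fin (m + 1) → ℕ × ℕ × F[X] := fun g j => datOf (g j)
  have hspec : ∀ (r : F[X]) (J : ℕ), 1 ≤ J → (Spec (RingHom.id F) (1 : F) (r, J) ↔
      (r = X - C 1 ∨ r = X + C 1) ∧ Odd J) := by
    intro r J hJ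
    unfold Spec Lin
    constructor
    · rintro ⟨⟨-, hr⟩, hp⟩
      refine ⟨hr, Nat.not_even_iff_odd.1 fun he => ?_⟩
      obtain ⟨k, hk⟩ := he
      rw [one_mul, show J - 1 = 2 * (k - 1) + 1 by omega, pow_add, pow_mul, neg_one_sq, one_pow, one_mul,
        pow_one] at hp
      exact h2 (by linear_combination (-1 : F) * hp)
    · rintro ⟨hr, k, hk⟩
      refine ⟨⟨fun a => rfl, hr⟩, ?_⟩
      rw [one_mul, show J - 1 = 2 * k by omega, pow_mul, neg_one_sq, one_pow]
  have hmem : ∀ g ∈ admCodes (RingHom.id F) (1 : F) (m + 1), Φ g ∈ S := by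
    intro g hg
    obtain ⟨hgc, hadm⟩ := Finset.mem_filter.1 hg
    obtain ⟨hc, hwt⟩ := mem_codes.1 hgc
    have hdeg : ∀ j, (g j).natDegree = (datOf (g j)).1 + (datOf (g j)).2.1 + (datOf (g j)).2.2.natDegree := by
      intro j
      conv_lhs => rw [← datOf_prod h2 (hc j).1]
      have hm3 : (datOf (g j)).2.2.Monic := by
        have := monic_multiset_prod_of_monic
          ((normalizedFactors (g j)).filter fun r => r ≠ X - C 1 ∧ r ≠ X + C 1) id
          (fun r hr => factor_monic (Multiset.mem_filter.1 hr).1)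
        simpa [datOf] using this
      rw [((monic_X_sub_C (1 : F)).pow _).natDegree_mul (((monic_X_add_C (1 : F)).pow _).mul hm3),
        ((monic_X_add_C (1 : F)).pow _).natDegree_mul hm3, natDegree_pow, natDegree_pow, natDegree_X_sub_C,
        natDegree_X_add_C]
      ring
    have hle : ∀ j : Fin (m + 1), ((j : ℕ) + 1) * (g j).natDegree ≤ N := fun j => by
      have h := Finset.single_le_sum (f := fun j : Fin (m + 1) => ((j : ℕ) + 1) * (g j).natDegree)
        (fun _ _ => Nat.zero_le _) (Finset.mem_univ j)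
      rwa [show (∑ j : Fin (m + 1), ((j : ℕ) + 1) * (g j).natDegree) = N from hwt] at h
    have hevn : ∀ j : Fin (m + 1), Even ((j : ℕ) + 1) → Even (datOf (g j)).1 ∧ Even (datOf (g j)).2.1 := by
      intro j he
      have hns : ∀ r, ¬ Spec (RingHom.id F) (1 : F) (r, (j : ℕ) + 1) := fun r h =>
        Nat.not_odd_iff_even.2 he ((hspec r _ (by omega)).1 h).2
      constructor
      · by_cases hr : X - C (1 : F) ∈ normalizedFactors (g j)
        · exact (hadm j).2 _ ⟨fun a => rfl, Or.inl rfl⟩ (hns _) hr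
        · show Even ((normalizedFactors (g j)).count (X - C 1))
          rw [Multiset.count_eq_zero.2 hr]; exact Even.zero
      · by_cases hr : X + C (1 : F) ∈ normalizedFactors (g j)
        · exact (hadm j).2 _ ⟨fun a => rfl, Or.inr rfl⟩ (hns _) hr
        · show Even ((normalizedFactors (g j)).count (X + C 1))
          rw [Multiset.count_eq_zero.2 hr]; exact Even.zero
    have hpal : ∀ j, ∃ d, (datOf (g j)).2.2.natDegree = 2 * d ∧ (datOf (g j)).2.2 ∈ pal F d := by
      intro j
      set s := (normalizedFactors (g j)).filter fun r => r ≠ X - C 1 ∧ r ≠ X + C 1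
      have hms : ∀ r ∈ s, r.Monic := fun r hr => factor_monic (Multiset.mem_filter.1 hr).1
      have hm3 : s.prod.Monic := by simpa using monic_multiset_prod_of_monic s id hms
      have hd3 : (datOf (g j)).2.2 = s.prod := rfl
      rw [hd3]
      have hdvd : s.prod ∣ g j := by
        conv_rhs => rw [← prod_factors (hc j).1]
        exact Multiset.prod_dvd_prod_of_le (Multiset.filter_le _ _)
      have he : ∀ e : F, (X - C e = X - C 1 ∨ X - C e = X + C 1) → s.prod.eval e ≠ 0 := by
        intro e he h0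
        obtain ⟨r, hr, hd⟩ := (irreducible_X_sub_C e).prime.exists_mem_multiset_dvd (dvd_iff_isRoot.2 h0)
        obtain ⟨hr1, hr2, hr3⟩ := Multiset.mem_filter.1 hr
        have := eq_of_monic_of_associated (monic_X_sub_C e) (hms r hr)
          ((irreducible_X_sub_C e).associated_of_dvd (irreducible_of_normalized_factor r hr1) hd)
        rcases he with h | h
        · exact hr2 (this.symm.trans h)
        · exact hr3 (this.symm.trans h)
      have hsrp : srp (RingHom.id F) s.prod = s.prod := by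
        set f := (X - C (1 : F)) ^ (datOf (g j)).1 * (X + C 1) ^ (datOf (g j)).2.1
        have hg : f * s.prod = g j := by rw [mul_assoc, ← hd3]; exact datOf_prod h2 (hc j).1
        have hf : srp (RingHom.id F) f = f := by
          rw [srp_mul, srp_pow, srp_pow,
            Lin.srp_eq (θ := RingHom.id F) ⟨fun a => rfl, Or.inl rfl⟩,
            Lin.srp_eq (θ := RingHom.id F) ⟨fun a => rfl, Or.inr rfl⟩]
        have h := (hadm j).1
        rw [← hg, srp_mul, hf] at h
        exact mul_left_cancel₀ ((((monic_X_sub_C (1 : F)).pow _).mul ((monic_X_add_C (1 : F)).pow _)).ne_zero) h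
      exact mem_pal h2 hm3 (coeff_zero_ne_of_dvd hdvd (hc j).2) hsrp (he 1 (Or.inl rfl))
        (he (-1) (Or.inr (by rw [C_neg, sub_neg_eq_add])))
    refine Finset.mem_filter.2 ⟨Fintype.mem_piFinset.2 fun j => ?_, ?_⟩
    · obtain ⟨d, hd, hd'⟩ := hpal j
      have hb : (datOf (g j)).1 + (datOf (g j)).2.1 + 2 * d ≤ N := by
        have := hle j
        rw [hdeg j, hd] at this
        exact (Nat.le_mul_of_pos_left _ (Nat.succ_pos _)).trans this
      simp only [D, Φ, odat, oset, Finset.mem_product, Finset.mem_filter, Finset.mem_range, Finset.mem_biUnion]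
      exact ⟨⟨by omega, fun h => (hevn j h).1⟩, ⟨by omega, fun h => (hevn j h).2⟩, ⟨d, by omega, hd'⟩⟩
    · rw [Finset.sum_congr rfl fun (j : Fin (m + 1)) _ =>
        show osz ((j : ℕ) + 1) (Φ g j) = ((j : ℕ) + 1) * (g j).natDegree by rw [hdeg j]; rfl]
      exact hwt
  intro g₀ hg₀
  refine ⟨hmem g₀ hg₀, ?_, fun j r hr ho hrm =>
    ⟨(r, (j : ℕ) + 1), mem_blocks_of_factor g₀ j r hrm, (hspec r _ (by omega)).2 ⟨hr, ho⟩⟩⟩
  have hwle : ∀ g : Fin (m + 1) → F[X], weight (RingHom.id F) (1 : F) (blocks g) ≤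
      ∏ j : Fin (m + 1), opw owt ((j : ℕ) + 1) (Φ g j) := by
    intro g
    have hprod : ∀ j : Fin (m + 1), opw owt ((j : ℕ) + 1) (Φ g j) = 2 ^
        ((if Odd ((j : ℕ) + 1) ∧ (datOf (g j)).1 ≠ 0 then 1 else 0) +
          (if Odd ((j : ℕ) + 1) ∧ (datOf (g j)).2.1 ≠ 0 then 1 else 0)) := by
      intro j
      simp only [Φ, opw, owt, pow_add]
      congr 1 <;> split_ifs <;> rfl
    simp only [hprod]
    rw [Finset.prod_pow_eq_pow_sum, weight]
    refine Nat.pow_le_pow_right (by norm_num) (le_trans (Finset.card_le_card (t :=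
      Finset.univ.biUnion fun j : Fin (m + 1) =>
        (if Odd ((j : ℕ) + 1) ∧ (datOf (g j)).1 ≠ 0 then {((X - C 1 : F[X]), (j : ℕ) + 1)} else ∅) ∪
        (if Odd ((j : ℕ) + 1) ∧ (datOf (g j)).2.1 ≠ 0 then {((X + C 1 : F[X]), (j : ℕ) + 1)} else ∅)) ?_) ?_)
    · intro x hx
      rw [Finset.mem_filter, Multiset.mem_toFinset] at hx
      obtain ⟨j, r, hr, rfl⟩ := mem_blocks.1 hx.1
      obtain ⟨h1, he⟩ := (hspec r _ (by omega)).1 hx.2
      refine Finset.mem_biUnion.2 ⟨j, Finset.mem_univ _, Finset.mem_union.2 ?_⟩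
      rcases h1 with rfl | rfl
      · left
        rw [if_pos ⟨he, (Multiset.count_pos.2 hr).ne'⟩]
        exact Finset.mem_singleton_self _
      · right
        rw [if_pos ⟨he, (Multiset.count_pos.2 hr).ne'⟩]
        exact Finset.mem_singleton_self _
    · refine Finset.card_biUnion_le.trans (Finset.sum_le_sum fun j _ => (Finset.card_union_le _ _).trans ?_)
      split_ifs <;> simp
  exact hwle g₀

theorem hasSpec_of_odd (h2 : (2 : F) ≠ 0) {n : ℕ} {g : Fin (2 * n + 1) → F[X]}
    (hg : g ∈ admCodes (RingHom.id F) (1 : F) (2 * n + 1)) : HasSpec (blocks g) := by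
  obtain ⟨hS, -, hsp⟩ := adm_datum h2 (2 * n) hg
  by_contra hns
  obtain ⟨hD, hsum⟩ := Finset.mem_filter.1 hS
  rw [Fintype.mem_piFinset] at hD
  have hev : ∀ j : Fin (2 * n + 1), 2 ∣ osz ((j : ℕ) + 1) (datOf (g j)) := by
    intro j
    have h := hD j
    simp only [odat, oset, Finset.mem_product, Finset.mem_filter, Finset.mem_biUnion] at h
    obtain ⟨⟨-, ha⟩, ⟨-, hb⟩, d, -, hd⟩ := h
    rw [osz, natDegree_of_mem_pal hd]
    refine Dvd.dvd.mul_left ?_ _
    rcases Nat.even_or_odd ((j : ℕ) + 1) with he | ho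
    · exact ((even_iff_two_dvd.1 (ha he)).add (even_iff_two_dvd.1 (hb he))).add (dvd_mul_right 2 d)
    · have hz : ∀ r : F[X], r = X - C 1 ∨ r = X + C 1 → (normalizedFactors (g j)).count r = 0 :=
        fun r hr => Multiset.count_eq_zero.2 fun hrm => hns (hsp j r hr ho hrm)
      rw [show (datOf (g j)).1 = 0 from hz _ (Or.inl rfl), show (datOf (g j)).2.1 = 0 from hz _ (Or.inr rfl)]
      simp
  have h := Finset.dvd_sum (s := (Finset.univ : Finset (Fin (2 * n + 1)))) fun j _ => hev j
  rw [hsum] at h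
  omega

/-- The codes with at most one elementary divisor `X - 1` and at most one `X + 1`. -/
def Res {m : ℕ} (g : Fin (m + 1) → F[X]) : Prop := (datOf (g 0)).1 ≤ 1 ∧ (datOf (g 0)).2.1 ≤ 1

/-- The final count. -/
theorem odd_count (h2 : (2 : F) ≠ 0) (n : ℕ) :
    5 * ((∑ g ∈ admCodes (RingHom.id F) (1 : F) (2 * n + 1), weight (RingHom.id F) (1 : F) (blocks g)) +
      3 * ∑ g ∈ (admCodes (RingHom.id F) (1 : F) (2 * n + 1)).filter Res,
        weight (RingHom.id F) (1 : F) (blocks g)) ≤ 292 * Fintype.card F ^ n := by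
  have hq3 : 3 ≤ Fintype.card F := three_le_card h2
  have hne4 : Fintype.card F ≠ 4 := fun h => h2 (by
    have h0 := FiniteField.cast_card_eq_zero F
    rw [h] at h0
    have : (2 : F) * 2 = 0 := by push_cast at h0; linear_combination h0
    exact mul_self_eq_zero.1 this)
  set M := 2 * n + 1
  set A := admCodes (RingHom.id F) (1 : F) (2 * n + 1)
  set S := (Fintype.piFinset fun j : Fin (2 * n + 1) => odat F M ((j : ℕ) + 1)).filter
    (fun x => ∑ j : Fin (2 * n + 1), osz ((j : ℕ) + 1) (x j) = M)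
  let w₀ : ℕ × ℕ × F[X] → ℕ := fun x => opw owt 1 x + 3 * opw rwt 1 x
  let tail : (Fin (2 * n + 1) → ℕ × ℕ × F[X]) → ℕ := fun x => ∏ i : Fin (2 * n), opw owt ((i : ℕ) + 2) (x i.succ)
  let Φ : (Fin (2 * n + 1) → F[X]) → Fin (2 * n + 1) → ℕ × ℕ × F[X] := fun g j => datOf (g j)
  have hinj : Set.InjOn Φ A := by
    intro g hg g' hg' h
    have hc := (mem_codes.1 (Finset.mem_filter.1 hg).1).1
    have hc' := (mem_codes.1 (Finset.mem_filter.1 hg').1).1
    funext j
    rw [← datOf_prod h2 (hc j).1, ← datOf_prod h2 (hc' j).1, show datOf (g j) = datOf (g' j) from congrFun h j]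
  have hw : ∀ g ∈ A, weight (RingHom.id F) (1 : F) (blocks g) ≤ opw owt 1 (Φ g 0) * tail (Φ g) := by
    intro g hg
    refine (adm_datum h2 (2 * n) hg).2.1.trans (le_of_eq ?_)
    rw [Fin.prod_univ_succ]
    simp [Φ, tail]
  by_cases h3 : Fintype.card F = 3
  · refine le_trans (Nat.mul_le_mul_left 5 ?_) (by rw [h3]; exact count_three n (2 * n) le_rfl)
    calc (∑ g ∈ A, weight (RingHom.id F) (1 : F) (blocks g)) +
          3 * ∑ g ∈ A.filter Res, weight (RingHom.id F) (1 : F) (blocks g)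
        ≤ ∑ g ∈ A, w₀ (Φ g 0) * tail (Φ g) := by
          rw [Finset.sum_filter, Finset.mul_sum, ← Finset.sum_add_distrib]
          refine Finset.sum_le_sum fun g hg => ?_
          simp only [w₀, add_mul, mul_assoc]
          refine add_le_add (hw g hg) (Nat.mul_le_mul_left 3 ?_)
          split_ifs with hr
          · refine (hw g hg).trans (le_of_eq ?_)
            congr 1
            have e : ∀ a, a ≤ 1 → owt 1 a = rwt 1 a := fun a ha => by
              interval_cases a <;> rfl
            simp only [opw, Φ, e _ hr.1, e _ hr.2]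
          · exact Nat.zero_le _
      _ = ∑ x ∈ A.image Φ, w₀ (x 0) * tail x := by rw [Finset.sum_image hinj]
      _ ≤ ∑ x ∈ S, w₀ (x 0) * tail x := Finset.sum_le_sum_of_subset fun x hx => by
          obtain ⟨g, hg, rfl⟩ := Finset.mem_image.1 hx
          exact (adm_datum h2 (2 * n) hg).1
      _ ≤ _ := count_le h2 hq3 M (2 * n) w₀ hC (fun t => by
          simp only [w₀, Finset.sum_add_distrib, ← Finset.mul_sum]
          have h1 := owt_one_le h2 hq3 M t
          have h2' := rwt_one_le h2 M t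
          rw [h3] at h1 h2'
          exact add_le_add h1 (Nat.mul_le_mul_left 3 h2')) M |>.trans (by rw [h3])
  · have h5 := count_five (q := Fintype.card F) (by omega) n (2 * n)
    have hW : ∑ g ∈ A, weight (RingHom.id F) (1 : F) (blocks g) ≤
        ∑ t ∈ Finset.range (2 * n + 2), hd (Fintype.card F) t * tR (Fintype.card F) (2 * n) (2 * n + 1 - t) :=
      calc ∑ g ∈ A, weight (RingHom.id F) (1 : F) (blocks g)
          ≤ ∑ g ∈ A, opw owt 1 (Φ g 0) * tail (Φ g) := Finset.sum_le_sum hw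
        _ = ∑ x ∈ A.image Φ, opw owt 1 (x 0) * tail x := by rw [Finset.sum_image hinj]
        _ ≤ ∑ x ∈ S, opw owt 1 (x 0) * tail x := Finset.sum_le_sum_of_subset fun x hx => by
            obtain ⟨g, hg, rfl⟩ := Finset.mem_image.1 hx
            exact (adm_datum h2 (2 * n) hg).1
        _ ≤ _ := count_le h2 hq3 M (2 * n) (opw owt 1) (hd (Fintype.card F)) (owt_one_le h2 hq3 M) M
    have hR : ∑ g ∈ A.filter Res, weight (RingHom.id F) (1 : F) (blocks g) ≤
        ∑ g ∈ A, weight (RingHom.id F) (1 : F) (blocks g) := Finset.sum_le_sum_of_subset (Finset.filter_subset _ _)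
    linarith

/-- Classes with a property, by the codes that may carry it. -/
theorem two_mul_card_classes_sub {V : Type u} [AddCommGroup V] [Module F V] [FiniteDimensional F V] {n : ℕ}
    (hn : finrank F V = 2 * n + 1) (h2 : (2 : F) ≠ 0) (T₀ : IForm (RingHom.id F) (1 : F) V) {G : Type*} [Group G]
    [Finite G] (ρ : G → (V ≃ₗ[F] V)) (hρ : ∀ a b x, ρ (a * b) x = ρ a (ρ b x)) (hinj : Function.Injective ρ)
    (hiso : ∀ a x y, T₀.B (ρ a x) (ρ a y) = T₀.B x y)
    (hsurj : ∀ A : V ≃ₗ[F] V, (∀ x y, T₀.B (A x) (A y) = T₀.B x y) → ∃ a, ρ a = A)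
    (P : ConjClasses G → Prop) (R : (Fin (2 * n + 1) → F[X]) → Prop)
    (hPR : ∀ a, P (ConjClasses.mk a) → ∀ g ∈ admCodes (RingHom.id F) (1 : F) (2 * n + 1),
      Typed ({ T₀ with A := ρ a, iso := hiso a } : IForm (RingHom.id F) (1 : F) V) (blocks g) → R g) :
    2 * Nat.card {c : ConjClasses G // P c} ≤
      ∑ g ∈ (admCodes (RingHom.id F) (1 : F) (2 * n + 1)).filter R, weight (RingHom.id F) (1 : F) (blocks g) := by
  have hz : ∃ z : F, z + (RingHom.id F) z = 1 := ⟨(2 : F)⁻¹, by rw [RingHom.id_apply]; field_simp; norm_num⟩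
  let tr : G → Trip.{u} (RingHom.id F) (1 : F) := fun a =>
    { V := V, form := { T₀ with A := ρ a, iso := hiso a } }
  have hcode : ∀ a, ∃ g ∈ admCodes (RingHom.id F) (1 : F) (2 * n + 1), Typed (tr a).form (blocks g) := fun a => by
    obtain ⟨g, hg, hT⟩ := exists_typed hn (tr a).form
    exact ⟨g, Finset.mem_filter.2 ⟨hg, adm_of_typed T₀.inv hz (mem_codes.1 hg).1 (tr a) hT⟩, hT⟩
  choose code hcode hT using hcode
  set A := (admCodes (RingHom.id F) (1 : F) (2 * n + 1)).filter R
  have hlab : ∀ g : (A : Finset _), ∃ (α : Type) (_ : Fintype α),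
      2 * Fintype.card α ≤ weight (RingHom.id F) (1 : F) (blocks g.1) ∧
      ∃ L : Trip.{u} (RingHom.id F) (1 : F) → α, ∀ T S : Trip.{u} (RingHom.id F) (1 : F), Typed T.form (blocks g.1) →
        Typed S.form (blocks g.1) → disc T.form = disc S.form → L T = L S → IForm.Equiv' T.form S.form := fun g => by
    have hg := (Finset.mem_filter.1 g.2).1
    obtain ⟨α, i, -, h, L, hL⟩ := exists_label_disc h2 _ (good_blocks (mem_codes.1 (Finset.mem_filter.1 hg).1).1)
    exact ⟨α, i, h (hasSpec_of_odd h2 hg), L, hL⟩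
  choose α hα hcard L hL using hlab
  have hmk : ∀ c : {c : ConjClasses G // P c}, code c.1.out ∈ A := fun c =>
    Finset.mem_filter.2 ⟨hcode _, hPR _ (by rw [show ConjClasses.mk c.1.out = c.1 from Quotient.out_eq _]; exact c.2) _
      (hcode _) (hT _)⟩
  let Φ : {c : ConjClasses G // P c} → Σ g : (A : Finset _), α g := fun c =>
    ⟨⟨code c.1.out, hmk c⟩, L ⟨code c.1.out, hmk c⟩ (tr c.1.out)⟩
  have hΦ : Function.Injective Φ := by
    intro c d h
    have hsig : ∀ (s t : Σ g : (A : Finset _), α g), s = t →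
        ∀ T S : Trip.{u} (RingHom.id F) (1 : F), Typed T.form (blocks s.1.1) → Typed S.form (blocks t.1.1) →
        disc T.form = disc S.form →
        s.2 = L s.1 T → t.2 = L t.1 S → IForm.Equiv' T.form S.form := by
      rintro s t rfl T S h1 h2' hd h3 h4
      exact hL s.1 T S h1 h2' hd (h3.symm.trans h4)
    obtain ⟨e, he, heA⟩ := hsig _ _ h (tr c.1.out) (tr d.1.out) (hT _) (hT _) rfl rfl rfl
    obtain ⟨z, hz⟩ := hsurj e he
    refine Subtype.ext ?_
    rw [← Quotient.out_eq c.1, ← Quotient.out_eq d.1]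
    refine ConjClasses.mk_eq_mk_iff_isConj.2 (isConj_iff.2 ⟨z, ?_⟩)
    rw [mul_inv_eq_iff_eq_mul]
    refine hinj (LinearEquiv.ext fun x => ?_)
    rw [hρ, hρ, hz]
    exact heA x
  have h := Nat.card_le_card_of_injective _ hΦ
  letI : ∀ g, Fintype (α g) := hα
  rw [Nat.card_sigma] at h
  simp only [Nat.card_eq_fintype_card] at h
  refine (Nat.mul_le_mul_left 2 h).trans ?_
  rw [Finset.mul_sum, ← Finset.sum_coe_sort A]
  exact Finset.sum_le_sum fun g _ => hcard g

end Cfsg.Agent.Lib.ClassNumber
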