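import Cfsg.Agent.Lib.ClassNumber.OrthCount

/-!
Weighted counts of orthogonal data in odd dimension: exact coefficient recursion and bounds.
-/

set_option autoImplicit false

namespace Cfsg.Agent.Lib.ClassNumber

open Polynomial Cfsg.Agent.Lib.GLClasses
open scoped Classical

variable {F : Type*} [Field F] [Fintype F]

/-- Coefficients of `(1 + x) ^ 4 / (1 - q x ^ 2)`. -/
def hd (q t : ℕ) : ℕ :=
  ∑ i ∈ Finset.range 5, if i ≤ t ∧ (t - i) % 2 = 0 then Nat.choose 4 i * q ^ ((t - i) / 2) else 0

/-- The restricted weight of a multiplicity at block size one. -/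
def rwt (_J a : ℕ) : ℕ := if a = 0 then 1 else if a = 1 then 2 else 0

/-- The weighted count with restricted multiplicities at block size one. -/
def rh (q t : ℕ) : ℕ :=
  if t % 2 = 1 then 4 * palNum q (t / 2)
  else palNum q (t / 2) + if t / 2 = 0 then 0 else 4 * palNum q (t / 2 - 1)

/-- The coefficients of the factor of block size `J ≥ 2`. -/
def ofac (q J u : ℕ) : ℕ :=
  if u % J = 0 then (if J % 2 = 1 then hd q (u / J) else if u / J % 2 = 0 then q ^ (u / J / 2) else 0) else 0

/-- The coefficients of the product of the factors of block sizes `2, …, m + 1`. -/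
def tR (q : ℕ) : ℕ → ℕ → ℕ
  | 0, s => if s = 0 then 1 else 0
  | m + 1, s => ∑ u ∈ Finset.range (s + 1), ofac q (m + 2) u * tR q m (s - u)

/-- One step of the tabulation of `tR`. -/
def tStep (q J L : ℕ) (p : List ℕ) : List ℕ :=
  (List.range L).map fun s => ((List.range (s + 1)).map fun u => ofac q J u * p.getD (s - u) 0).sum

/-- A row of the table of `tR`. -/
def tRow (q L : ℕ) : ℕ → List ℕ
  | 0 => (List.range L).map fun s => if s = 0 then 1 else 0
  | m + 1 => tStep q (m + 2) L (tRow q L m)

theorem tRow_getD (q L : ℕ) : ∀ m s, s < L → (tRow q L m).getD s 0 = tR q m s := by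
  intro m
  induction m with
  | zero => intro s hs; simp [tRow, tR, List.getD, hs]
  | succ m ih =>
    intro s hs
    rw [tR, tRow, tStep, List.getD_eq_getElem?_getD, List.getElem?_map, List.getElem?_range hs,
      Option.map_some, Option.getD_some]
    show _ = ((List.range (s + 1)).map fun u => ofac q (m + 2) u * tR q m (s - u)).sum
    congr 1
    refine List.map_congr_left fun u _ => ?_
    rw [ih (s - u) (by omega)]

theorem tR_mono (q : ℕ) {m m' : ℕ} (h : m ≤ m') (s : ℕ) : tR q m s ≤ tR q m' s := by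
  refine monotone_nat_of_le_succ (f := fun m => tR q m s) (fun m => ?_) h
  show tR q m s ≤ tR q (m + 1) s
  rw [tR]
  refine le_trans ?_ (Finset.single_le_sum (f := fun u => ofac q (m + 2) u * tR q m (s - u))
    (fun _ _ => Nat.zero_le _) (Finset.mem_range.2 (Nat.succ_pos s)))
  have : ofac q (m + 2) 0 = 1 := by
    simp [ofac, hd]
  rw [this, one_mul, Nat.sub_zero]

theorem hd_even (q k : ℕ) : hd q (2 * (k + 2)) = q ^ (k + 2) + 6 * q ^ (k + 1) + q ^ k := by
  simp only [hd, Finset.sum_range_succ, Finset.sum_range_zero]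
  rw [if_pos (by omega), if_neg (by omega), if_pos (by omega), if_neg (by omega), if_pos (by omega)]
  rw [show (2 * (k + 2) - 0) / 2 = k + 2 by omega, show (2 * (k + 2) - 2) / 2 = k + 1 by omega,
    show (2 * (k + 2) - 4) / 2 = k by omega, Nat.choose_zero_right, show Nat.choose 4 2 = 6 from rfl,
    show Nat.choose 4 4 = 1 from rfl]
  ring

theorem hd_odd (q k : ℕ) : hd q (2 * (k + 1) + 1) = 4 * q ^ (k + 1) + 4 * q ^ k := by
  simp only [hd, Finset.sum_range_succ, Finset.sum_range_zero]
  rw [if_neg (by omega), if_pos (by omega), if_neg (by omega), if_pos (by omega), if_neg (by omega),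
    show (2 * (k + 1) + 1 - 1) / 2 = k + 1 by omega, show (2 * (k + 1) + 1 - 3) / 2 = k by omega,
    show Nat.choose 4 1 = 4 from rfl, show Nat.choose 4 3 = 4 from rfl]
  ring

theorem hd_small (q : ℕ) : hd q 0 = 1 ∧ hd q 1 = 4 ∧ hd q 2 = q + 6 := by
  simp [hd, Finset.sum_range_succ, Nat.choose]

section Blocks

variable (h2 : (2 : F) ≠ 0) (hq : 3 ≤ Fintype.card F) (M : ℕ)
include h2 hq

theorem owt_one_le (t : ℕ) :
    ∑ x ∈ (odat F M 1).filter (fun x => osz 1 x = t), opw owt 1 x ≤ hd (Fintype.card F) t := by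
  set q := Fintype.card F
  refine (sum_odat_one h2 owt M t).trans (le_of_eq ?_)
  simp only [owt_pairs]
  obtain ⟨k, rfl | rfl⟩ := Nat.even_or_odd' t
  · rw [Nat.mul_div_cancel_left _ Nat.two_pos]
    rcases k with _ | k
    · simp [palNum, (hd_small q).1]
    have e : ∀ d ∈ Finset.range (k + 1), (if 2 * (k + 1) - 2 * d = 0 then 1 else 4 * (2 * (k + 1) - 2 * d)) *
        palNum q d = 8 * ((k + 1 - d) * palNum q d) := fun d hd => by
      rw [Finset.mem_range] at hd
      rw [if_neg (by omega), show 2 * (k + 1) - 2 * d = 2 * (k + 1 - d) by omega]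
      ring
    rw [Finset.sum_range_succ, Finset.sum_congr rfl e, ← Finset.mul_sum, sum_palNum_conv hq k,
      if_pos (Nat.sub_self _), one_mul]
    rcases k with _ | k
    · show 8 * q ^ 0 + (q - 2) = _
      rw [(hd_small q).2.2, pow_zero]
      have : 3 ≤ q := hq
      omega
    · rw [hd_even]
      show 8 * q ^ (k + 1) + (q - 1) ^ 2 * q ^ k = _
      obtain ⟨r, hr⟩ : ∃ r, q = r + 1 := ⟨q - 1, by omega⟩
      rw [hr, Nat.add_sub_cancel]
      ring
  · rw [show (2 * k + 1) / 2 = k by omega]
    have e : ∀ d ∈ Finset.range (k + 1), (if 2 * k + 1 - 2 * d = 0 then 1 else 4 * (2 * k + 1 - 2 * d)) *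
        palNum q d = 4 * ((k + 1 - d) * palNum q d) + 4 * ((k - d) * palNum q d) := fun d hd => by
      rw [Finset.mem_range] at hd
      rw [if_neg (by omega), show 2 * k + 1 - 2 * d = (k + 1 - d) + (k - d) by omega]
      ring
    rw [Finset.sum_congr rfl e, Finset.sum_add_distrib, ← Finset.mul_sum, ← Finset.mul_sum,
      sum_palNum_conv hq k]
    rcases k with _ | k
    · simp [(hd_small q).2.1]
    · rw [sum_palNum_shift hq k, hd_odd]

omit hq in
theorem rwt_one_le (t : ℕ) :
    ∑ x ∈ (odat F M 1).filter (fun x => osz 1 x = t), opw rwt 1 x ≤ rh (Fintype.card F) t := by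
  set q := Fintype.card F
  refine (sum_odat_one h2 rwt M t).trans (le_of_eq ?_)
  have hp : ∀ r, 3 ≤ r → ∑ k ∈ Finset.range (r + 1), rwt 1 k * rwt 1 (r - k) = 0 := fun r hr =>
    Finset.sum_eq_zero fun k hk => by
      rw [Finset.mem_range] at hk
      rcases lt_or_ge k 2 with h | h
      · rw [show rwt 1 (r - k) = 0 by rw [rwt, if_neg (by omega), if_neg (by omega)], mul_zero]
      · rw [show rwt 1 k = 0 by rw [rwt, if_neg (by omega), if_neg (by omega)], zero_mul]
  have h0 : ∑ k ∈ Finset.range (0 + 1), rwt 1 k * rwt 1 (0 - k) = 1 := rfl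
  have h1 : ∑ k ∈ Finset.range (1 + 1), rwt 1 k * rwt 1 (1 - k) = 4 := rfl
  have h3 : ∑ k ∈ Finset.range (2 + 1), rwt 1 k * rwt 1 (2 - k) = 4 := rfl
  obtain ⟨k, rfl | rfl⟩ := Nat.even_or_odd' t
  · rw [rh, if_neg (by omega), Nat.mul_div_cancel_left _ Nat.two_pos, Finset.sum_range_succ, Nat.sub_self,
      h0, one_mul, add_comm]
    congr 1
    rcases k with _ | k
    · simp
    rw [if_neg (by omega), Nat.add_sub_cancel, Finset.sum_range_succ, show 2 * (k + 1) - 2 * k = 2 by omega, h3,
      Finset.sum_eq_zero fun d hd => ?_, zero_add]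
    rw [Finset.mem_range] at hd
    rw [hp _ (by omega), zero_mul]
  · rw [rh, if_pos (by omega), show (2 * k + 1) / 2 = k by omega, Finset.sum_range_succ,
      show 2 * k + 1 - 2 * k = 1 by omega, h1, Finset.sum_eq_zero fun d hd => ?_, zero_add]
    rw [Finset.mem_range] at hd
    rw [hp _ (by omega), zero_mul]

theorem owt_block_le {J : ℕ} (hJ : 2 ≤ J) (u : ℕ) :
    ∑ x ∈ (odat F M J).filter (fun x => osz J x = u), opw owt J x ≤ ofac (Fintype.card F) J u := by
  set q := Fintype.card F
  have hsz : ∀ x : ℕ × ℕ × F[X], osz J x = J * osz 1 x := fun x => by simp [osz]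
  by_cases hu : u % J = 0
  swap
  · rw [Finset.sum_eq_zero fun x hx => ?_]
    · exact Nat.zero_le _
    · exact absurd (by rw [← (Finset.mem_filter.1 hx).2, hsz, Nat.mul_mod_right]) hu
  obtain ⟨t, rfl⟩ := Nat.dvd_of_mod_eq_zero hu
  have hJ0 : 0 < J := by omega
  rw [ofac, if_pos hu, Nat.mul_div_cancel_left _ hJ0]
  rcases Nat.even_or_odd J with he | ho
  · rw [if_neg (by rw [Nat.even_iff] at he; omega)]
    let ew : ℕ → ℕ → ℕ := fun _ a => if Even a then 1 else 0
    calc ∑ x ∈ (odat F M J).filter (fun x => osz J x = J * t), opw owt J x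
        = ∑ x ∈ (odat F M J).filter (fun x => osz J x = J * t), opw ew 1 x := by
          refine Finset.sum_congr rfl fun x hx => ?_
          obtain ⟨hx1, -⟩ := Finset.mem_filter.1 hx
          simp only [odat, oset, Finset.mem_product, Finset.mem_filter] at hx1
          simp [opw, owt, ew, Nat.not_odd_iff_even.2 he, hx1.1.2 he, hx1.2.1.2 he]
      _ ≤ ∑ x ∈ (odat F M 1).filter (fun x => osz 1 x = t), opw ew 1 x := by
          refine Finset.sum_le_sum_of_subset fun x hx => ?_
          obtain ⟨hx1, hx2⟩ := Finset.mem_filter.1 hx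
          rw [hsz] at hx2
          simp only [odat, oset, Finset.mem_product, Finset.mem_filter] at hx1
          refine Finset.mem_filter.2 ⟨?_, Nat.eq_of_mul_eq_mul_left hJ0 hx2⟩
          simp only [odat, oset, Finset.mem_product, Finset.mem_filter]
          exact ⟨⟨hx1.1.1, fun h => absurd h (by decide)⟩, ⟨hx1.2.1.1, fun h => absurd h (by decide)⟩,
            hx1.2.2⟩
      _ ≤ _ := by
          refine (sum_odat_one h2 ew M t).trans ?_
          have hp : ∀ r, ∑ k ∈ Finset.range (r + 1), ew 1 k * ew 1 (r - k) ≤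
              if r % 2 = 0 then r / 2 + 1 else 0 := by
            intro r
            split_ifs with hr
            · calc ∑ k ∈ Finset.range (r + 1), ew 1 k * ew 1 (r - k)
                  ≤ ∑ k ∈ Finset.range (r + 1), if Even k then 1 else 0 := Finset.sum_le_sum fun k _ => by
                    simp only [ew]; split_ifs <;> simp
                _ = ((Finset.range (r + 1)).filter Even).card := by rw [Finset.card_filter]
                _ ≤ ((Finset.range (r / 2 + 1)).image (2 * ·)).card := Finset.card_le_card fun k hk => by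
                    simp only [Finset.mem_filter, Finset.mem_range, Finset.mem_image] at hk ⊢
                    obtain ⟨i, rfl⟩ := hk.2
                    exact ⟨i, by omega, by omega⟩
                _ ≤ _ := Finset.card_image_le.trans (by rw [Finset.card_range])
            · rw [Finset.sum_eq_zero fun k hk => ?_]
              simp only [ew]
              rw [Finset.mem_range] at hk
              by_cases h : Even k
              · rw [if_neg (fun h' : Even (r - k) => by rw [Nat.even_iff] at h h'; omega), mul_zero]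
              · rw [if_neg h, zero_mul]
          refine (Finset.sum_le_sum fun d _ => Nat.mul_le_mul_right _ (hp _)).trans ?_
          obtain ⟨k, rfl | rfl⟩ := Nat.even_or_odd' t
          · rw [if_pos (by omega), Nat.mul_div_cancel_left _ Nat.two_pos, ← sum_palNum_conv hq k]
            refine le_of_eq (Finset.sum_congr rfl fun d hd => ?_)
            rw [Finset.mem_range] at hd
            rw [if_pos (by omega)]
            congr 1
            omega
          · rw [if_neg (by omega), Finset.sum_eq_zero fun d hd => ?_]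
            rw [Finset.mem_range] at hd
            rw [if_neg (by omega), zero_mul]
  · rw [if_pos (by rwa [Nat.odd_iff] at ho)]
    refine le_trans (le_of_eq ?_) (owt_one_le h2 hq M t)
    refine Finset.sum_congr ?_ fun x _ => ?_
    · ext x
      simp [odat, oset, Nat.not_even_iff_odd.2 ho, hsz, Nat.pos_iff_ne_zero.1 hJ0]
    · simp [opw, owt, ho]

end Blocks

/-- Splitting a weighted count of tuples along one index. -/
theorem sum_pi_conv {α : Type*} {m : ℕ} (D : Fin (m + 1) → Finset α) (sz w : Fin (m + 1) → α → ℕ)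
    (p : Fin (m + 1)) (A B : ℕ → ℕ) (hA : ∀ u, ∑ a ∈ (D p).filter (fun a => sz p a = u), w p a ≤ A u)
    (hB : ∀ u, ∑ x ∈ (Fintype.piFinset fun i : Fin m => D (p.succAbove i)).filter
      (fun x => ∑ i, sz (p.succAbove i) (x i) = u), ∏ i, w (p.succAbove i) (x i) ≤ B u) (s : ℕ) :
    ∑ x ∈ (Fintype.piFinset D).filter (fun x => ∑ j, sz j (x j) = s), ∏ j, w j (x j) ≤
      ∑ u ∈ Finset.range (s + 1), A u * B (s - u) := by
  set R := Fintype.piFinset fun i : Fin m => D (p.succAbove i)
  set T : (Fin m → α) → ℕ := fun r => ∑ i, sz (p.succAbove i) (r i)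
  set P : (Fin m → α) → ℕ := fun r => ∏ i, w (p.succAbove i) (r i)
  calc ∑ x ∈ (Fintype.piFinset D).filter (fun x => ∑ j, sz j (x j) = s), ∏ j, w j (x j)
      = ∑ z ∈ (D p ×ˢ R).filter (fun z => sz p z.1 + T z.2 = s), w p z.1 * P z.2 := by
        refine Finset.sum_bij' (fun x _ => (x p, p.removeNth x)) (fun z _ => p.insertNth z.1 z.2)
          ?_ ?_ (fun x _ => ?_) (fun z _ => by simp) (fun x _ => Fin.prod_univ_succAbove _ p)
        · intro x hx
          simp only [Finset.mem_filter, Fintype.mem_piFinset, Finset.mem_product, R] at hx ⊢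
          exact ⟨⟨hx.1 p, fun i => hx.1 _⟩, by rw [← hx.2, Fin.sum_univ_succAbove _ p]; rfl⟩
        · intro z hz
          simp only [Finset.mem_filter, Fintype.mem_piFinset, Finset.mem_product, R] at hz ⊢
          refine ⟨fun j => ?_, ?_⟩
          · refine Fin.succAboveCases p ?_ (fun i => ?_) j
            · simpa using hz.1.1
            · simpa using hz.1.2 i
          · rw [Fin.sum_univ_succAbove _ p]; simpa [T] using hz.2
        · simp
    _ ≤ ∑ u ∈ Finset.range (s + 1), ∑ z ∈ (D p).filter (fun a => sz p a = u) ×ˢ R.filter (fun r => T r = s - u),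
          w p z.1 * P z.2 := by
        rw [← Finset.sum_fiberwise_of_maps_to (g := fun z : α × (Fin m → α) => sz p z.1) (t := Finset.range (s + 1))
          (fun z hz => Finset.mem_range.2 (by have := (Finset.mem_filter.1 hz).2; omega))]
        refine Finset.sum_le_sum fun u _ => Finset.sum_le_sum_of_subset fun z hz => ?_
        simp only [Finset.mem_filter, Finset.mem_product] at hz ⊢
        exact ⟨⟨hz.1.1.1, hz.2⟩, hz.1.1.2, by omega⟩
    _ ≤ _ := Finset.sum_le_sum fun u _ => by
        rw [Finset.sum_product, ← Finset.sum_mul_sum]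
        exact Nat.mul_le_mul (hA u) (hB (s - u))

theorem tail_le (h2 : (2 : F) ≠ 0) (hq : 3 ≤ Fintype.card F) (M : ℕ) : ∀ m s : ℕ,
    ∑ x ∈ (Fintype.piFinset fun i : Fin m => odat F M ((i : ℕ) + 2)).filter
      (fun x => ∑ i : Fin m, osz ((i : ℕ) + 2) (x i) = s), ∏ i : Fin m, opw owt ((i : ℕ) + 2) (x i) ≤
      tR (Fintype.card F) m s := by
  intro m
  induction m with
  | zero =>
    intro s
    rw [tR, Fintype.piFinset_of_isEmpty, Finset.sum_filter, Finset.univ_unique, Finset.sum_singleton]
    simp [eq_comm]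
  | succ m ih =>
    intro s
    refine (sum_pi_conv (fun i : Fin (m + 1) => odat F M ((i : ℕ) + 2)) (fun i => osz ((i : ℕ) + 2))
      (fun i => opw owt ((i : ℕ) + 2)) (Fin.last m) (ofac (Fintype.card F) (m + 2)) (tR (Fintype.card F) m)
      (fun u => ?_) (fun u => ?_) s).trans (le_of_eq (by rw [tR]))
    · simpa using owt_block_le h2 hq M (show 2 ≤ m + 2 by omega) u
    · simpa [Fin.succAbove_last] using ih u

/-- The count of admissible data in dimension `N = m + 1`, with a head weight. -/
theorem count_le (h2 : (2 : F) ≠ 0) (hq : 3 ≤ Fintype.card F) (M m : ℕ) (w₀ : ℕ × ℕ × F[X] → ℕ) (A : ℕ → ℕ)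
    (hA : ∀ t, ∑ x ∈ (odat F M 1).filter (fun x => osz 1 x = t), w₀ x ≤ A t) (s : ℕ) :
    ∑ x ∈ (Fintype.piFinset fun j : Fin (m + 1) => odat F M ((j : ℕ) + 1)).filter
      (fun x => ∑ j : Fin (m + 1), osz ((j : ℕ) + 1) (x j) = s),
        w₀ (x 0) * ∏ i : Fin m, opw owt ((i : ℕ) + 2) (x i.succ) ≤
      ∑ t ∈ Finset.range (s + 1), A t * tR (Fintype.card F) m (s - t) := by
  let w : Fin (m + 1) → ℕ × ℕ × F[X] → ℕ := Fin.cons w₀ fun i => opw owt ((i : ℕ) + 2)
  refine le_trans (le_of_eq (Finset.sum_congr rfl fun x _ => ?_))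
    (sum_pi_conv (fun j : Fin (m + 1) => odat F M ((j : ℕ) + 1)) (fun j => osz ((j : ℕ) + 1)) w 0 A
      (tR (Fintype.card F) m) (fun u => ?_) (fun u => ?_) s)
  · rw [Fin.prod_univ_succ]; simp [w]
  · simpa [w] using hA u
  · simpa [w, Fin.zero_succAbove, add_assoc] using tail_le h2 hq M m u

/-- The combined head over the field of three elements. -/
def hC (t : ℕ) : ℕ := hd 3 t + 3 * rh 3 t

/-- The table check in small dimensions. -/
def tblOK (r : List ℕ) : Bool :=
  (List.range 19).all fun n =>
    decide (5 * ((List.range (2 * n + 2)).map fun t => hC t * r.getD (2 * n + 1 - t) 0).sum ≤ 292 * 3 ^ n)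

theorem tblOK_row : tblOK (tRow 3 38 36) = true := by
  decide +kernel

theorem count_small {n m : ℕ} (hn : n ≤ 18) (hm : m ≤ 36) :
    5 * ∑ t ∈ Finset.range (2 * n + 2), hC t * tR 3 m (2 * n + 1 - t) ≤ 292 * 3 ^ n := by
  have h := List.all_eq_true.1 tblOK_row n (List.mem_range.2 (by omega))
  refine le_trans (Nat.mul_le_mul_left 5 ?_) (of_decide_eq_true h)
  show _ ≤ ((List.range (2 * n + 2)).map fun t => hC t * (tRow 3 38 36).getD (2 * n + 1 - t) 0).sum
  calc ∑ t ∈ Finset.range (2 * n + 2), hC t * tR 3 m (2 * n + 1 - t)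
      ≤ ∑ t ∈ Finset.range (2 * n + 2), hC t * tR 3 36 (2 * n + 1 - t) :=
        Finset.sum_le_sum fun t _ => Nat.mul_le_mul_left _ (tR_mono 3 hm _)
    _ = _ := by
        show ((List.range (2 * n + 2)).map fun t => hC t * tR 3 36 (2 * n + 1 - t)).sum = _
        congr 1
        exact List.map_congr_left fun t _ => by rw [tRow_getD 3 38 36 _ (by omega)]

end Cfsg.Agent.Lib.ClassNumber
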