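import Mathlib

/-!
Class numbers of a subgroup of index four cut out by two characters, one of which is trivial on a central
element where the other is not.
-/

set_option autoImplicit false

namespace Cfsg.Agent.Lib.ClassNumber

open scoped Classical

variable {G : Type*} [Group G] [Fintype G]

/-- An element of the kernel of `ψ` whose centraliser is in the kernel. -/
def Rigid (ψ : G →* ℤˣ) (x : G) : Prop := ψ x = 1 ∧ ∀ y, Commute x y → ψ y = 1

/-- The centraliser, as a finite set. -/
noncomputable def cset (x : G) : Finset G := Finset.univ.filter fun y => Commute x y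

theorem card_group_mul_card_conjClasses :
    Fintype.card G * Nat.card (ConjClasses G) = ∑ x : G, (cset x).card := by
  rw [← Nat.card_eq_fintype_card, mul_comm, ← card_comm_eq_card_conjClasses_mul_card, Nat.card_eq_fintype_card,
    Fintype.card_congr (Equiv.subtypeProdEquivSigmaSubtype fun a b : G => Commute a b), Fintype.card_sigma]
  exact Finset.sum_congr rfl fun x _ => Fintype.card_subtype _

theorem sum_cset_class (c : ConjClasses G) :
    ∑ x ∈ Finset.univ.filter (fun x : G => ConjClasses.mk x = c), (cset x).card = Fintype.card G := by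
  obtain ⟨x₀, hx₀⟩ := ConjClasses.exists_rep c
  rw [← Finset.card_univ (α := G), Finset.card_eq_sum_card_fiberwise (f := fun z : G => z * x₀ * z⁻¹)
    (t := Finset.univ.filter (fun x : G => ConjClasses.mk x = c)) fun z _ => Finset.mem_coe.2
      (Finset.mem_filter.2 ⟨Finset.mem_univ _, by
        rw [← hx₀]
        exact ConjClasses.mk_eq_mk_iff_isConj.2 (isConj_iff.2 ⟨z, rfl⟩).symm⟩)]
  refine Finset.sum_congr rfl fun x hx => ?_
  obtain ⟨z₀, hz₀⟩ := isConj_iff.1 (ConjClasses.mk_eq_mk_iff_isConj.1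
    (hx₀.trans (Finset.mem_filter.1 hx).2.symm))
  refine Finset.card_equiv (Equiv.mulRight z₀) fun y => ?_
  simp only [cset, Finset.mem_filter, Finset.mem_univ, true_and, Equiv.coe_mulRight]
  have e : y * z₀ * x₀ * (y * z₀)⁻¹ = y * x * y⁻¹ := by rw [← hz₀]; group
  rw [e, mul_inv_eq_iff_eq_mul]
  exact ⟨fun h => h.eq.symm, fun h => h.symm⟩

theorem rigid_conj {ψ : G →* ℤˣ} {x : G} (hx : Rigid ψ x) (z : G) : Rigid ψ (z * x * z⁻¹) := by
  have hc : ∀ w, ψ (z * w * z⁻¹) = ψ w := fun w => by
    rw [map_mul, map_mul, mul_comm (ψ z), mul_assoc, ← map_mul, mul_inv_cancel, map_one, mul_one]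
  refine ⟨by rw [hc, hx.1], fun y hy => ?_⟩
  have h : Commute x (z⁻¹ * y * z) := by
    have := congrArg (fun w => z⁻¹ * w * z) hy.eq
    show x * (z⁻¹ * y * z) = z⁻¹ * y * z * x
    calc x * (z⁻¹ * y * z) = z⁻¹ * (z * x * z⁻¹ * y) * z := by group
      _ = z⁻¹ * (y * (z * x * z⁻¹)) * z := this
      _ = _ := by group
  rw [← hx.2 _ h, ← hc (z⁻¹ * y * z)]
  congr 1
  group

theorem index_four_classes (ψ χ : G →* ℤˣ) (z : G) (hzc : ∀ g, Commute z g) (hz2 : z * z = 1)
    (hψz : ψ z = 1) (hχz : χ z = -1) (K : Subgroup G) (hK : ∀ g, g ∈ K ↔ ψ g = 1 ∧ χ g = 1)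
    (hidx : K.index = 4) :
    Nat.card (ConjClasses G) ≤ 4 * Nat.card (ConjClasses K) ∧
      4 * Nat.card (ConjClasses K) ≤ Nat.card (ConjClasses G) +
        3 * Nat.card {c : ConjClasses G // ∃ x, ConjClasses.mk x = c ∧ Rigid ψ x} := by
  set A : G → ℕ := fun x => ((cset x).filter fun y => ψ y = 1).card with hA
  set B : G → ℕ := fun x => ((cset x).filter fun y => ¬ ψ y = 1).card with hB
  set Hs : Finset G := Finset.univ.filter fun x => ψ x = 1 with hHs
  set Os : Finset G := Finset.univ.filter fun x => ¬ ψ x = 1 with hOs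
  have hneg : ∀ y, ¬ ψ y = 1 → ψ y = -1 := fun y h => (Int.units_eq_one_or (ψ y)).resolve_left h
  have hswap : ∑ x ∈ Os, A x = ∑ x ∈ Hs, B x := by
    simp only [A, B, Finset.card_eq_sum_ones]
    refine Finset.sum_comm' fun x y => ?_
    simp only [Os, Hs, cset, Finset.mem_filter, Finset.mem_univ, true_and]
    exact ⟨fun h => ⟨⟨h.2.1.symm, h.1⟩, h.2.2⟩, fun h => ⟨h.1.2, h.1.1.symm, h.2⟩⟩
  have hout : ∀ x ∈ Os, B x = A x := fun x hx => by
    have hx' : ψ x = -1 := hneg x (Finset.mem_filter.1 hx).2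
    refine Finset.card_equiv (Equiv.mulLeft x) fun y => ?_
    simp only [Finset.mem_filter, cset, Finset.mem_univ, true_and, Equiv.coe_mulLeft, map_mul, hx']
    refine and_congr ⟨fun h => (Commute.refl x).mul_right h, fun h => ?_⟩ ?_
    · simpa using (Commute.inv_right (Commute.refl x)).mul_right h
    · rcases Int.units_eq_one_or (ψ y) with h | h <;> simp [h]
  have hle : ∀ x ∈ Hs, B x ≤ A x ∧ (¬ Rigid ψ x → A x ≤ B x) := fun x hx => by
    have hx' : ψ x = 1 := (Finset.mem_filter.1 hx).2
    have hmap : ∀ y₀, Commute x y₀ → ¬ ψ y₀ = 1 → A x ≤ B x ∧ B x ≤ A x := by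
      intro y₀ hy hψ
      have h : A x = B x := by
        refine Finset.card_equiv (Equiv.mulRight y₀) fun y => ?_
        simp only [Finset.mem_filter, cset, Finset.mem_univ, true_and, Equiv.coe_mulRight, map_mul, hneg _ hψ]
        refine and_congr ⟨fun h => h.mul_right hy, fun h => ?_⟩ ?_
        · simpa using h.mul_right hy.inv_right
        · rcases Int.units_eq_one_or (ψ y) with h | h <;> simp [h]
      exact ⟨h.le, h.ge⟩
    constructor
    · by_cases h : ∃ y₀, Commute x y₀ ∧ ¬ ψ y₀ = 1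
      · obtain ⟨y₀, hy, hψ⟩ := h
        exact (hmap y₀ hy hψ).2
      · push Not at h
        refine le_of_eq_of_le (Finset.card_eq_zero.2 (Finset.filter_eq_empty_iff.2 fun y hy => ?_)) (Nat.zero_le _)
        exact not_not.2 (h y (Finset.mem_filter.1 hy).2)
    · intro hr
      obtain ⟨y₀, hy, hψ⟩ : ∃ y₀, Commute x y₀ ∧ ¬ ψ y₀ = 1 := by
        simpa [Rigid, hx'] using hr
      exact (hmap y₀ hy hψ).1
  have htot : Fintype.card G * Nat.card (ConjClasses G) = ∑ x ∈ Hs, A x + 3 * ∑ x ∈ Hs, B x := by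
    rw [card_group_mul_card_conjClasses, ← Finset.sum_filter_add_sum_filter_not Finset.univ fun x => ψ x = 1]
    have e : ∀ x : G, (cset x).card = A x + B x := fun x =>
      (Finset.card_filter_add_card_filter_not (s := cset x) fun y => ψ y = 1).symm
    simp only [e, Finset.sum_add_distrib]
    rw [Finset.sum_congr rfl hout, hswap]
    ring
  -- pairs in the kernel of `ψ`
  have hP : ∑ x ∈ Hs, A x = Fintype.card G * Nat.card (ConjClasses K) := by
    let H := {g : G // ψ g = 1}
    let e : H ≃ K × ℤˣ :=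
      { toFun := fun g => (if hg : χ g.1 = 1 then ⟨g.1, (hK _).2 ⟨g.2, hg⟩⟩ else
          ⟨g.1 * z, (hK _).2 ⟨by rw [map_mul, g.2, hψz, one_mul], by
            rw [map_mul, (Int.units_eq_one_or _).resolve_left hg, hχz]; rfl⟩⟩, χ g.1)
        invFun := fun p => if p.2 = 1 then ⟨p.1.1, ((hK _).1 p.1.2).1⟩ else
          ⟨p.1.1 * z, by rw [map_mul, ((hK _).1 p.1.2).1, hψz, one_mul]⟩
        left_inv := fun g => by
          by_cases hg : χ g.1 = 1
          · simp [hg]
          · simp [hg, mul_assoc, hz2]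
        right_inv := fun p => by
          obtain ⟨⟨k, hk⟩, s⟩ := p
          obtain ⟨hk1, hk2⟩ := (hK k).1 hk
          rcases Int.units_eq_one_or s with rfl | rfl
          · simp [hk2]
          · have hz' : χ (k * z) = -1 := by rw [map_mul, hk2, hχz, one_mul]
            simp [hk2, hχz, mul_assoc, hz2] }
    have hcomm : ∀ g h : H, Commute g.1 h.1 ↔ Commute (e g).1 (e h).1 := by
      have key : ∀ (a b : G), (Commute (a * z) b ↔ Commute a b) := fun a b => by
        refine ⟨fun h => ?_, fun h => h.mul_left (hzc b)⟩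
        simpa [mul_assoc, hz2] using h.mul_left (hzc b)
      have key' : ∀ (a b : G), (Commute a (b * z) ↔ Commute a b) := fun a b => by
        rw [Commute.symm_iff, key, Commute.symm_iff]
      intro g h
      have hv : ∀ k : H, ((e k).1 : G) = if χ k.1 = 1 then k.1 else k.1 * z := fun k => by
        by_cases hk : χ k.1 = 1 <;> simp [e, hk]
      refine Iff.trans ?_ (⟨fun h => Subtype.ext h.eq, fun h => congrArg Subtype.val h.eq⟩ :
        Commute ((e g).1 : G) ((e h).1 : G) ↔ Commute (e g).1 (e h).1)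
      rw [hv, hv]
      by_cases hg : χ g.1 = 1 <;> by_cases hh : χ h.1 = 1 <;> simp [hg, hh, key, key']
    let ep : {p : H × H // Commute p.1.1 p.2.1} ≃ {p : K × K // Commute p.1 p.2} × (ℤˣ × ℤˣ) :=
      { toFun := fun p => (⟨((e p.1.1).1, (e p.1.2).1), (hcomm _ _).1 p.2⟩, ((e p.1.1).2, (e p.1.2).2))
        invFun := fun p => ⟨(e.symm (p.1.1.1, p.2.1), e.symm (p.1.1.2, p.2.2)),
          (hcomm _ _).2 (by simpa using p.1.2)⟩
        left_inv := fun p => by simp
        right_inv := fun p => by simp }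
    have h1 : ∑ x ∈ Hs, A x = Nat.card {p : H × H // Commute p.1.1 p.2.1} := by
      rw [Nat.card_eq_fintype_card,
        Fintype.card_congr (Equiv.subtypeProdEquivSigmaSubtype fun a b : H => Commute a.1 b.1), Fintype.card_sigma,
        Finset.sum_subtype Hs (p := fun x => ψ x = 1) (by simp [hHs]) A]
      refine Finset.sum_congr rfl fun x _ => ?_
      rw [Fintype.card_subtype]
      refine Finset.card_bij' (fun y hy => ⟨y, (Finset.mem_filter.1 hy).2⟩) (fun y _ => y.1) ?_ ?_
        (fun y _ => rfl) (fun y _ => rfl)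
      · intro y hy; simp only [Finset.mem_filter, cset, Finset.mem_univ, true_and] at hy ⊢; exact hy.1
      · intro y hy; simp only [Finset.mem_filter, cset, Finset.mem_univ, true_and] at hy ⊢; exact ⟨hy, y.2⟩
    rw [h1, Nat.card_congr ep, Nat.card_prod, card_comm_eq_card_conjClasses_mul_card, Nat.card_prod,
      ← Nat.card_eq_fintype_card, ← K.card_mul_index, hidx,
      show Nat.card ℤˣ = 2 by rw [Nat.card_eq_fintype_card]; rfl]
    ring
  have hrig : ∑ x ∈ Hs.filter (fun x => Rigid ψ x), (cset x).card =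
      Fintype.card G * Nat.card {c : ConjClasses G // ∃ x, ConjClasses.mk x = c ∧ Rigid ψ x} := by
    rw [Nat.card_eq_fintype_card, Fintype.card_subtype,
      ← Finset.sum_fiberwise_of_maps_to (g := ConjClasses.mk)
        (t := Finset.univ.filter fun c : ConjClasses G => ∃ x, ConjClasses.mk x = c ∧ Rigid ψ x)
        (fun x hx => Finset.mem_filter.2 ⟨Finset.mem_univ _, x, rfl, (Finset.mem_filter.1 hx).2⟩),
      mul_comm, ← smul_eq_mul, ← Finset.sum_const]
    refine Finset.sum_congr rfl fun c hc => ?_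
    obtain ⟨-, x₀, hx₀, hr⟩ := Finset.mem_filter.1 hc
    rw [← sum_cset_class c]
    refine Finset.sum_congr ?_ fun _ _ => rfl
    ext x
    simp only [hHs, Finset.mem_filter, Finset.mem_univ, true_and]
    refine ⟨fun h => h.2, fun h => ⟨?_, h⟩⟩
    obtain ⟨w, rfl⟩ := isConj_iff.1 (ConjClasses.mk_eq_mk_iff_isConj.1 (hx₀.trans h.symm))
    exact ⟨(rigid_conj hr w).1, rigid_conj hr w⟩
  have hG : 0 < Fintype.card G := Fintype.card_pos
  constructor
  · refine Nat.le_of_mul_le_mul_left ?_ hG
    rw [htot, show Fintype.card G * (4 * Nat.card (ConjClasses K)) = ∑ x ∈ Hs, A x + 3 * ∑ x ∈ Hs, A x by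
      rw [hP]; ring]
    exact Nat.add_le_add_left (Nat.mul_le_mul_left 3 (Finset.sum_le_sum fun x hx => (hle x hx).1)) _
  · refine Nat.le_of_mul_le_mul_left ?_ hG
    have hsplit : ∑ x ∈ Hs, A x ≤ ∑ x ∈ Hs, B x + ∑ x ∈ Hs.filter (fun x => Rigid ψ x), (cset x).card := by
      rw [Finset.sum_filter (s := Hs) (fun x => Rigid ψ x), ← Finset.sum_add_distrib]
      refine Finset.sum_le_sum fun x hx => ?_
      split_ifs with hr
      · exact le_add_left (Finset.card_filter_le _ _)
      · simpa using (hle x hx).2 hr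
    rw [show Fintype.card G * (4 * Nat.card (ConjClasses K)) = ∑ x ∈ Hs, A x + 3 * ∑ x ∈ Hs, A x by
      rw [hP]; ring, mul_add, htot, mul_left_comm, ← hrig]
    linarith

end Cfsg.Agent.Lib.ClassNumber
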