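import Cfsg.Agent.Lib.ClassNumber.OrthCount
import Cfsg.Agent.Lib.ClassNumber.SympMain

/-!
Class number bounds for isometry groups of symmetric forms in odd characteristic.
-/

set_option autoImplicit false

namespace Cfsg.Agent.Lib.ClassNumber

open Polynomial Module Matrix Cfsg.Agent.Lib.GLClasses
open scoped Classical Matrix

variable {F : Type*} [Field F] [Fintype F]

section Forms

universe u

/-- The form with trivial isometry. -/
noncomputable def flatForm {V : Type*} [AddCommGroup V] [Module F V] (T : IForm (RingHom.id F) (1 : F) V) :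
    IForm (RingHom.id F) (1 : F) V :=
  { T with A := LinearEquiv.refl F V, iso := fun _ _ => rfl }

theorem typed_flat {V : Type*} [AddCommGroup V] [Module F V] [FiniteDimensional F V]
    (T : IForm (RingHom.id F) (1 : F) V) :
    Typed (flatForm T) (Multiset.replicate (finrank F V) ((X - C 1 : F[X]), 1)) := by
  intro p hp hpm k
  have hop : (flatForm T).op (p ^ k) = (p ^ k).eval 1 • (1 : Module.End F V) := by
    show aeval (1 : Module.End F V) (p ^ k) = _
    conv_lhs => rw [← map_one (algebraMap F (Module.End F V))]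
    rw [aeval_algebraMap_apply, coe_aeval_eq_eval, Algebra.algebraMap_eq_smul_one]
  rw [hop, kdim, Multiset.map_replicate, Multiset.sum_replicate, smul_eq_mul, eval_pow]
  by_cases he : p.eval 1 = 0
  · have hpe : X - C 1 = p := eq_of_monic_of_associated (monic_X_sub_C 1) hpm
      ((irreducible_X_sub_C 1).associated_of_dvd hp (dvd_iff_isRoot.2 he))
    rw [if_pos hpe, ← hpe, natDegree_X_sub_C, one_mul]
    rcases k with _ | k
    · rw [pow_zero, one_smul, Module.End.one_eq_id, LinearMap.ker_id, finrank_bot, Nat.zero_min, mul_zero]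
    · rw [hpe, he, zero_pow (Nat.succ_ne_zero k), zero_smul, LinearMap.ker_zero, finrank_top,
        Nat.min_eq_right (by omega), mul_one]
  · rw [if_neg (fun h : X - C 1 = p => he (by rw [← h, eval_sub, eval_X, eval_C, sub_self])), mul_zero,
      LinearMap.ker_smul _ _ (pow_ne_zero k he), Module.End.one_eq_id, LinearMap.ker_id, finrank_bot]

/-- Symmetric forms are classified by dimension and discriminant. -/
theorem exists_isometry_of_disc (h2 : (2 : F) ≠ 0) {V W : Type u} [AddCommGroup V] [Module F V]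
    [FiniteDimensional F V] [AddCommGroup W] [Module F W] [FiniteDimensional F W]
    (T : IForm (RingHom.id F) (1 : F) V) (S : IForm (RingHom.id F) (1 : F) W)
    (hdim : finrank F V = finrank F W) (hpos : 0 < finrank F V) (hd : disc T = disc S) :
    ∃ e : V ≃ₗ[F] W, ∀ x y, S.B (e x) (e y) = T.B x y := by
  set μ := Multiset.replicate (finrank F V) ((X - C 1 : F[X]), 1)
  have hgood : Good μ := fun x hx => by
    rw [Multiset.eq_of_mem_replicate hx]
    exact ⟨irreducible_X_sub_C 1, monic_X_sub_C 1, by simp, le_rfl⟩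
  have hspec : HasSpec μ :=
    ⟨_, Multiset.mem_replicate.2 ⟨by omega, rfl⟩, ⟨fun a => rfl, Or.inl rfl⟩, by simp⟩
  have hw : weight (RingHom.id F) (1 : F) μ ≤ 2 := by
    refine (Nat.pow_le_pow_right (by norm_num) (?_ : _ ≤ 1)).trans_eq (pow_one 2)
    refine (Finset.card_le_card (Finset.filter_subset _ _)).trans ?_
    rw [Multiset.toFinset_replicate, if_neg (by omega)]
    simp
  obtain ⟨α, i, -, hcard, L, hL⟩ := exists_label_disc.{u} h2 μ hgood
  haveI : Subsingleton α := Fintype.card_le_one_iff_subsingleton.1 (by have := hcard hspec; omega)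
  have hS : Typed (flatForm S) μ := by
    have := typed_flat S
    rwa [← hdim] at this
  obtain ⟨e, he, -⟩ := hL { V := V, form := flatForm T } { V := W, form := flatForm S } (typed_flat T) hS hd
    (Subsingleton.elim _ _)
  exact ⟨e, he⟩

/-- The form given by a symmetric matrix, with an isometry. -/
noncomputable def matForm {ι : Type*} [Fintype ι] [DecidableEq ι] (M A : Matrix ι ι F) (hM : Mᵀ = M)
    (hdet : M.det ≠ 0) (hA : Aᵀ * M * A = M) : IForm (RingHom.id F) (1 : F) (ι → F) where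
  B x y := x ⬝ᵥ (M *ᵥ y)
  A := LinearEquiv.ofInjectiveEndo (Matrix.toLin' A) (by
    have h := congrArg Matrix.det hA
    rw [Matrix.det_mul, Matrix.det_mul] at h
    have hu : IsUnit A := (Matrix.isUnit_iff_isUnit_det A).2 (isUnit_iff_ne_zero.2 fun h0 => hdet (by
      rw [← h, h0, mul_zero]))
    exact Matrix.mulVec_injective_iff_isUnit.2 hu)
  add_left x y z := add_dotProduct x y _
  smul_left c x y := smul_dotProduct c x _
  symm x y := by
    rw [RingHom.id_apply, one_mul, dotProduct_mulVec, dotProduct_comm, ← Matrix.mulVec_transpose, hM]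
  nd y h := by
    refine Matrix.eq_zero_of_mulVec_eq_zero hdet (funext fun i => ?_)
    have := h (Pi.single i 1)
    rwa [single_dotProduct, one_mul] at this
  iso x y := by
    show (A *ᵥ x) ⬝ᵥ (M *ᵥ (A *ᵥ y)) = x ⬝ᵥ (M *ᵥ y)
    conv_rhs => rw [← hA, ← Matrix.mulVec_mulVec, ← Matrix.mulVec_mulVec]
    rw [dotProduct_comm, dotProduct_mulVec, ← Matrix.mulVec_transpose, dotProduct_comm]
  inv a := rfl

theorem matForm_A {ι : Type*} [Fintype ι] [DecidableEq ι] (M A : Matrix ι ι F) (hM : Mᵀ = M)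
    (hdet : M.det ≠ 0) (hA : Aᵀ * M * A = M) :
    (matForm M A hM hdet hA).A.toLinearMap = Matrix.toLin' A :=
  LinearMap.ext fun _ => rfl

theorem disc_matForm {ι : Type*} [Fintype ι] [DecidableEq ι] (M A : Matrix ι ι F) (hM : Mᵀ = M)
    (hdet : M.det ≠ 0) (hA : Aᵀ * M * A = M) :
    disc (matForm M A hM hdet hA) = quadraticChar F M.det := by
  rw [disc_eq _ (Pi.basisFun F ι)]
  congr 2
  ext i k
  show (Pi.basisFun F ι i) ⬝ᵥ (M *ᵥ Pi.basisFun F ι k) = M i k
  rw [Pi.basisFun_apply, Pi.basisFun_apply, Matrix.mulVec_single_one, single_dotProduct, one_mul]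
  rfl

end Forms

/-- The monic polynomial with given lower coefficients. -/
noncomputable def mpoly {n : ℕ} (c : Fin n → F) : F[X] := X ^ n + ∑ i : Fin n, C (c i) * X ^ (i : ℕ)

omit [Fintype F] in
theorem mpoly_monic {n : ℕ} (c : Fin n → F) : (mpoly c).Monic ∧ (mpoly c).natDegree = n := by
  have hlt : (∑ i : Fin n, C (c i) * X ^ (i : ℕ) : F[X]).degree < ((n : ℕ) : WithBot ℕ) := degree_sum_fin_lt c
  refine ⟨monic_X_pow_add hlt, natDegree_eq_of_degree_eq_some ?_⟩
  rw [mpoly, degree_add_eq_left_of_degree_lt (by rwa [degree_X_pow]), degree_X_pow]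

omit [Fintype F] in
theorem mpoly_injective {n : ℕ} : Function.Injective (mpoly : (Fin n → F) → F[X]) := by
  intro c c' h
  funext i
  have := congrArg (fun p => p.coeff (i : ℕ)) h
  simpa [mpoly, coeff_X_pow, finsetSum_coeff, i.isLt.ne, Fin.val_inj] using this

/-- The self-reciprocal polynomial of degree `2 n` attached to `g`. -/
noncomputable def Lf (n : ℕ) (g : F[X]) : F[X] :=
  ∑ i ∈ Finset.range (n + 1), C (g.coeff i) * ((X - C 1) ^ 2) ^ i * X ^ (n - i)

omit [Fintype F] in
theorem Lf_algebraMap {n : ℕ} {g : F[X]} (hg : g.natDegree ≤ n) :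
    algebraMap F[X] (RatFunc F) (Lf n g) = algebraMap F[X] (RatFunc F) X ^ n *
      g.eval₂ ((algebraMap F[X] (RatFunc F)).comp C)
        (algebraMap F[X] (RatFunc F) ((X - C 1) ^ 2) / algebraMap F[X] (RatFunc F) X) := by
  set φ := algebraMap F[X] (RatFunc F)
  have hw : φ X ≠ 0 := fun h =>
    X_ne_zero (IsFractionRing.injective F[X] (RatFunc F) (by rw [map_zero]; exact h))
  rw [Lf, map_sum, eval₂_eq_sum_range' _ (Nat.lt_succ_of_le hg), Finset.mul_sum]
  refine Finset.sum_congr rfl fun i hi => ?_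
  rw [Finset.mem_range] at hi
  rw [map_mul, map_mul, map_pow φ X, map_pow φ ((X - C 1) ^ 2), RingHom.comp_apply, div_pow]
  rw [show φ X ^ n = φ X ^ (n - i) * φ X ^ i by rw [← pow_add, Nat.sub_add_cancel (by omega)]]
  field_simp

omit [Fintype F] in
theorem Lf_mul {n m : ℕ} {g h : F[X]} (hg : g.natDegree ≤ n) (hh : h.natDegree ≤ m) :
    Lf (n + m) (g * h) = Lf n g * Lf m h := by
  apply IsFractionRing.injective F[X] (RatFunc F)
  rw [map_mul, Lf_algebraMap hg, Lf_algebraMap hh,
    Lf_algebraMap (natDegree_mul_le.trans (Nat.add_le_add hg hh)), eval₂_mul, pow_add]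
  ring

omit [Fintype F] in
theorem Lf_pow {m : ℕ} {g : F[X]} (hg : g.natDegree ≤ m) : ∀ k : ℕ, Lf (k * m) (g ^ k) = Lf m g ^ k := by
  intro k
  induction k with
  | zero => simp [Lf]
  | succ k ih =>
    rw [add_mul, one_mul, pow_succ, pow_succ, Lf_mul (natDegree_pow_le_of_le k hg) hg, ih]

omit [Fintype F] in
theorem Lf_X : Lf 1 (X : F[X]) = (X - C 1) ^ 2 := by
  simp [Lf, Finset.sum_range_succ, coeff_X]

omit [Fintype F] in
theorem Lf_X_add_four : Lf 1 (X + C 4 : F[X]) = (X + C 1) ^ 2 := by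
  simp only [Lf, Finset.sum_range_succ, Finset.sum_range_zero, zero_add, coeff_add, coeff_X_zero, coeff_C_zero,
    coeff_X_one, coeff_C, if_neg one_ne_zero, add_zero, pow_zero, pow_one, Nat.sub_zero, Nat.sub_self,
    mul_one, C_1, one_mul, if_true]
  rw [show (C (4 : F)) = (4 : F[X]) from map_ofNat C 4]
  ring

omit [Fintype F] in
theorem Lf_eval_one {n : ℕ} (g : F[X]) : (Lf n g).eval 1 = g.eval 0 := by
  rw [Lf, eval_finsetSum, Finset.sum_range_succ']
  simp [coeff_zero_eq_eval_zero]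

omit [Fintype F] in
theorem Lf_eval_neg_one {n : ℕ} {g : F[X]} (hg : g.natDegree ≤ n) :
    (Lf n g).eval (-1) = (-1) ^ n * g.eval (-4) := by
  rw [Lf, eval_finsetSum, eval_eq_sum_range' (Nat.lt_succ_of_le hg), Finset.mul_sum]
  refine Finset.sum_congr rfl fun i hi => ?_
  rw [Finset.mem_range] at hi
  simp only [eval_mul, eval_C, eval_pow, eval_sub, eval_X]
  rw [show ((-1 : F)) ^ n = (-1) ^ (n - i) * (-1) ^ i by rw [← pow_add, Nat.sub_add_cancel (by omega)],
    show ((-1 : F) - 1) ^ 2 = 4 by norm_num, show ((-4 : F)) ^ i = (-1) ^ i * 4 ^ i by rw [← mul_pow]; norm_num]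
  have : ((-1 : F) ^ i) * (-1) ^ i = 1 := by rw [← mul_pow]; norm_num
  linear_combination (- (g.coeff i * 4 ^ i * (-1 : F) ^ (n - i))) * this

omit [Fintype F] in
theorem Lf_injective {n : ℕ} {g h : F[X]} (hg : g.natDegree ≤ n) (hh : h.natDegree ≤ n)
    (e : Lf n g = Lf n h) : g = h := by
  have h0 : ∑ i ∈ Finset.range (n + 1), C (g.coeff i - h.coeff i) * ((X - C (1 : F)) ^ 2) ^ i * X ^ (n - i)
      = 0 := by
    simp only [C_sub, sub_mul, Finset.sum_sub_distrib]
    exact sub_eq_zero.2 e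
  ext i
  rcases le_or_gt i n with hi | hi
  · exact sub_eq_zero.1 (homog_injective n _ h0 i hi)
  · rw [coeff_eq_zero_of_natDegree_lt (by omega), coeff_eq_zero_of_natDegree_lt (by omega)]

/-- A regular element: a symmetric invariant matrix from a pair of symplectic transvection products. -/
theorem exists_elem_regular {n : ℕ} {g : F[X]} (hg : g.Monic) (hd : g.natDegree = n) :
    ∃ M A : Matrix (Fin n ⊕ Fin n) (Fin n ⊕ Fin n) F, Mᵀ = M ∧
      M.det = (Matrix.J (Fin n) F).det * ((-1) ^ n * (g.eval 0 * g.eval (-4))) ∧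
      Aᵀ * M * A = M ∧ A.charpoly = Lf n g := by
  obtain ⟨S, T, hS, hT, hST⟩ := exists_symmetric_pair hg hd
  set A := Matrix.fromBlocks 1 S 0 1 * Matrix.fromBlocks 1 0 T 1 with hA
  have hmem : A ∈ Matrix.symplecticGroup (Fin n) F :=
    Submonoid.mul_mem _ (unitriangular_mem_symplectic hS).1 (unitriangular_mem_symplectic hT).2
  have hJ : Aᵀ * Matrix.J (Fin n) F * A = Matrix.J (Fin n) F := SymplecticGroup.mem_iff'.1 hmem
  have hcp : A.charpoly = Lf n g := by rw [hA, charpoly_pair, hST]; rfl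
  have hdA : A.det = 1 := by
    rw [hA, Matrix.det_mul, Matrix.det_fromBlocks_zero₂₁, Matrix.det_fromBlocks_zero₁₂]
    simp
  have hu : IsUnit A.det := by rw [hdA]; exact isUnit_one
  have hut : IsUnit Aᵀ.det := by rwa [Matrix.det_transpose]
  have h1 : Aᵀ * Matrix.J (Fin n) F = Matrix.J (Fin n) F * A⁻¹ := by
    conv_rhs => rw [← hJ]
    rw [Matrix.mul_nonsing_inv_cancel_right _ _ hu]
  have h3 : (A⁻¹)ᵀ * Matrix.J (Fin n) F = Matrix.J (Fin n) F * A := by
    conv_lhs => rw [← hJ]
    rw [Matrix.transpose_nonsing_inv, mul_assoc Aᵀ, Matrix.nonsing_inv_mul_cancel_left _ _ hut]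
  refine ⟨Matrix.J (Fin n) F * (A - A⁻¹), A, ?_, ?_, ?_, hcp⟩
  · rw [Matrix.transpose_mul, Matrix.J_transpose, Matrix.transpose_sub, mul_neg, sub_mul, h1, h3, neg_sub,
      mul_sub]
  · have hev : ∀ t : F, (Matrix.scalar (Fin n ⊕ Fin n) t - A).det = (Lf n g).eval t := fun t => by
      rw [← Matrix.eval_charpoly, hcp]
    have hfac : A - A⁻¹ = A⁻¹ * ((Matrix.scalar (Fin n ⊕ Fin n) (1 : F) - A) *
        (Matrix.scalar (Fin n ⊕ Fin n) (-1 : F) - A)) := by
      have : (Matrix.scalar (Fin n ⊕ Fin n) (1 : F) - A) * (Matrix.scalar (Fin n ⊕ Fin n) (-1 : F) - A) =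
          A * A - 1 := by
        rw [map_neg, map_one]
        noncomm_ring
      rw [this, mul_sub, mul_one, Matrix.nonsing_inv_mul_cancel_left _ _ hu]
    rw [Matrix.det_mul, hfac, Matrix.det_mul, Matrix.det_mul, hev, hev, Matrix.det_nonsing_inv, hdA,
      Ring.inverse_one, one_mul, Lf_eval_one, Lf_eval_neg_one hd.le]
    ring
  · have hc : (A - A⁻¹) * A = A * (A - A⁻¹) := by
      rw [sub_mul, mul_sub, Matrix.nonsing_inv_mul _ hu, Matrix.mul_nonsing_inv _ hu]
    rw [mul_assoc, mul_assoc, hc, ← mul_assoc (Matrix.J (Fin n) F), ← mul_assoc Aᵀ,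
      ← mul_assoc Aᵀ (Matrix.J (Fin n) F), hJ]

theorem exists_char_eq (h2 : (2 : F) ≠ 0) {d : F} (hd : d ≠ 0) {e : ℤ} (he : e = 1 ∨ e = -1) :
    ∃ c : F, c ≠ 0 ∧ quadraticChar F (c * d) = e := by
  have hF : ringChar F ≠ 2 := fun h => h2 (by
    haveI := ringChar.of_eq h
    exact CharTwo.two_eq_zero)
  rcases quadraticChar_dichotomy hd with h | h <;> rcases he with rfl | rfl
  · exact ⟨1, one_ne_zero, by rw [one_mul, h]⟩
  · obtain ⟨c, hc⟩ := quadraticChar_exists_neg_one hF
    exact ⟨c, fun h0 => by simp [h0] at hc, by rw [map_mul, hc, h]; rfl⟩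
  · obtain ⟨c, hc⟩ := quadraticChar_exists_neg_one hF
    exact ⟨c, fun h0 => by simp [h0] at hc, by rw [map_mul, hc, h]; rfl⟩
  · exact ⟨1, one_ne_zero, by rw [one_mul, h]⟩

/-- An element with both eigenvalues `±1`, of any discriminant. -/
theorem exists_elem_singular (h2 : (2 : F) ≠ 0) {n : ℕ} {g : F[X]} (hg : g.Monic) (hd : g.natDegree = n)
    {e : ℤ} (he : e = 1 ∨ e = -1) :
    ∃ (ι : Type) (_ : Fintype ι) (_ : DecidableEq ι) (M A : Matrix ι ι F), Fintype.card ι = 2 * n + 2 ∧
      Mᵀ = M ∧ quadraticChar F M.det = e ∧ Aᵀ * M * A = M ∧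
      A.charpoly = (X - C 1) * (X + C 1) * Lf n g := by
  have hg0 : g ≠ 0 := hg.ne_zero
  obtain ⟨g₁, hg₁, hn₁⟩ := exists_eq_pow_rootMultiplicity_mul_and_not_dvd g hg0 0
  set α := rootMultiplicity 0 g
  have hm₁ : g₁.Monic := ((monic_X_sub_C (0 : F)).pow α).of_mul_monic_left (hg₁ ▸ hg)
  obtain ⟨g₀, hg₀, hn₀⟩ := exists_eq_pow_rootMultiplicity_mul_and_not_dvd g₁ hm₁.ne_zero (-4)
  set β := rootMultiplicity (-4) g₁
  have hm₀ : g₀.Monic := ((monic_X_sub_C (-4 : F)).pow β).of_mul_monic_left (hg₀ ▸ hm₁)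
  rw [dvd_iff_isRoot, IsRoot.def] at hn₁ hn₀
  have he0 : g₀.eval 0 ≠ 0 := fun h => hn₁ (by rw [hg₀, eval_mul, h, mul_zero])
  rw [C_0, sub_zero] at hg₁
  rw [C_neg, sub_neg_eq_add] at hg₀
  have hdeg : n = α + β + g₀.natDegree := by
    rw [← hd, hg₁, hg₀, (monic_X_pow α).natDegree_mul (((monic_X_add_C (4 : F)).pow β).mul hm₀),
      ((monic_X_add_C (4 : F)).pow β).natDegree_mul hm₀, natDegree_X_pow, natDegree_pow, natDegree_X_add_C]
    ring
  set γ := g₀.natDegree
  obtain ⟨M₀, A₀, hsymm, hdet, hiso, hcp⟩ := exists_elem_regular hm₀ (rfl : g₀.natDegree = γ)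
  have hdet0 : M₀.det ≠ 0 := by
    rw [hdet]
    exact mul_ne_zero (Matrix.isUnit_det_J (Fin γ) F).ne_zero
      (mul_ne_zero (pow_ne_zero _ (neg_ne_zero.2 one_ne_zero)) (mul_ne_zero he0 hn₀))
  obtain ⟨c, hc0, hc⟩ := exists_char_eq h2 hdet0 he
  let D : Matrix (Fin (2 * α + 1)) (Fin (2 * α + 1)) F :=
    Matrix.diagonal fun i => if i = 0 then c else 1
  refine ⟨(Fin (2 * α + 1) ⊕ Fin (2 * β + 1)) ⊕ (Fin γ ⊕ Fin γ), inferInstance, inferInstance,
    Matrix.fromBlocks (Matrix.fromBlocks D 0 0 1) 0 0 M₀,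
    Matrix.fromBlocks (Matrix.fromBlocks 1 0 0 (-1)) 0 0 A₀, ?_, ?_, ?_, ?_, ?_⟩
  · simp only [Fintype.card_sum, Fintype.card_fin]
    omega
  · simp [Matrix.fromBlocks_transpose, D, hsymm]
  · rw [Matrix.det_fromBlocks_zero₂₁, Matrix.det_fromBlocks_zero₂₁, Matrix.det_one, mul_one,
      Matrix.det_diagonal, Finset.prod_ite_eq' Finset.univ (0 : Fin (2 * α + 1)) (fun _ => c),
      if_pos (Finset.mem_univ _), hc]
  · simp [Matrix.fromBlocks_transpose, Matrix.fromBlocks_multiply, hiso]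
  · rw [Matrix.charpoly_fromBlocks_zero₂₁, Matrix.charpoly_fromBlocks_zero₂₁, Matrix.charpoly_one, hcp,
      show (-1 : Matrix (Fin (2 * β + 1)) (Fin (2 * β + 1)) F) = Matrix.diagonal fun _ => -1 by
        rw [← Matrix.diagonal_one, Matrix.diagonal_neg],
      Matrix.charpoly_diagonal, Finset.prod_const, Finset.card_univ, Fintype.card_fin, Fintype.card_fin,
      C_neg, C_1, sub_neg_eq_add, hdeg, hg₁, hg₀, add_assoc,
      Lf_mul (m := β + γ) (natDegree_X_pow α).le (natDegree_mul_le.trans (Nat.add_le_add_right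
        (natDegree_pow_le.trans (by rw [natDegree_X_add_C, mul_one])) _)),
      Lf_mul (natDegree_pow_le.trans (by rw [natDegree_X_add_C, mul_one])) le_rfl]
    have hx := Lf_pow (g := (X : F[X])) (m := 1) natDegree_X_le α
    have hy := Lf_pow (g := (X + C 4 : F[X])) (m := 1) (by rw [natDegree_X_add_C]) β
    rw [mul_one, Lf_X] at hx
    rw [mul_one, Lf_X_add_four] at hy
    rw [hx, hy, ← pow_mul, ← pow_mul, pow_succ, pow_succ, C_1]
    ring

/-- The number of pairs of non-zero elements whose product has a given character. -/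
theorem two_mul_card_pairs (h2 : (2 : F) ≠ 0) {e : ℤ} (he : e = 1 ∨ e = -1) :
    2 * ((Finset.univ : Finset (F × F)).filter fun p => quadraticChar F (p.1 * p.2) = e).card =
      (Fintype.card F - 1) ^ 2 := by
  have hF : ringChar F ≠ 2 := fun h => h2 (by
    haveI := ringChar.of_eq h
    exact CharTwo.two_eq_zero)
  obtain ⟨ν, hν⟩ := quadraticChar_exists_neg_one hF
  have hν0 : ν ≠ 0 := fun h0 => by simp [h0] at hν
  have hswap : ((Finset.univ : Finset (F × F)).filter fun p => quadraticChar F (p.1 * p.2) = e).card =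
      ((Finset.univ : Finset (F × F)).filter fun p => quadraticChar F (p.1 * p.2) = -e).card := by
    refine Finset.card_equiv ((Equiv.refl F).prodCongr (Equiv.mulLeft₀ ν hν0)) fun p => ?_
    simp only [Finset.mem_filter, Finset.mem_univ, true_and]
    show quadraticChar F (p.1 * p.2) = e ↔ quadraticChar F (p.1 * (ν * p.2)) = -e
    rw [mul_left_comm, map_mul _ ν, hν, neg_one_mul, neg_inj]
  have hunion : ((Finset.univ : Finset (F × F)).filter fun p => quadraticChar F (p.1 * p.2) = e) ∪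
      ((Finset.univ : Finset (F × F)).filter fun p => quadraticChar F (p.1 * p.2) = -e) =
      (Finset.univ.erase (0 : F)) ×ˢ (Finset.univ.erase (0 : F)) := by
    ext ⟨u, v⟩
    simp only [Finset.mem_union, Finset.mem_filter, Finset.mem_univ, true_and, Finset.mem_product,
      Finset.mem_erase, and_true]
    constructor
    · intro h
      have : u * v ≠ 0 := fun h0 => by rw [h0, MulChar.map_zero] at h; rcases he with rfl | rfl <;> simp at h
      exact ⟨left_ne_zero_of_mul this, right_ne_zero_of_mul this⟩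
    · intro h
      rcases quadraticChar_dichotomy (mul_ne_zero h.1 h.2) with h' | h' <;> rcases he with rfl | rfl <;>
        simp [h']
  have hdisj : Disjoint ((Finset.univ : Finset (F × F)).filter fun p => quadraticChar F (p.1 * p.2) = e)
      ((Finset.univ : Finset (F × F)).filter fun p => quadraticChar F (p.1 * p.2) = -e) := by
    rw [Finset.disjoint_filter]
    intro p _ h h'
    rcases he with rfl | rfl <;> omega
  have h := congrArg Finset.card hunion
  rw [Finset.card_union_of_disjoint hdisj, ← hswap, Finset.card_product,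
    Finset.card_erase_of_mem (Finset.mem_univ _), Finset.card_univ, ← pow_two] at h
  omega

/-- The number of monic polynomials with given character at `0` and `-4`. -/
theorem two_mul_card_regular (h2 : (2 : F) ≠ 0) (k : ℕ) {e : ℤ} (he : e = 1 ∨ e = -1) :
    2 * ((Finset.univ : Finset (Fin (k + 2) → F)).filter fun c =>
        quadraticChar F ((mpoly c).eval 0 * (mpoly c).eval (-4)) = e).card =
      (Fintype.card F - 1) ^ 2 * Fintype.card F ^ k := by
  let ψ : (Fin (k + 2) → F) → (F × F) × (Fin k → F) := fun c =>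
    (((mpoly c).eval 0, (mpoly c).eval (-4)), fun i => c i.succ.succ)
  have hinj : Function.Injective ψ := by
    intro c c' h
    obtain ⟨h01, hr⟩ := Prod.mk.inj h
    obtain ⟨h0, h1⟩ := Prod.mk.inj h01
    simp only [mpoly, eval_add, eval_pow, eval_X, eval_finsetSum, eval_mul, eval_C, Fin.sum_univ_succ,
      Fin.val_zero, Fin.val_succ, pow_zero, mul_one] at h0 h1
    have hrest : ∀ i : Fin k, c i.succ.succ = c' i.succ.succ := fun i => congrFun hr i
    simp only [hrest, zero_add, pow_one, mul_zero, add_left_inj, add_right_inj] at h0 h1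
    rw [← add_assoc, ← add_assoc, add_left_inj, h0, add_right_inj] at h1
    have h4 : (-4 : F) ≠ 0 := by
      rw [neg_ne_zero, show (4 : F) = 2 * 2 by norm_num]
      exact mul_ne_zero h2 h2
    funext i
    refine Fin.cases h0 (fun i => Fin.cases (mul_right_cancel₀ h4 h1) hrest i) i
  have hbij : Function.Bijective ψ := (Fintype.bijective_iff_injective_and_card ψ).2 ⟨hinj, by
    rw [Fintype.card_fun, Fintype.card_prod, Fintype.card_prod, Fintype.card_fun, Fintype.card_fin,
      Fintype.card_fin]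
    ring⟩
  rw [Finset.card_equiv (t := ((Finset.univ : Finset (F × F)).filter fun p => quadraticChar F (p.1 * p.2) = e)
    ×ˢ (Finset.univ : Finset (Fin k → F))) (Equiv.ofBijective ψ hbij) (fun c => by simp [ψ]),
    Finset.card_product, ← mul_assoc, two_mul_card_pairs h2 he, Finset.card_univ, Fintype.card_fun,
    Fintype.card_fin]

section Main

universe w

variable {K : Type w} [Field K] [Fintype K] {V : Type w} [AddCommGroup V] [Module K V] [FiniteDimensional K V]

theorem orth_upper (h2 : (2 : K) ≠ 0) {m : ℕ} (hm : finrank K V = m + 1)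
    (T₀ : IForm (RingHom.id K) (1 : K) V) {G : Type*} [Group G] [Finite G]
    (ρ : G → (V ≃ₗ[K] V)) (hρ : ∀ a b x, ρ (a * b) x = ρ a (ρ b x)) (hinj : Function.Injective ρ)
    (hiso : ∀ a x y, T₀.B (ρ a x) (ρ a y) = T₀.B x y)
    (hsurj : ∀ A : V ≃ₗ[K] V, (∀ x y, T₀.B (A x) (A y) = T₀.B x y) → ∃ a, ρ a = A) :
    ((2 * Nat.card (ConjClasses G) : ℕ) : ℝ) ≤ 19 * Real.sqrt (Fintype.card K) ^ (m + 1) := by
  refine (Nat.cast_le.2 (two_mul_card_conjClasses_le hm h2 T₀ ρ hρ hinj hiso hsurj)).trans ?_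
  refine (sum_orth_adm_le h2 (three_le_card h2) m).trans ?_
  rw [mul_comm (19 : ℝ)]
  exact mul_le_mul_of_nonneg_left (orth_numeric (by exact_mod_cast three_le_card h2) m) (by positivity)

theorem orth_lower (h2 : (2 : K) ≠ 0) {n : ℕ} (hn : 2 ≤ n) (hdim : finrank K V = 2 * n)
    (T₀ : IForm (RingHom.id K) (1 : K) V) {G : Type*} [Group G] [Finite G]
    (ρ : G → (V ≃ₗ[K] V)) (hρ : ∀ a b x, ρ (a * b) x = ρ a (ρ b x))
    (hsurj : ∀ A : V ≃ₗ[K] V, (∀ x y, T₀.B (A x) (A y) = T₀.B x y) → ∃ a, ρ a = A) :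
    Fintype.card K ^ n ≤ 2 * Nat.card (ConjClasses G) := by
  set q := Fintype.card K
  obtain ⟨k, rfl⟩ : ∃ k, n = k + 2 := ⟨n - 2, by omega⟩
  have hd0 : disc T₀ = 1 ∨ disc T₀ = -1 := quadraticChar_dichotomy (gram_det_ne_zero T₀ (finBasis K V))
  let inv : ConjClasses G → K[X] := fun c => LinearMap.charpoly (ρ c.out).toLinearMap
  have hclass : ∀ (ι : Type) [Fintype ι] [DecidableEq ι] (M A : Matrix ι ι K), Fintype.card ι = 2 * (k + 2) →
      Mᵀ = M → quadraticChar K M.det = disc T₀ → Aᵀ * M * A = M → ∃ c, inv c = A.charpoly := by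
    intro ι _ _ M A hcard hM hd hA
    have hdet : M.det ≠ 0 := fun h0 => by
      rw [h0, MulChar.map_zero] at hd
      rcases hd0 with h | h <;> omega
    let S := matForm M A hM hdet hA
    obtain ⟨e, he⟩ := exists_isometry_of_disc h2 S T₀
      (by rw [Module.finrank_fintype_fun_eq_card, hcard, hdim])
      (by rw [Module.finrank_fintype_fun_eq_card, hcard]; omega) (by rw [disc_matForm, hd])
    obtain ⟨a, ha⟩ := hsurj ((e.symm.trans S.A).trans e) fun x y => by
      simp only [LinearEquiv.trans_apply]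
      rw [he, S.iso, ← he, LinearEquiv.apply_symm_apply, LinearEquiv.apply_symm_apply]
    refine ⟨ConjClasses.mk a, ?_⟩
    obtain ⟨z, hz⟩ := isConj_iff.1 (ConjClasses.mk_eq_mk_iff_isConj.1
      (Quotient.out_eq (ConjClasses.mk a) : ConjClasses.mk (ConjClasses.mk a).out = ConjClasses.mk a))
    rw [mul_inv_eq_iff_eq_mul] at hz
    have hconj : (ρ z).conj (ρ (ConjClasses.mk a).out).toLinearMap = (ρ a).toLinearMap := by
      refine LinearMap.ext fun x => ?_
      obtain ⟨y, rfl⟩ := (ρ z).surjective x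
      rw [LinearEquiv.conj_apply_apply, LinearEquiv.symm_apply_apply]
      show ρ z (ρ _ y) = ρ a (ρ z y)
      rw [← hρ, ← hρ, hz]
    show LinearMap.charpoly _ = _
    rw [← LinearEquiv.charpoly_conj (ρ z), hconj, ha,
      show ((e.symm.trans S.A).trans e).toLinearMap = e.conj S.A.toLinearMap from LinearMap.ext fun x => rfl,
      LinearEquiv.charpoly_conj, matForm_A, Matrix.charpoly_toLin']
  set κ : ℤ := disc T₀ * quadraticChar K ((Matrix.J (Fin (k + 2)) K).det * (-1) ^ (k + 2))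
  have hκ : κ = 1 ∨ κ = -1 := by
    rcases hd0 with h | h <;> rcases quadraticChar_dichotomy (mul_ne_zero
      (Matrix.isUnit_det_J (Fin (k + 2)) K).ne_zero (pow_ne_zero (k + 2) (neg_ne_zero.2 (one_ne_zero (α := K)))))
      with h' | h' <;> simp [κ, h, h']
  set R := (Finset.univ : Finset (Fin (k + 2) → K)).filter fun c =>
    quadraticChar K ((mpoly c).eval 0 * (mpoly c).eval (-4)) = κ
  set P₁ := R.image fun c => Lf (k + 2) (mpoly c)
  set P₂ := (Finset.univ : Finset (Fin (k + 1) → K)).image fun c =>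
    (X - C 1) * (X + C 1) * Lf (k + 1) (mpoly c)
  have hc₁ : P₁.card = R.card := Finset.card_image_of_injective _ fun c c' h =>
    mpoly_injective (Lf_injective (mpoly_monic c).2.le (mpoly_monic c').2.le h)
  have hc₂ : P₂.card = q ^ (k + 1) := by
    rw [Finset.card_image_of_injective, Finset.card_univ, Fintype.card_fun, Fintype.card_fin]
    intro c c' h
    exact mpoly_injective (Lf_injective (mpoly_monic c).2.le (mpoly_monic c').2.le
      (mul_left_cancel₀ (mul_ne_zero (X_sub_C_ne_zero 1) (monic_X_add_C 1).ne_zero) h))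
  have hdisj : Disjoint P₁ P₂ := by
    rw [Finset.disjoint_left]
    intro p h1 h2'
    obtain ⟨c, hc, rfl⟩ := Finset.mem_image.1 h1
    obtain ⟨c', -, h⟩ := Finset.mem_image.1 h2'
    have h0 : (mpoly c).eval 0 = 0 := by
      rw [← Lf_eval_one (n := k + 2), ← h]; simp
    have := (Finset.mem_filter.1 hc).2
    rw [h0, zero_mul, MulChar.map_zero] at this
    rcases hκ with e | e <;> omega
  have hP : ∀ p ∈ P₁ ∪ P₂, ∃ c, inv c = p := by
    intro p hp
    rcases Finset.mem_union.1 hp with h | h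
    · obtain ⟨c, hc, rfl⟩ := Finset.mem_image.1 h
      obtain ⟨M, A, hM, hdet, hA, hcp⟩ := exists_elem_regular (mpoly_monic c).1 (mpoly_monic c).2
      rw [← hcp]
      refine hclass _ M A (by rw [Fintype.card_sum, Fintype.card_fin]; omega) hM ?_ hA
      rw [hdet, ← mul_assoc, map_mul, (Finset.mem_filter.1 hc).2]
      have : ∀ t : ℤ, t = 1 ∨ t = -1 → t * (disc T₀ * t) = disc T₀ := by
        rintro t (rfl | rfl) <;> ring
      exact this _ (quadraticChar_dichotomy (mul_ne_zero (Matrix.isUnit_det_J (Fin (k + 2)) K).ne_zero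
        (pow_ne_zero _ (neg_ne_zero.2 one_ne_zero))))
    · obtain ⟨c, -, rfl⟩ := Finset.mem_image.1 h
      obtain ⟨ι, i₁, i₂, M, A, hcard, hM, hdet, hA, hcp⟩ :=
        exists_elem_singular h2 (mpoly_monic c).1 (mpoly_monic c).2 hd0
      rw [← hcp]
      exact hclass ι M A (by omega) hM hdet hA
  choose cl hcl using hP
  have hle : (P₁ ∪ P₂).card ≤ Nat.card (ConjClasses G) := by
    rw [← Fintype.card_coe, ← Nat.card_eq_fintype_card]
    refine Nat.card_le_card_of_injective (fun p : ↥(P₁ ∪ P₂) => cl p.1 p.2) fun p p' h => Subtype.ext ?_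
    rw [← hcl p.1 p.2, ← hcl p'.1 p'.2]
    exact congrArg inv h
  rw [Finset.card_union_of_disjoint hdisj, hc₁, hc₂] at hle
  have hR := two_mul_card_regular h2 k hκ
  have hq : 1 ≤ q := Fintype.card_pos
  have h5 : q ^ (k + 2) ≤ (q - 1) ^ 2 * q ^ k + 2 * q ^ (k + 1) := by
    obtain ⟨r, hr⟩ : ∃ r, q = r + 1 := ⟨q - 1, by omega⟩
    rw [hr, Nat.add_sub_cancel, show (r + 1) ^ (k + 2) = (r + 1) ^ k * (r + 1) ^ 2 by ring,
      show r ^ 2 * (r + 1) ^ k + 2 * (r + 1) ^ (k + 1) = (r + 1) ^ k * (r ^ 2 + 2 * (r + 1)) by ring]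
    exact Nat.mul_le_mul_left _ (by ring_nf; omega)
  calc q ^ (k + 2) ≤ 2 * R.card + 2 * q ^ (k + 1) := by rw [hR]; exact h5
    _ ≤ _ := by omega

/-- Both bounds for the isometry group of a quadratic form given by a symmetric matrix. -/
theorem isometryGroup_bounds (h2 : (2 : K) ≠ 0) {ι : Type} [Fintype ι] [DecidableEq ι] {n : ℕ} (hn : 2 ≤ n)
    (hι : Fintype.card ι = 2 * n) (Q : (ι → K) → K) (M : Matrix ι ι K) (hM : Mᵀ = M) (hdet : M.det ≠ 0)
    (hQ : ∀ v, v ⬝ᵥ (M *ᵥ v) = 2 * Q v) :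
    Fintype.card K ^ n ≤ 2 * Nat.card (ConjClasses ↥(Cfsg.isometryGroup K Q)) ∧
      2 * Nat.card (ConjClasses ↥(Cfsg.isometryGroup K Q)) ≤ 19 * Fintype.card K ^ n := by
  let T₀ := matForm M 1 hM hdet (by rw [Matrix.transpose_one, one_mul, mul_one])
  have hB : ∀ x, T₀.B x x = 2 * Q x := hQ
  have hpol : ∀ f : (ι → K) →ₗ[K] (ι → K), (∀ v, Q (f v) = Q v) → ∀ x y, T₀.B (f x) (f y) = T₀.B x y := by
    intro f hf x y
    have h1 := hB (f (x + y))
    rw [hf, ← hB (x + y), map_add] at h1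
    simp only [T₀.add_left, T₀.add_right, hB, hf] at h1
    have hs : ∀ a b, T₀.B a b = T₀.B b a := fun a b => by rw [T₀.symm, RingHom.id_apply, one_mul]
    rw [hs (f y) (f x), hs y x] at h1
    exact mul_left_cancel₀ h2 (by linear_combination h1)
  let ρ : ↥(Cfsg.isometryGroup K Q) → ((ι → K) ≃ₗ[K] (ι → K)) := fun a =>
    LinearEquiv.ofLinear (Matrix.toLin' ((a : GL ι K) : Matrix ι ι K))
      (Matrix.toLin' (((a : GL ι K)⁻¹ : GL ι K) : Matrix ι ι K))
      (by rw [← Matrix.toLin'_mul, Units.mul_inv, Matrix.toLin'_one])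
      (by rw [← Matrix.toLin'_mul, Units.inv_mul, Matrix.toLin'_one])
  have hρ : ∀ a b x, ρ (a * b) x = ρ a (ρ b x) := fun a b x => by
    show (((a * b : ↥(Cfsg.isometryGroup K Q)) : GL ι K) : Matrix ι ι K) *ᵥ x = _
    rw [Subgroup.coe_mul, Units.val_mul, ← Matrix.mulVec_mulVec]
    rfl
  have hinj : Function.Injective ρ := fun a b h => Subtype.ext (Units.ext
    (Matrix.toLin'.injective (LinearMap.ext fun x => LinearEquiv.congr_fun h x)))
  have hiso : ∀ a x y, T₀.B (ρ a x) (ρ a y) = T₀.B x y := fun a x y =>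
    hpol (ρ a).toLinearMap (fun v => a.2 v v) x y
  have hsurj : ∀ A : (ι → K) ≃ₗ[K] (ι → K), (∀ x y, T₀.B (A x) (A y) = T₀.B x y) → ∃ a, ρ a = A := by
    intro A hA
    let u : GL ι K :=
      { val := LinearMap.toMatrix' A.toLinearMap
        inv := LinearMap.toMatrix' A.symm.toLinearMap
        val_inv := by rw [← LinearMap.toMatrix'_comp, LinearEquiv.comp_symm, LinearMap.toMatrix'_id]
        inv_val := by rw [← LinearMap.toMatrix'_comp, LinearEquiv.symm_comp, LinearMap.toMatrix'_id] }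
    have hu : u ∈ Cfsg.isometryGroup K Q := fun v w => by
      show Q (LinearMap.toMatrix' A.toLinearMap *ᵥ v) = Q v
      rw [LinearMap.toMatrix'_mulVec]
      have := hA v v
      rw [hB, hB] at this
      exact mul_left_cancel₀ h2 this
    exact ⟨⟨u, hu⟩, LinearEquiv.ext fun x => LinearMap.toMatrix'_mulVec _ x⟩
  have hdim : finrank K (ι → K) = 2 * n := by rw [Module.finrank_fintype_fun_eq_card, hι]
  refine ⟨orth_lower h2 hn hdim T₀ ρ hρ hsurj, ?_⟩
  have h := orth_upper h2 (m := 2 * n - 1) (by omega) T₀ ρ hρ hinj hiso hsurj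
  rw [show 2 * n - 1 + 1 = 2 * n by omega, pow_mul, Real.sq_sqrt (Nat.cast_nonneg _)] at h
  exact_mod_cast h

/-- The matrix of the hyperbolic form. -/
def hypMat (m : ℕ) (K : Type*) [Field K] : Matrix (Fin m ⊕ Fin m) (Fin m ⊕ Fin m) K := Matrix.fromBlocks 0 1 1 0

theorem hypMat_sq (m : ℕ) : hypMat m K * hypMat m K = 1 := by
  simp [hypMat, Matrix.fromBlocks_multiply]

theorem plus_bounds (h2 : (2 : K) ≠ 0) {n : ℕ} (hn : 2 ≤ n) :
    Fintype.card K ^ n ≤ 2 * Nat.card (ConjClasses ↥(Cfsg.isometryGroup K (Cfsg.quadFormPlus n K))) ∧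
      2 * Nat.card (ConjClasses ↥(Cfsg.isometryGroup K (Cfsg.quadFormPlus n K))) ≤ 19 * Fintype.card K ^ n := by
  refine isometryGroup_bounds h2 hn (by rw [Fintype.card_sum, Fintype.card_fin]; omega) _ (hypMat n K)
    (by simp [hypMat, Matrix.fromBlocks_transpose]) (fun h => ?_) fun v => ?_
  · have := congrArg Matrix.det (hypMat_sq (K := K) n)
    rw [Matrix.det_mul, h, zero_mul, Matrix.det_one] at this
    exact zero_ne_one this
  · rw [hypMat, Matrix.fromBlocks_mulVec, dotProduct, Fintype.sum_sum_type]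
    simp only [Sum.elim_inl, Sum.elim_inr, Matrix.zero_mulVec, Matrix.one_mulVec, zero_add, add_zero,
      Cfsg.quadFormPlus, Finset.mul_sum, Function.comp_apply, ← Finset.sum_add_distrib]
    exact Finset.sum_congr rfl fun i _ => by ring

theorem minus_bounds (h2 : (2 : K) ≠ 0) {m : ℕ} (hm : 1 ≤ m) (a b : K)
    (hab : ∀ z₁ z₂ : K, z₁ ^ 2 + a * z₁ * z₂ + b * z₂ ^ 2 = 0 → z₁ = 0 ∧ z₂ = 0) :
    Fintype.card K ^ (m + 1) ≤ 2 * Nat.card (ConjClasses ↥(Cfsg.isometryGroup K (Cfsg.quadFormMinus m K a b))) ∧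
      2 * Nat.card (ConjClasses ↥(Cfsg.isometryGroup K (Cfsg.quadFormMinus m K a b))) ≤
        19 * Fintype.card K ^ (m + 1) := by
  refine isometryGroup_bounds h2 (by omega) (by rw [Fintype.card_sum, Fintype.card_sum, Fintype.card_fin, Fintype.card_fin]; omega) _
    (Matrix.fromBlocks (hypMat m K) 0 0 !![2, a; a, 2 * b]) ?_ (fun h => ?_) fun v => ?_
  · simp only [hypMat, Matrix.fromBlocks_transpose, Matrix.transpose_zero, Matrix.transpose_one]
    congr 1
    ext i j
    fin_cases i <;> fin_cases j <;> simp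
  · rw [Matrix.det_fromBlocks_zero₂₁, Matrix.det_fin_two_of, mul_eq_zero] at h
    rcases h with h | h
    · have := congrArg Matrix.det (hypMat_sq (K := K) m)
      rw [Matrix.det_mul, h, zero_mul, Matrix.det_one] at this
      exact zero_ne_one this
    · have h0 : (-(a / 2)) ^ 2 + a * (-(a / 2)) * 1 + b * 1 ^ 2 = 0 := by
        field_simp
        linear_combination h
      exact one_ne_zero (hab _ _ h0).2
  · rw [Matrix.fromBlocks_mulVec, hypMat, Matrix.fromBlocks_mulVec, dotProduct, Fintype.sum_sum_type,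
      Fintype.sum_sum_type, Fin.sum_univ_two]
    simp only [Sum.elim_inl, Sum.elim_inr, Matrix.zero_mulVec, Matrix.one_mulVec, zero_add, add_zero,
      Cfsg.quadFormMinus, Function.comp_apply, Pi.add_apply, Pi.zero_apply]
    rw [mul_add, Finset.mul_sum, ← Finset.sum_add_distrib]
    congr 1
    · exact Finset.sum_congr rfl fun i _ => by ring
    · simp [Matrix.mulVec, dotProduct, Fin.sum_univ_two]
      ring

end Main

end Cfsg.Agent.Lib.ClassNumber
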