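import Cfsg.Agent.Lib.ClassNumber.OddCodes
import Cfsg.Agent.Lib.ClassNumber.OddPairs
import Cfsg.Agent.Lib.ClassNumber.OrthMain
import Cfsg.Agent.Lib.Orth.StandardOdd
import Cfsg.Agent.Lib.Orth.NegOne

/-!
Class number bounds for `Ω` in odd dimension, odd characteristic.
-/

set_option autoImplicit false

namespace Cfsg.Agent.Lib.ClassNumber

open Polynomial Module Matrix QuadraticMap UniqueFactorizationMonoid Cfsg.Agent.Lib.GLClasses
open Cfsg.Agent.Lib.Orth
open scoped Classical Matrix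

universe u

variable {F : Type u} [Field F] [Fintype F]

section Space

variable {ι : Type} [Fintype ι] [DecidableEq ι] {Q : QuadraticForm F (ι → F)}

/-- An isometry as a linear equivalence. -/
noncomputable def appEquiv (a : ↥(Cfsg.isometryGroup F ⇑Q)) : (ι → F) ≃ₗ[F] (ι → F) :=
  LinearEquiv.ofLinear (Matrix.toLin' ((a : GL ι F) : Matrix ι ι F))
    (Matrix.toLin' (((a : GL ι F)⁻¹ : GL ι F) : Matrix ι ι F))
    (by rw [← Matrix.toLin'_mul, Units.mul_inv, Matrix.toLin'_one])
    (by rw [← Matrix.toLin'_mul, Units.inv_mul, Matrix.toLin'_one])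

omit [Fintype F] in
theorem appEquiv_apply (a : ↥(Cfsg.isometryGroup F ⇑Q)) (x : ι → F) : appEquiv a x = app a x := rfl

omit [Fintype F] in
theorem exists_mul_add_eq (h2 : (2 : F) ≠ 0) [Fintype F] {a b : F} (ha : a ≠ 0) (hb : b ≠ 0) (c : F) :
    ∃ x y : F, a * x ^ 2 + b * y ^ 2 = c := by
  have hodd : Fintype.card F % 2 = 1 := FiniteField.odd_card_of_char_ne_two fun h => h2 (by
    haveI := ringChar.of_eq h
    exact CharTwo.two_eq_zero)
  obtain ⟨x, y, h⟩ := FiniteField.exists_root_sum_quadratic (f := C a * X ^ 2) (g := C b * X ^ 2 - C c)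
    (degree_C_mul_X_pow 2 ha)
    (by
      have hd : (C b * X ^ 2).degree = ((2 : ℕ) : WithBot ℕ) := degree_C_mul_X_pow 2 hb
      rw [degree_sub_eq_left_of_degree_lt (by
        rw [hd]; exact lt_of_le_of_lt degree_C_le (by exact_mod_cast Nat.two_pos)), hd]
      rfl) hodd
  refine ⟨x, y, ?_⟩
  simp only [eval_mul, eval_C, eval_pow, eval_X, eval_sub] at h
  linear_combination h

/-- An eigenspace for `±1` containing two more blocks of size one carries vectors of both classes. -/
theorem exists_two_in_eigenspace (h2 : (2 : F) ≠ 0) (hQ : (QuadraticMap.polarBilin Q).Nondegenerate)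
    (f : Module.End F (ι → F)) (A : (ι → F) ≃ₗ[F] (ι → F)) (e : F) (he : e * e = 1)
    (hf : ∀ x, f x = A x - e • x) (hA : ∀ v, Q (A v) = Q v)
    (hdim : finrank F (LinearMap.ker (f ^ 2)) + 2 ≤ 2 * finrank F (LinearMap.ker f)) :
    ∃ u v : ι → F, Q u ≠ 0 ∧ Q v ≠ 0 ∧ A u = e • u ∧ A v = e • v ∧ ¬ (IsSquare (Q u) ↔ IsSquare (Q v)) := by
  set E := LinearMap.ker f
  have hE : ∀ x, x ∈ E ↔ A x = e • x := fun x => by rw [LinearMap.mem_ker, hf, sub_eq_zero]
  let B : LinearMap.BilinForm F (ι → F) := QuadraticMap.polarBilin Q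
  have hB : ∀ x y, B x y = polar ⇑Q x y := fun _ _ => rfl
  have hpA : ∀ x y, polar ⇑Q (A x) (A y) = polar ⇑Q x y := fun x y => by
    simp only [polar, ← map_add, hA]
  have hrefl : B.IsRefl := fun x y h => by rw [hB] at h ⊢; rwa [polar_comm]
  have horth : B.orthogonal (LinearMap.range f) = E := by
    ext y
    rw [hE, LinearMap.BilinForm.mem_orthogonal_iff]
    constructor
    · intro h
      have hy : A.symm y - e • y = 0 := hQ.2 _ fun z => by
        have h1 := h _ ⟨z, rfl⟩
        rw [hB, hf, polar_sub_left, polar_smul_left] at h1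
        have h3 : polar ⇑Q (A z) y = polar ⇑Q z (A.symm y) := by
          conv_lhs => rw [← A.apply_symm_apply y, hpA]
        show polar ⇑Q z (A.symm y - e • y) = 0
        rw [polar_sub_right, polar_smul_right, ← h3]
        exact h1
      have h4 := congrArg A (sub_eq_zero.1 hy)
      rw [A.apply_symm_apply, map_smul] at h4
      conv_rhs => rw [h4, smul_smul, he, one_smul]
    · rintro hy _ ⟨z, rfl⟩
      rw [hB, hf, polar_sub_left, polar_smul_left]
      have h3 : polar ⇑Q (A z) y = e • polar ⇑Q z y := by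
        have : y = A (e • y) := by rw [map_smul, hy, smul_smul, he, one_smul]
        conv_lhs => rw [this, hpA, polar_smul_right]
      rw [h3, sub_self]
  have hrange : B.orthogonal E = LinearMap.range f := by
    rw [← horth, LinearMap.BilinForm.orthogonal_orthogonal hQ hrefl]
  -- the radical is small
  set R := E ⊓ LinearMap.range f
  have hR : finrank F R + 2 ≤ finrank F E := by
    have hle : R ≤ (LinearMap.ker (f ^ 2)).map f := by
      rintro x ⟨hx, z, rfl⟩
      refine ⟨z, ?_, rfl⟩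
      rw [SetLike.mem_coe, LinearMap.mem_ker, pow_two, Module.End.mul_apply]
      exact hx
    have hker : E ≤ LinearMap.ker (f ^ 2) := fun x hx => by
      rw [LinearMap.mem_ker] at hx
      rw [LinearMap.mem_ker, pow_two, Module.End.mul_apply, hx, map_zero]
    have h1 := LinearMap.finrank_range_add_finrank_ker (f.domRestrict (LinearMap.ker (f ^ 2)))
    rw [LinearMap.range_domRestrict, LinearMap.ker_domRestrict,
      (Submodule.comapSubtypeEquivOfLe hker).finrank_eq] at h1
    have h3 : finrank F R ≤ finrank F ((LinearMap.ker (f ^ 2)).map f) := Submodule.finrank_mono hle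
    change finrank F ((LinearMap.ker (f ^ 2)).map f) + finrank F E = _ at h1
    omega
  have hrad : ∀ x ∈ E, (∀ y ∈ E, polar ⇑Q x y = 0) → x ∈ R := fun x hx h => by
    refine ⟨hx, ?_⟩
    rw [SetLike.mem_coe, ← hrange, LinearMap.BilinForm.mem_orthogonal_iff]
    intro y hy
    rw [hB, polar_comm]
    exact h y hy
  have hiso : ∀ (x y : ι → F), Q x = 0 → Q y = 0 → Q (x + y) = 0 → polar ⇑Q x y = 0 := fun x y a b c => by
    simp [polar, a, b, c]
  obtain ⟨u, huE, hu⟩ : ∃ u ∈ E, Q u ≠ 0 := by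
    by_contra h
    push Not at h
    have := Submodule.finrank_mono (s := E) (t := R) fun x hx => hrad x hx fun y hy =>
      hiso x y (h x hx) (h y hy) (h _ (add_mem hx hy))
    omega
  obtain ⟨w, hwE, huw, hw⟩ : ∃ w ∈ E, polar ⇑Q u w = 0 ∧ Q w ≠ 0 := by
    by_contra h
    push Not at h
    have hsub : E ≤ R ⊔ Submodule.span F {u} := by
      intro y hy
      have hpr : ∀ z ∈ E, z - (polar ⇑Q u z / (2 * Q u)) • u ∈ E ∧
          polar ⇑Q u (z - (polar ⇑Q u z / (2 * Q u)) • u) = 0 := fun z hz =>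
        ⟨sub_mem hz (E.smul_mem _ huE), by
          rw [polar_sub_right, polar_smul_right, polar_self, smul_eq_mul, two_nsmul]
          field_simp
          ring⟩
      obtain ⟨hy1, hy2⟩ := hpr y hy
      set c := polar ⇑Q u y / (2 * Q u)
      refine Submodule.mem_sup.2 ⟨y - c • u, hrad _ hy1 fun z hz => ?_, c • u,
        Submodule.smul_mem _ _ (Submodule.mem_span_singleton_self u), sub_add_cancel y _⟩
      obtain ⟨hz1, hz2⟩ := hpr z hz
      set d := polar ⇑Q u z / (2 * Q u)
      have hh : polar ⇑Q (y - c • u) (z - d • u) = 0 := hiso _ _ (h _ hy1 hy2) (h _ hz1 hz2)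
        (h _ (add_mem hy1 hz1) (by rw [polar_add_right, hy2, hz2, add_zero]))
      rw [← sub_add_cancel z (d • u), polar_add_right, hh, polar_smul_right, polar_comm, hy2, smul_zero,
        add_zero]
    have h1 := Submodule.finrank_mono hsub
    have h3 := Submodule.finrank_add_le_finrank_add_finrank R (Submodule.span F {u})
    have h4 : finrank F (Submodule.span F {u}) ≤ 1 := by
      simpa using finrank_span_le_card (R := F) ({u} : Set (ι → F))
    omega
  by_cases hs : IsSquare (Q u) ↔ IsSquare (Q w)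
  swap
  · exact ⟨u, w, hu, hw, (hE u).1 huE, (hE w).1 hwE, hs⟩
  obtain ⟨d, hd⟩ := FiniteField.exists_nonsquare (F := F) (fun e => h2 (by
    have h' : ((2 : ℕ) : F) = 0 := (ringChar.spec F 2).2 (by rw [e])
    simpa using h'))
  set c : F := if IsSquare (Q u) then d else 1 with hc
  have hc0 : c ≠ 0 := by
    rw [hc]; split_ifs
    · exact fun h0 => hd (h0 ▸ IsSquare.zero)
    · exact one_ne_zero
  have hcl : ¬ (IsSquare (Q u) ↔ IsSquare c) := by
    rw [hc]; split_ifs with h
    · exact fun hh => hd (hh.1 h)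
    · exact fun hh => h (hh.2 IsSquare.one)
  obtain ⟨x, y, hxy⟩ := exists_mul_add_eq h2 hu hw c
  have hv : Q (x • u + y • w) = c := by
    rw [QuadraticMap.map_add ⇑Q (x • u) (y • w), QuadraticMap.map_smul, QuadraticMap.map_smul, polar_smul_left, polar_smul_right,
      huw, smul_zero, smul_zero, add_zero, ← hxy, smul_eq_mul, smul_eq_mul]
    ring
  refine ⟨u, x • u + y • w, hu, hv ▸ hc0, (hE u).1 huE, ?_, hv ▸ hcl⟩
  exact (hE _).1 (add_mem (E.smul_mem _ huE) (E.smul_mem _ hwE))

/-- An element commuting with `a` with trivial determinant and non-trivial spinor norm. -/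
theorem exists_commute_spinor (h2 : (2 : F) ≠ 0) (hQ : (QuadraticMap.polarBilin Q).Nondegenerate)
    (a : ↥(Cfsg.isometryGroup F ⇑Q)) {e : F} (he : e ≠ 0) {u v : ι → F} (hu : Q u ≠ 0) (hv : Q v ≠ 0)
    (hau : app a u = e • u) (hav : app a v = e • v) (hs : ¬ (IsSquare (Q u) ↔ IsSquare (Q v))) :
    ∃ z, Commute a z ∧ detSign Q h2 hQ z = 1 ∧ spinor Q z = -1 := by
  have hc : ∀ (w : ι → F) (hw : Q w ≠ 0), app a w = e • w → Commute a (refl Q w hw) := by
    intro w hw haw
    have h1 := conj_refl a hw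
    have h3 : refl Q (app a w) (by rwa [Q_app]) = refl Q w hw := by
      rw [← refl_smul hw he]
      congr 1
    rw [h3, mul_inv_eq_iff_eq_mul] at h1
    exact h1
  refine ⟨refl Q u hu * refl Q v hv, (hc u hu hau).mul_right (hc v hv hav), ?_, ?_⟩
  · rw [map_mul, detSign_refl h2 hQ hu, detSign_refl h2 hQ hv]; rfl
  · rw [map_mul]
    by_cases h : IsSquare (Q u)
    · rw [spinor_refl_of_isSquare h2 hu h, spinor_refl_of_not_isSquare h2 hv fun hh => hs (iff_of_true h hh)]
      rfl
    · rw [spinor_refl_of_not_isSquare h2 hu h,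
        spinor_refl_of_isSquare h2 hv (by by_contra hh; exact hs (iff_of_false h hh))]
      rfl

end Space

theorem two_le_of_dim {N : ℕ} {g : Fin (N + 1) → F[X]} {V : Type u} [AddCommGroup V] [Module F V]
    [FiniteDimensional F V] {T : IForm (RingHom.id F) (1 : F) V} (hT : Typed T (blocks g)) (e : F)
    (h : 2 ≤ (normalizedFactors (g 0)).count (X - C e)) :
    finrank F (LinearMap.ker (T.op ((X - C e) ^ 2))) + 2 ≤
      2 * finrank F (LinearMap.ker (T.op ((X - C e) ^ 1))) := by
  rw [hT _ (irreducible_X_sub_C e) (monic_X_sub_C e), hT _ (irreducible_X_sub_C e) (monic_X_sub_C e),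
    kdim_blocks, kdim_blocks, kd, kd, natDegree_X_sub_C, one_mul, one_mul, Fin.sum_univ_succ, Fin.sum_univ_succ]
  simp only [Fin.val_zero, Fin.val_succ, zero_add]
  have h1 : ∀ i : Fin N, min 1 ((i : ℕ) + 1 + 1) = 1 := fun i => by omega
  have h3 : ∀ i : Fin N, min 2 ((i : ℕ) + 1 + 1) = 2 := fun i => by omega
  simp only [h1, h3, one_mul, ← Finset.mul_sum, Nat.min_self, show min 2 1 = 1 from rfl]
  omega

/-- An element with one eigenvalue `±1` of odd multiplicity, of any discriminant. -/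
theorem exists_elem_odd (h2 : (2 : F) ≠ 0) {n : ℕ} {g : F[X]} (hg : g.Monic) (hd : g.natDegree = n)
    {d : ℤ} (hd' : d = 1 ∨ d = -1) (s : Bool) :
    ∃ (ι : Type) (_ : Fintype ι) (_ : DecidableEq ι) (M A : Matrix ι ι F), Fintype.card ι = 2 * n + 1 ∧
      Mᵀ = M ∧ quadraticChar F M.det = d ∧ Aᵀ * M * A = M ∧
      A.charpoly = (if s then X - C 1 else X + C 1) * Lf n g := by
  obtain ⟨g₁, hg₁, hn₁⟩ := exists_eq_pow_rootMultiplicity_mul_and_not_dvd g hg.ne_zero 0
  set α := rootMultiplicity 0 g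
  have hm₁ : g₁.Monic := ((monic_X_sub_C (0 : F)).pow α).of_mul_monic_left (hg₁ ▸ hg)
  obtain ⟨g₀, hg₀, hn₀⟩ := exists_eq_pow_rootMultiplicity_mul_and_not_dvd g₁ hm₁.ne_zero (-4)
  set β := rootMultiplicity (-4) g₁
  have hm₀ : g₀.Monic := ((monic_X_sub_C (-4 : F)).pow β).of_mul_monic_left (hg₀ ▸ hm₁)
  rw [dvd_iff_isRoot, IsRoot.def] at hn₁ hn₀
  have he0 : g₀.eval 0 ≠ 0 := fun h => hn₁ (by rw [hg₀, eval_mul, h, mul_zero])
  rw [C_0, sub_zero] at hg₁
  rw [C_neg, sub_neg_eq_add] at hg₀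
  have hdeg : n = α + β + g₀.natDegree := by
    rw [← hd, hg₁, hg₀, (monic_X_pow α).natDegree_mul (((monic_X_add_C (4 : F)).pow β).mul hm₀),
      ((monic_X_add_C (4 : F)).pow β).natDegree_mul hm₀, natDegree_X_pow, natDegree_pow, natDegree_X_add_C]
    ring
  set γ := g₀.natDegree
  obtain ⟨M₀, A₀, hsymm, hdet, hiso, hcp⟩ := exists_elem_regular hm₀ (rfl : g₀.natDegree = γ)
  have hdet0 : M₀.det ≠ 0 := by
    rw [hdet]
    exact mul_ne_zero (Matrix.isUnit_det_J (Fin γ) F).ne_zero
      (mul_ne_zero (pow_ne_zero _ (neg_ne_zero.2 one_ne_zero)) (mul_ne_zero he0 hn₀))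
  obtain ⟨c, hc0, hc⟩ := exists_char_eq h2 hdet0 hd'
  set na := 2 * α + (if s then 1 else 0) with hna
  set nb := 2 * β + (if s then 0 else 1) with hnb
  obtain ⟨i₀⟩ : Nonempty (Fin na ⊕ Fin nb) := Fintype.card_pos_iff.1 (by
    rw [Fintype.card_sum, Fintype.card_fin, Fintype.card_fin, hna, hnb]; cases s <;> simp)
  let sg : Fin na ⊕ Fin nb → F := Sum.elim (fun _ => 1) fun _ => -1
  refine ⟨(Fin na ⊕ Fin nb) ⊕ (Fin γ ⊕ Fin γ), inferInstance, inferInstance,
    Matrix.fromBlocks (Matrix.diagonal fun i => if i = i₀ then c else 1) 0 0 M₀,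
    Matrix.fromBlocks (Matrix.diagonal sg) 0 0 A₀, ?_, ?_, ?_, ?_, ?_⟩
  · simp only [Fintype.card_sum, Fintype.card_fin, hna, hnb]
    cases s <;> simp <;> omega
  · simp [Matrix.fromBlocks_transpose, hsymm]
  · rw [Matrix.det_fromBlocks_zero₂₁, Matrix.det_diagonal,
      Finset.prod_ite_eq' Finset.univ i₀ (fun _ => c), if_pos (Finset.mem_univ _), hc]
  · simp only [Matrix.fromBlocks_transpose, Matrix.fromBlocks_multiply, Matrix.transpose_zero,
      Matrix.diagonal_transpose, Matrix.mul_zero, Matrix.zero_mul, add_zero, zero_add,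
      Matrix.diagonal_mul_diagonal, hiso]
    congr 2
    funext i
    rcases i with i | i <;> simp [sg]
    split_ifs <;> simp
  · have hx := Lf_pow (g := (X : F[X])) (m := 1) natDegree_X_le α
    have hy := Lf_pow (g := (X + C 4 : F[X])) (m := 1) (by rw [natDegree_X_add_C]) β
    rw [mul_one, Lf_X] at hx
    rw [mul_one, Lf_X_add_four] at hy
    rw [Matrix.charpoly_fromBlocks_zero₂₁, Matrix.charpoly_diagonal, hcp, Fintype.prod_sum_type]
    simp only [sg, Sum.elim_inl, Sum.elim_inr, Finset.prod_const, Finset.card_univ, Fintype.card_fin]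
    rw [hdeg, hg₁, hg₀, add_assoc,
      Lf_mul (m := β + γ) (natDegree_X_pow α).le (natDegree_mul_le.trans (Nat.add_le_add_right
        (natDegree_pow_le.trans (by rw [natDegree_X_add_C, mul_one])) _)),
      Lf_mul (natDegree_pow_le.trans (by rw [natDegree_X_add_C, mul_one])) le_rfl,
      hx, hy, C_neg, sub_neg_eq_add, hna, hnb, C_1]
    cases s <;>
      simp only [pow_add, pow_mul, if_true, if_false, Bool.false_eq_true, pow_zero, pow_one, mul_one] <;> ring

/-- The bounds for `Ω` in dimension `2 n + 1`. -/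
theorem omega_odd_bounds (h2 : (2 : F) ≠ 0) {n : ℕ} (hn : 2 ≤ n) :
    Fintype.card F ^ n ≤ 2 * Nat.card (ConjClasses ↥(Cfsg.Omega F (Cfsg.quadFormOdd n F))) ∧
      10 * Nat.card (ConjClasses ↥(Cfsg.Omega F (Cfsg.quadFormOdd n F))) ≤ 73 * Fintype.card F ^ n := by
  rw [← coe_oddForm n]
  set q := Fintype.card F with hq
  set Q := oddForm n F with hQdef
  have hQ : (QuadraticMap.polarBilin Q).Nondegenerate := oddForm_nondegenerate h2 n
  have hι : Fintype.card (Unit ⊕ (Fin n ⊕ Fin n)) = 2 * n + 1 := by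
    simp only [Fintype.card_sum, Fintype.card_unit, Fintype.card_fin]; omega
  -- the form
  let M : Matrix (Unit ⊕ (Fin n ⊕ Fin n)) (Unit ⊕ (Fin n ⊕ Fin n)) F :=
    Matrix.fromBlocks (Matrix.diagonal fun _ => 2) 0 0 (hypMat n F)
  have hM : Mᵀ = M := by simp [M, hypMat, Matrix.fromBlocks_transpose]
  have hdetM : M.det ≠ 0 := by
    simp only [M, Matrix.det_fromBlocks_zero₂₁, Matrix.det_diagonal, Finset.prod_const]
    refine mul_ne_zero (pow_ne_zero _ h2) fun h => ?_
    have := congrArg Matrix.det (hypMat_sq (K := F) n)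
    rw [Matrix.det_mul, h, zero_mul, Matrix.det_one] at this
    exact zero_ne_one this
  let T₀ := matForm M 1 hM hdetM (by rw [Matrix.transpose_one, one_mul, mul_one])
  have hB : ∀ x, T₀.B x x = 2 * Q x := fun v => by
    show v ⬝ᵥ (M *ᵥ v) = _
    rw [hQdef, coe_oddForm, Matrix.fromBlocks_mulVec, hypMat, Matrix.fromBlocks_mulVec, dotProduct,
      Fintype.sum_sum_type, Fintype.sum_sum_type]
    simp only [Sum.elim_inl, Sum.elim_inr, Matrix.zero_mulVec, Matrix.one_mulVec, zero_add, add_zero,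
      Cfsg.quadFormOdd, Function.comp_apply, Pi.add_apply, Pi.zero_apply, Finset.univ_unique,
      Finset.sum_singleton, Matrix.mulVec_diagonal]
    rw [mul_add, Finset.mul_sum, ← Finset.sum_add_distrib]
    congr 1
    · ring
    · exact Finset.sum_congr rfl fun i _ => by ring
  have hpol : ∀ f : ((Unit ⊕ (Fin n ⊕ Fin n)) → F) →ₗ[F] ((Unit ⊕ (Fin n ⊕ Fin n)) → F),
      (∀ v, Q (f v) = Q v) → ∀ x y, T₀.B (f x) (f y) = T₀.B x y := by
    intro f hf x y
    have h1 := hB (f (x + y))
    rw [hf, ← hB (x + y), map_add] at h1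
    simp only [T₀.add_left, T₀.add_right, hB, hf] at h1
    have hs : ∀ a b, T₀.B a b = T₀.B b a := fun a b => by rw [T₀.symm, RingHom.id_apply, one_mul]
    rw [hs (f y) (f x), hs y x] at h1
    exact mul_left_cancel₀ h2 (by linear_combination h1)
  let ρ : ↥(Cfsg.isometryGroup F ⇑Q) → ((Unit ⊕ (Fin n ⊕ Fin n) → F) ≃ₗ[F] (Unit ⊕ (Fin n ⊕ Fin n) → F)) :=
    appEquiv
  have hρ : ∀ a b x, ρ (a * b) x = ρ a (ρ b x) := fun a b x => app_mul a b x
  have hinj : Function.Injective ρ := fun a b h => isometry_ext fun x => LinearEquiv.congr_fun h x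
  have hiso : ∀ a x y, T₀.B (ρ a x) (ρ a y) = T₀.B x y := fun a x y =>
    hpol (ρ a).toLinearMap (fun v => Q_app a v) x y
  have hsurj : ∀ A : (Unit ⊕ (Fin n ⊕ Fin n) → F) ≃ₗ[F] (Unit ⊕ (Fin n ⊕ Fin n) → F),
      (∀ x y, T₀.B (A x) (A y) = T₀.B x y) → ∃ a, ρ a = A := fun A hA =>
    ⟨ofEquiv Q A fun v => mul_left_cancel₀ h2 (by rw [← hB, ← hB, hA]),
      LinearEquiv.ext fun x => app_ofEquiv A _ x⟩
  have hdim : finrank F (Unit ⊕ (Fin n ⊕ Fin n) → F) = 2 * n + 1 := by
    rw [Module.finrank_fintype_fun_eq_card, hι]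
  -- the characters
  haveI : Fintype ↥(Cfsg.isometryGroup F ⇑Q) := Fintype.ofFinite _
  have hzc : ∀ a : ↥(Cfsg.isometryGroup F ⇑Q), Commute (negOne Q) a := fun a => isometry_ext fun v => by
    simp [app_neg]
  have hz2 : (negOne Q) * (negOne Q) = 1 := isometry_ext fun v => by simp
  have hχz : detSign Q h2 hQ (negOne Q) = -1 := by
    have hne : (-1 : F) ≠ 1 := fun h => h2 (by linear_combination -h)
    have hm : (((negOne Q : ↥(Cfsg.isometryGroup F ⇑Q)) : GL (Unit ⊕ (Fin n ⊕ Fin n)) F) :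
        Matrix (Unit ⊕ (Fin n ⊕ Fin n)) (Unit ⊕ (Fin n ⊕ Fin n)) F) = -1 :=
      mat_eq fun v => by rw [app_negOne, Matrix.neg_mulVec, Matrix.one_mulVec]
    simp [detSign, hm, Matrix.det_neg, hι, hne, Odd.neg_one_pow (show Odd (2 * n + 1) from ⟨n, rfl⟩)]
  obtain ⟨ψ, hψz, hψ⟩ : ∃ ψ : ↥(Cfsg.isometryGroup F ⇑Q) →* ℤˣ, ψ (negOne Q) = 1 ∧
      ∀ x, detSign Q h2 hQ x = 1 → ψ x = spinor Q x := by
    rcases Int.units_eq_one_or (spinor Q (negOne Q)) with h | h
    · exact ⟨spinor Q, h, fun x _ => rfl⟩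
    · exact ⟨spinor Q * detSign Q h2 hQ, by rw [MonoidHom.mul_apply, h, hχz]; rfl,
        fun x hx => by rw [MonoidHom.mul_apply, hx, mul_one]⟩
  have hcard2 : 2 ≤ Fintype.card (Unit ⊕ (Fin n ⊕ Fin n)) := by omega
  have hK : ∀ a : ↥(Cfsg.isometryGroup F ⇑Q), a ∈ Cfsg.Omega F ⇑Q ↔ ψ a = 1 ∧ detSign Q h2 hQ a = 1 := fun a => by
    rw [mem_omega_iff h2 hQ hcard2]
    exact ⟨fun h => ⟨by rw [hψ a h.1, h.2], h.1⟩, fun h => ⟨h.2, by rw [← hψ a h.2, h.1]⟩⟩
  obtain ⟨hlow, hup⟩ := index_four_classes ψ (detSign Q h2 hQ) (negOne Q) hzc hz2 hψz hχz (Cfsg.Omega F ⇑Q) hK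
    (index_omega h2 hQ hcard2)
  -- rigid classes have restricted codes
  have hrig : ∀ a : ↥(Cfsg.isometryGroup F ⇑Q), (∃ x, ConjClasses.mk x = ConjClasses.mk a ∧ Rigid ψ x) →
      ∀ g ∈ admCodes (RingHom.id F) (1 : F) (2 * n + 1),
        Typed ({ T₀ with A := ρ a, iso := hiso a } : IForm (RingHom.id F) (1 : F) _) (blocks g) → Res g := by
    rintro a ⟨x, hx, hr⟩ g - hT
    obtain ⟨w, rfl⟩ := isConj_iff.1 (ConjClasses.mk_eq_mk_iff_isConj.1 hx)
    replace hr := rigid_conj hr w
    by_contra hres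
    obtain ⟨e, he, he'⟩ : ∃ e : F, e * e = 1 ∧ 2 ≤ (normalizedFactors (g 0)).count (X - C e) := by
      rw [Res, not_and_or, not_le, not_le] at hres
      rcases hres with h | h
      · exact ⟨1, one_mul 1, h⟩
      · refine ⟨-1, by ring, ?_⟩
        rw [C_neg, sub_neg_eq_add]
        exact h
    set b := w * x * w⁻¹
    let T : IForm (RingHom.id F) (1 : F) (Unit ⊕ (Fin n ⊕ Fin n) → F) := { T₀ with A := ρ b, iso := hiso b }
    have hdim' := two_le_of_dim (T := T) hT e he'
    have hf : ∀ v, T.op (X - C e) v = ρ b v - e • v := fun v => by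
      rw [T.op_sub_apply, T.op_X_apply, T.op_C_apply]
    obtain ⟨u, v, hu, hv, hau, hav, hcl⟩ := exists_two_in_eigenspace h2 hQ (T.op (X - C e)) (ρ b) e he hf
      (fun v => Q_app b v) (by
        rw [show T.op ((X - C e) ^ 2) = T.op (X - C e) ^ 2 from map_pow _ _ _, pow_one] at hdim'
        exact hdim')
    obtain ⟨z, hz, hzd, hzs⟩ := exists_commute_spinor h2 hQ b
      (left_ne_zero_of_mul_eq_one he) hu hv hau hav hcl
    have := hr.2 z hz
    rw [hψ z hzd, hzs] at this
    exact absurd this (by decide)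
  have hall : 2 * Nat.card (ConjClasses ↥(Cfsg.isometryGroup F ⇑Q)) ≤
      ∑ g ∈ admCodes (RingHom.id F) (1 : F) (2 * n + 1), weight (RingHom.id F) (1 : F) (blocks g) := by
    have h := two_mul_card_classes_sub hdim h2 T₀ ρ hρ hinj hiso hsurj (fun _ => True) (fun _ => True)
      fun _ _ _ _ _ => trivial
    rwa [Nat.card_congr (Equiv.subtypeUnivEquiv fun _ => trivial), Finset.filter_true] at h
  have hsub := two_mul_card_classes_sub hdim h2 T₀ ρ hρ hinj hiso hsurj
    (fun c => ∃ x, ConjClasses.mk x = c ∧ Rigid ψ x) Res hrig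
  have hcount := odd_count (F := F) h2 n
  rw [← hq] at hcount
  -- the lower bound
  have hlower : 2 * q ^ n ≤ Nat.card (ConjClasses ↥(Cfsg.isometryGroup F ⇑Q)) := by
    let inv : ConjClasses ↥(Cfsg.isometryGroup F ⇑Q) → F[X] := fun c => LinearMap.charpoly (ρ c.out).toLinearMap
    have hd0 : disc T₀ = 1 ∨ disc T₀ = -1 := quadraticChar_dichotomy (gram_det_ne_zero T₀ (finBasis F _))
    let poly : Bool × (Fin n → F) → F[X] := fun p => (if p.1 then X - C 1 else X + C 1) * Lf n (mpoly p.2)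
    have hpoly : ∀ p, ∃ c, inv c = poly p := by
      intro p
      obtain ⟨κ, i₁, i₂, M', A, hcard, hM', hd, hA, hcp⟩ :=
        exists_elem_odd h2 (mpoly_monic p.2).1 (mpoly_monic p.2).2 hd0 p.1
      have hdet : M'.det ≠ 0 := fun h0 => by
        rw [h0, MulChar.map_zero] at hd
        rcases hd0 with h | h <;> omega
      let S := matForm M' A hM' hdet hA
      obtain ⟨e, he⟩ := exists_isometry_of_disc h2 S T₀
        (by rw [Module.finrank_fintype_fun_eq_card, hcard, hdim])
        (by rw [Module.finrank_fintype_fun_eq_card, hcard]; omega) (by rw [disc_matForm, hd])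
      obtain ⟨a, ha⟩ := hsurj ((e.symm.trans S.A).trans e) fun x y => by
        simp only [LinearEquiv.trans_apply]
        rw [he, S.iso, ← he, LinearEquiv.apply_symm_apply, LinearEquiv.apply_symm_apply]
      refine ⟨ConjClasses.mk a, ?_⟩
      obtain ⟨z, hz⟩ := isConj_iff.1 (ConjClasses.mk_eq_mk_iff_isConj.1
        (Quotient.out_eq (ConjClasses.mk a) : ConjClasses.mk (ConjClasses.mk a).out = ConjClasses.mk a))
      rw [mul_inv_eq_iff_eq_mul] at hz
      have hconj : (ρ z).conj (ρ (ConjClasses.mk a).out).toLinearMap = (ρ a).toLinearMap := by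
        refine LinearMap.ext fun x => ?_
        obtain ⟨y, rfl⟩ := (ρ z).surjective x
        rw [LinearEquiv.conj_apply_apply, LinearEquiv.symm_apply_apply]
        show ρ z (ρ _ y) = ρ a (ρ z y)
        rw [← hρ, ← hρ, hz]
      show LinearMap.charpoly _ = poly p
      rw [← LinearEquiv.charpoly_conj (ρ z), hconj, ha,
        show ((e.symm.trans S.A).trans e).toLinearMap = e.conj S.A.toLinearMap from LinearMap.ext fun x => rfl,
        LinearEquiv.charpoly_conj, matForm_A, Matrix.charpoly_toLin', hcp]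
    choose cl hcl using hpoly
    have hne : (-1 : F) ≠ 1 := fun h => h2 (by linear_combination -h)
    have hpinj : Function.Injective poly := by
      rintro ⟨s, c⟩ ⟨t, c'⟩ h
      have h0 : ∀ c : Fin n → F, (Lf n (mpoly c)).eval 0 = 1 := fun c => by
        rw [Lf, eval_finsetSum, Finset.sum_range_succ, Finset.sum_eq_zero fun i hi => ?_]
        · have := (mpoly_monic c).1.coeff_natDegree
          rw [(mpoly_monic c).2] at this
          simp [this]
        · rw [Finset.mem_range] at hi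
          simp [zero_pow (show n - i ≠ 0 by omega)]
      have hev := congrArg (eval (0 : F)) h
      simp only [poly, eval_mul, h0, mul_one] at hev
      have hst : s = t := by
        cases s <;> cases t <;> simp [hne, hne.symm] at hev ⊢
      subst hst
      refine Prod.ext rfl (mpoly_injective (Lf_injective (mpoly_monic c).2.le (mpoly_monic c').2.le
        (mul_left_cancel₀ ?_ h)))
      split_ifs
      · exact X_sub_C_ne_zero 1
      · exact (monic_X_add_C 1).ne_zero
    have := Nat.card_le_card_of_injective cl fun p p' h => hpinj (by rw [← hcl p, ← hcl p', h])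
    rwa [Nat.card_eq_fintype_card, Fintype.card_prod, Fintype.card_bool, Fintype.card_fun, Fintype.card_fin] at this
  constructor
  · omega
  · omega

end Cfsg.Agent.Lib.ClassNumber
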