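import Cfsg.Agent.Lib.ClassNumber.SympCount
import Cfsg.Agent.Lib.ClassNumber.Disc

/-!
The weighted count of admissible orthogonal codes in odd characteristic, in units of `√q`.
-/

set_option autoImplicit false

namespace Cfsg.Agent.Lib.ClassNumber

open Polynomial Cfsg.Agent.Lib.GLClasses UniqueFactorizationMonoid
open scoped Classical

variable {F : Type*} [Field F] [Fintype F]

/-- Weight of a multiplicity in an orthogonal datum. -/
def owt (J a : ℕ) : ℕ := if Odd J ∧ a ≠ 0 then 2 else 1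

/-- Indicator of the absence of special blocks. -/
def oind (J a : ℕ) : ℕ := if Odd J ∧ a ≠ 0 then 0 else 1

/-- The possible multiplicities of `X - 1` in an orthogonal datum. -/
def oset (M J : ℕ) : Finset ℕ := (Finset.range (M + 1)).filter fun a => Even J → Even a

/-- The data attached to one block size. -/
noncomputable def odat (F : Type*) [Field F] [Fintype F] (M J : ℕ) : Finset (ℕ × ℕ × F[X]) :=
  oset M J ×ˢ (oset M J ×ˢ (Finset.range (M + 1)).biUnion (pal F))

/-- The size (dimension) of a datum. -/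
noncomputable def osz (J : ℕ) (x : ℕ × ℕ × F[X]) : ℕ := J * (x.1 + x.2.1 + x.2.2.natDegree)

/-- The product of the two weights. -/
noncomputable def opw (f : ℕ → ℕ → ℕ) (J : ℕ) (x : ℕ × ℕ × F[X]) : ℕ := f J x.1 * f J x.2.1

/-- A weighted count of tuples of data with given total size. -/
theorem gen_bound_real {α : Type*} {m : ℕ} {σ c : ℝ} (hσ : 0 < σ) (hc : 0 ≤ c) (N : ℕ)
    (D : Fin (m + 1) → Finset α) (sz w : Fin (m + 1) → α → ℕ) (B : Fin m → ℝ)
    (h0 : ∀ s, ((∑ a ∈ (D 0).filter (fun a => sz 0 a = s), w 0 a : ℕ) : ℝ) ≤ c * σ ^ s)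
    (hS : ∀ i : Fin m, ∑ a ∈ D i.succ, (w i.succ a : ℝ) * (1 / σ) ^ sz i.succ a ≤ B i) :
    ((∑ x ∈ (Fintype.piFinset D).filter (fun x => ∑ j, sz j (x j) = N), ∏ j, w j (x j) : ℕ) : ℝ) ≤
      c * σ ^ N * ∏ i, B i := by
  set R := Fintype.piFinset fun i : Fin m => D i.succ
  have h1 : (∑ x ∈ (Fintype.piFinset D).filter (fun x => ∑ j, sz j (x j) = N), ∏ j, w j (x j)) =
      ∑ p ∈ (D 0 ×ˢ R).filter (fun p => sz 0 p.1 + ∑ i : Fin m, sz i.succ (p.2 i) = N),
        w 0 p.1 * ∏ i : Fin m, w i.succ (p.2 i) := by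
    refine Finset.sum_bij' (fun x _ => (x 0, fun i => x i.succ)) (fun p _ => Fin.cons p.1 p.2)
      ?_ ?_ (fun x _ => ?_) (fun p _ => by simp) (fun x _ => Fin.prod_univ_succ _)
    · intro x hx
      simp only [Finset.mem_filter, Fintype.mem_piFinset, Finset.mem_product, R] at hx ⊢
      exact ⟨⟨hx.1 0, fun i => hx.1 i.succ⟩, by rw [← hx.2, Fin.sum_univ_succ]⟩
    · intro p hp
      simp only [Finset.mem_filter, Fintype.mem_piFinset, Finset.mem_product, R] at hp ⊢
      refine ⟨fun j => ?_, ?_⟩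
      · refine Fin.cases ?_ (fun i => ?_) j
        · simpa using hp.1.1
        · simpa using hp.1.2 i
      · rw [Fin.sum_univ_succ]; simpa using hp.2
    · funext j
      refine Fin.cases ?_ (fun i => ?_) j <;> simp
  rw [h1, Finset.sum_filter, Finset.sum_product_right]
  push_cast
  refine le_trans (Finset.sum_le_sum (g := fun r => c * σ ^ N *
    ∏ i : Fin m, ((w i.succ (r i) : ℝ) * (1 / σ) ^ sz i.succ (r i))) fun r _ => ?_) ?_
  · set T := ∑ i : Fin m, sz i.succ (r i) with hT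
    rcases le_or_gt T N with hTN | hTN
    · have e : ∑ a ∈ D 0, (if sz 0 a + T = N then ((w 0 a : ℝ) * ∏ i : Fin m, (w i.succ (r i) : ℝ)) else 0) =
          ((∑ a ∈ (D 0).filter (fun a => sz 0 a = N - T), w 0 a : ℕ) : ℝ) *
            ∏ i : Fin m, (w i.succ (r i) : ℝ) := by
        rw [Nat.cast_sum, Finset.sum_mul, Finset.sum_filter]
        exact Finset.sum_congr rfl fun a _ => by
          refine if_congr ⟨fun h => by omega, fun h => by omega⟩ rfl rfl
      rw [e, Finset.prod_mul_distrib, Finset.prod_pow_eq_pow_sum, ← hT]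
      calc ((∑ a ∈ (D 0).filter (fun a => sz 0 a = N - T), w 0 a : ℕ) : ℝ) * ∏ i : Fin m, (w i.succ (r i) : ℝ)
          ≤ (c * σ ^ (N - T)) * ∏ i : Fin m, (w i.succ (r i) : ℝ) :=
            mul_le_mul_of_nonneg_right (h0 (N - T)) (Finset.prod_nonneg fun i _ => Nat.cast_nonneg _)
        _ = _ := by
            rw [one_div, inv_pow, show σ ^ N = σ ^ (N - T) * σ ^ T by
              rw [← pow_add, Nat.sub_add_cancel hTN]]
            field_simp
    · rw [Finset.sum_eq_zero fun a _ => if_neg (by omega)]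
      exact mul_nonneg (by positivity) (Finset.prod_nonneg fun i _ => by positivity)
  · rw [← Finset.mul_sum, show R = Fintype.piFinset (fun i : Fin m => D i.succ) from rfl,
      ← Finset.prod_univ_sum (fun i : Fin m => D i.succ)
        (fun (i : Fin m) a => (w i.succ a : ℝ) * (1 / σ) ^ sz i.succ a)]
    exact mul_le_mul_of_nonneg_left
      (Finset.prod_le_prod (fun i _ => Finset.sum_nonneg fun a _ => by positivity) fun i _ => hS i)
      (by positivity)

theorem geom_real_le {y : ℝ} (hy : 0 ≤ y) (hy1 : y < 1) (M : ℕ) :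
    ∑ c ∈ Finset.range M, y ^ c ≤ 1 / (1 - y) := by
  rw [le_div_iff₀ (by linarith)]
  have := geom_sum_mul y M
  nlinarith [pow_nonneg hy M]

/-- Multiplicities at an even size. -/
theorem sum_oset_even {J : ℕ} (hJ : Even J) {z : ℝ} (hz : 0 ≤ z) (hz1 : z < 1) (f : ℕ → ℕ → ℕ)
    (hf : ∀ a, f J a = 1) (M : ℕ) :
    ∑ a ∈ oset M J, (f J a : ℝ) * z ^ a ≤ 1 / (1 - z ^ 2) := by
  simp only [hf, Nat.cast_one, one_mul]
  refine le_trans ?_ (geom_real_le (sq_nonneg z) (pow_lt_one₀ hz hz1 two_ne_zero) (M + 1))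
  rw [oset]
  calc ∑ a ∈ (Finset.range (M + 1)).filter (fun a => Even J → Even a), z ^ a
      = ∑ a ∈ (Finset.range (M + 1)).filter (fun a => Even J → Even a), (z ^ 2) ^ (a / 2) :=
        Finset.sum_congr rfl fun a ha => by
          obtain ⟨c, rfl⟩ := (Finset.mem_filter.1 ha).2 hJ
          rw [← pow_mul]
          congr 1
          omega
    _ = ∑ c ∈ ((Finset.range (M + 1)).filter fun a => Even J → Even a).image (fun a => a / 2), (z ^ 2) ^ c := by
        rw [Finset.sum_image]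
        intro a ha b hb h
        simp only [Finset.coe_filter, Set.mem_setOf_eq] at ha hb
        obtain ⟨c, rfl⟩ := ha.2 hJ
        obtain ⟨d, rfl⟩ := hb.2 hJ
        simp only at h
        omega
    _ ≤ _ := by
        refine Finset.sum_le_sum_of_subset_of_nonneg ?_ fun c _ _ => by positivity
        intro c hc
        obtain ⟨a, ha, rfl⟩ := Finset.mem_image.1 hc
        simp only [Finset.mem_filter, Finset.mem_range] at ha ⊢
        omega

theorem sum_owt_odd {J : ℕ} (hJ : Odd J) {z : ℝ} (hz : 0 ≤ z) (hz1 : z < 1) (M : ℕ) :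
    ∑ a ∈ oset M J, (owt J a : ℝ) * z ^ a ≤ (1 + z) / (1 - z) := by
  rw [oset, Finset.filter_true_of_mem fun a _ h => absurd hJ (Nat.not_odd_iff_even.2 h), Finset.sum_range_succ']
  have h1 : ∀ k : ℕ, (owt J (k + 1) : ℝ) * z ^ (k + 1) = 2 * z * z ^ k := fun k => by
    simp [owt, hJ, pow_succ]; ring
  simp only [h1, ← Finset.mul_sum]
  have h2 := geom_real_le hz hz1 M
  have h3 : (owt J 0 : ℝ) = 1 := by simp [owt]
  rw [h3, pow_zero, mul_one]
  have h4 : 2 * z * ∑ c ∈ Finset.range M, z ^ c ≤ 2 * z * (1 / (1 - z)) :=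
    mul_le_mul_of_nonneg_left h2 (by linarith)
  have h5 : (1 + z) / (1 - z) = 2 * z * (1 / (1 - z)) + 1 := by
    field_simp [show (1 : ℝ) - z ≠ 0 by linarith]
    ring
  linarith

theorem sum_oind_odd {J : ℕ} (hJ : Odd J) (z : ℝ) (M : ℕ) :
    ∑ a ∈ oset M J, (oind J a : ℝ) * z ^ a ≤ 1 := by
  rw [Finset.sum_eq_single 0]
  · simp [oind]
  · intro a _ ha; simp [oind, hJ, ha]
  · intro h
    exact absurd (by simp [oset] : (0 : ℕ) ∈ oset M J) h

/-- One block size, given a bound for one multiplicity. -/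
theorem sum_odat_le (h2 : (2 : F) ≠ 0) (hq : 3 ≤ Fintype.card F) (f : ℕ → ℕ → ℕ) (M J : ℕ) (hJ : 2 ≤ J)
    {A : ℝ} (hA : ∑ a ∈ oset M J, (f J a : ℝ) * ((1 / Real.sqrt (Fintype.card F)) ^ J) ^ a ≤ A) :
    ∑ x ∈ odat F M J, (opw f J x : ℝ) * (1 / Real.sqrt (Fintype.card F)) ^ osz J x ≤
      A * (A * ((1 - (1 / Fintype.card F : ℝ) ^ J) ^ 2 / (1 - (1 / Fintype.card F : ℝ) ^ (J - 1)))) := by
  set q := Fintype.card F
  set s : ℝ := 1 / Real.sqrt q with hs
  have hq' : (3 : ℝ) ≤ q := by exact_mod_cast hq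
  have hs2 : s ^ 2 = 1 / (q : ℝ) := by
    rw [hs, div_pow, one_pow, Real.sq_sqrt (Nat.cast_nonneg q)]
  have hA0 : 0 ≤ ∑ a ∈ oset M J, (f J a : ℝ) * (s ^ J) ^ a := Finset.sum_nonneg fun a _ => by positivity
  have hP0 : 0 ≤ ∑ h ∈ (Finset.range (M + 1)).biUnion (pal F), ((1 / q : ℝ) ^ J) ^ (h.natDegree / 2) :=
    Finset.sum_nonneg fun h _ => by positivity
  have hP : ∑ h ∈ (Finset.range (M + 1)).biUnion (pal F), ((1 / q : ℝ) ^ J) ^ (h.natDegree / 2) ≤
      (1 - (1 / q : ℝ) ^ J) ^ 2 / (1 - (1 / q : ℝ) ^ (J - 1)) := by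
    set u : ℚ := 1 / (q : ℚ) with hu
    have hq'' : (3 : ℚ) ≤ q := by exact_mod_cast hq
    have hu0 : 0 < u := by positivity
    have hu1 : u < 1 := by rw [hu, div_lt_one (by linarith)]; linarith
    have hqy : (q : ℚ) * u ^ J = u ^ (J - 1) := by
      rw [show u ^ J = u ^ (J - 1) * u by rw [← pow_succ, Nat.sub_add_cancel (by omega)], ← mul_assoc,
        mul_comm (q : ℚ), mul_assoc, show (q : ℚ) * u = 1 by rw [hu]; field_simp, mul_one]
    have h := (sum_pal h2 (M + 1) (fun d => (u ^ J) ^ d) fun d => by positivity).trans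
      (sum_palNum_le hq (y := u ^ J) (by positivity) (by rw [hqy]; exact pow_lt_one₀ hu0.le hu1 (by omega)) _)
    rw [hqy] at h
    have h' := (Rat.cast_le (K := ℝ)).2 h
    push_cast [hu] at h'
    exact h'
  have e : ∀ x ∈ odat F M J, (opw f J x : ℝ) * s ^ osz J x =
      ((f J x.1 : ℝ) * (s ^ J) ^ x.1) * (((f J x.2.1 : ℝ) * (s ^ J) ^ x.2.1) *
        ((1 / q : ℝ) ^ J) ^ (x.2.2.natDegree / 2)) := by
    intro x hx
    simp only [odat, Finset.mem_product, Finset.mem_biUnion] at hx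
    obtain ⟨d, -, hd⟩ := hx.2.2
    rw [natDegree_of_mem_pal hd, Nat.mul_div_cancel_left _ Nat.two_pos, ← hs2, opw, osz, natDegree_of_mem_pal hd,
      ← pow_mul, ← pow_mul, ← pow_mul, ← pow_mul,
      show J * (x.1 + x.2.1 + 2 * d) = J * x.1 + J * x.2.1 + 2 * (J * d) by ring, pow_add, pow_add]
    push_cast
    ring
  rw [Finset.sum_congr rfl e, odat, Finset.sum_product]
  simp only [Finset.sum_product, ← Finset.mul_sum, ← Finset.sum_mul]
  exact mul_le_mul hA (mul_le_mul hA hP hP0 (hA0.trans hA)) (mul_nonneg hA0 hP0) (hA0.trans hA)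

/-- The factor of a block size in the generating function. -/
noncomputable def oFactor (q : ℝ) (J : ℕ) : ℝ :=
  (if Odd J then (1 + (1 / Real.sqrt q) ^ J) ^ 4 else 1) / (1 - (1 / q) ^ (J - 1))

theorem sum_owt_le (h2 : (2 : F) ≠ 0) (hq : 3 ≤ Fintype.card F) (M J : ℕ) (hJ : 2 ≤ J) :
    ∑ x ∈ odat F M J, (opw owt J x : ℝ) * (1 / Real.sqrt (Fintype.card F)) ^ osz J x ≤
      oFactor (Fintype.card F) J := by
  set q := Fintype.card F with hqdef
  set s : ℝ := 1 / Real.sqrt q with hs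
  have hq' : (3 : ℝ) ≤ q := by exact_mod_cast hq
  have hs0 : 0 ≤ s := by positivity
  have hs2 : s ^ 2 = 1 / (q : ℝ) := by rw [hs, div_pow, one_pow, Real.sq_sqrt (Nat.cast_nonneg q)]
  have hx1 : 1 / (q : ℝ) < 1 := by rw [div_lt_one (by linarith)]; linarith
  have hs1 : s < 1 := by nlinarith
  have hz0 : 0 ≤ s ^ J := by positivity
  have hz1 : s ^ J < 1 := pow_lt_one₀ hs0 hs1 (by omega)
  have hJ1 : (1 / (q : ℝ)) ^ (J - 1) < 1 := pow_lt_one₀ (by positivity) hx1 (by omega)
  have hxJ : (1 / (q : ℝ)) ^ J = (s ^ J) ^ 2 := by rw [← hs2, ← pow_mul, ← pow_mul, mul_comm]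
  rcases Nat.even_or_odd J with he | ho
  · refine (sum_odat_le h2 hq owt M J hJ
      (sum_oset_even he hz0 hz1 owt (fun a => by simp [owt, Nat.not_odd_iff_even.2 he]) M)).trans (le_of_eq ?_)
    simp only [← hqdef]
    rw [oFactor, if_neg (Nat.not_odd_iff_even.2 he), hxJ]
    have : (0 : ℝ) < 1 - (s ^ J) ^ 2 := by nlinarith
    field_simp
  · refine (sum_odat_le h2 hq owt M J hJ (sum_owt_odd ho hz0 hz1 M)).trans (le_of_eq ?_)
    simp only [← hqdef]
    rw [oFactor, if_pos ho, hxJ, ← hs]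
    have : (0 : ℝ) < 1 - s ^ J := by linarith
    field_simp
    ring

theorem sum_oind_le (h2 : (2 : F) ≠ 0) (hq : 3 ≤ Fintype.card F) (M J : ℕ) (hJ : 2 ≤ J) :
    ∑ x ∈ odat F M J, (opw oind J x : ℝ) * (1 / Real.sqrt (Fintype.card F)) ^ osz J x ≤
      1 / (1 - (1 / (Fintype.card F : ℝ)) ^ (J - 1)) := by
  set q := Fintype.card F with hqdef
  set s : ℝ := 1 / Real.sqrt q with hs
  have hq' : (3 : ℝ) ≤ q := by exact_mod_cast hq
  have hs0 : 0 ≤ s := by positivity
  have hs2 : s ^ 2 = 1 / (q : ℝ) := by rw [hs, div_pow, one_pow, Real.sq_sqrt (Nat.cast_nonneg q)]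
  have hx1 : 1 / (q : ℝ) < 1 := by rw [div_lt_one (by linarith)]; linarith
  have hs1 : s < 1 := by nlinarith
  have hz0 : 0 ≤ s ^ J := by positivity
  have hz1 : s ^ J < 1 := pow_lt_one₀ hs0 hs1 (by omega)
  have hJ1 : 0 < 1 - (1 / (q : ℝ)) ^ (J - 1) := sub_pos.2 (pow_lt_one₀ (by positivity) hx1 (by omega))
  have hxJ : (1 / (q : ℝ)) ^ J = (s ^ J) ^ 2 := by rw [← hs2, ← pow_mul, ← pow_mul, mul_comm]
  rcases Nat.even_or_odd J with he | ho
  · refine (sum_odat_le h2 hq oind M J hJ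
      (sum_oset_even he hz0 hz1 oind (fun a => by simp [oind, Nat.not_odd_iff_even.2 he]) M)).trans (le_of_eq ?_)
    simp only [← hqdef]
    rw [hxJ]
    have : (0 : ℝ) < 1 - (s ^ J) ^ 2 := by nlinarith
    field_simp
  · refine (sum_odat_le h2 hq oind M J hJ (sum_oind_odd ho (s ^ J) M)).trans ?_
    simp only [← hqdef]
    rw [one_mul, one_mul]
    refine div_le_div_of_nonneg_right ?_ hJ1.le
    have hy : (s ^ J) ^ 2 ≤ 1 := pow_le_one₀ hz0 hz1.le
    rw [hxJ]
    exact pow_le_one₀ (by linarith) (by nlinarith)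

/-- The first factor: pairs of multiplicities and a palindrome. -/
theorem sum_odat_one (h2 : (2 : F) ≠ 0) (f : ℕ → ℕ → ℕ) (M t : ℕ) :
    ∑ x ∈ (odat F M 1).filter (fun x => osz 1 x = t), opw f 1 x ≤
      ∑ d ∈ Finset.range (t / 2 + 1),
        (∑ k ∈ Finset.range (t - 2 * d + 1), f 1 k * f 1 (t - 2 * d - k)) * palNum (Fintype.card F) d := by
  set S := (odat F M 1).filter (fun x => osz 1 x = t)
  have hS : ∀ x ∈ S, ∃ d, x.2.2 ∈ pal F d ∧ x.1 + x.2.1 + 2 * d = t := by
    intro x hx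
    obtain ⟨hx1, hx2⟩ := Finset.mem_filter.1 hx
    simp only [odat, Finset.mem_product, Finset.mem_biUnion] at hx1
    obtain ⟨d, -, hd⟩ := hx1.2.2
    rw [osz, one_mul, natDegree_of_mem_pal hd] at hx2
    exact ⟨d, hd, hx2⟩
  calc ∑ x ∈ S, opw f 1 x
      = ∑ p ∈ S.image (fun x => ((x.1, x.2.1), x.2.2)), f 1 p.1.1 * f 1 p.1.2 := by
        rw [Finset.sum_image]
        · rfl
        · intro x _ y _ h
          simp only [Prod.mk.injEq] at h
          exact Prod.ext h.1.1 (Prod.ext h.1.2 h.2)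
    _ ≤ ∑ p ∈ (Finset.range (t / 2 + 1)).biUnion (fun d => Finset.HasAntidiagonal.antidiagonal (t - 2 * d) ×ˢ pal F d),
          f 1 p.1.1 * f 1 p.1.2 := by
        refine Finset.sum_le_sum_of_subset fun p hp => ?_
        obtain ⟨x, hx, rfl⟩ := Finset.mem_image.1 hp
        obtain ⟨d, hd, hsum⟩ := hS x hx
        simp only [Finset.mem_biUnion, Finset.mem_product, Finset.mem_range, Finset.HasAntidiagonal.mem_antidiagonal]
        exact ⟨d, by omega, by omega, hd⟩
    _ ≤ ∑ d ∈ Finset.range (t / 2 + 1), ∑ p ∈ Finset.HasAntidiagonal.antidiagonal (t - 2 * d) ×ˢ pal F d,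
          f 1 p.1.1 * f 1 p.1.2 := by
        rw [Finset.sum_biUnion]
        intro d _ e _ hde
        rw [Function.onFun, Finset.disjoint_left]
        intro p h1 h3
        have := natDegree_of_mem_pal (Finset.mem_product.1 h1).2
        have := natDegree_of_mem_pal (Finset.mem_product.1 h3).2
        exact hde (by omega)
    _ ≤ _ := by
        refine Finset.sum_le_sum fun d _ => ?_
        rw [Finset.sum_product, ← Finset.Nat.sum_antidiagonal_eq_sum_range_succ (fun a b => f 1 a * f 1 b),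
          Finset.sum_mul]
        refine Finset.sum_le_sum fun p _ => ?_
        dsimp only
        rw [Finset.sum_const, smul_eq_mul, mul_comm]
        exact Nat.mul_le_mul_left _ (card_pal h2 d)

theorem owt_pairs (r : ℕ) : ∑ k ∈ Finset.range (r + 1), owt 1 k * owt 1 (r - k) =
    if r = 0 then 1 else 4 * r := by
  rcases r with _ | r
  · simp [owt]
  rw [if_neg (Nat.succ_ne_zero r), Finset.sum_range_succ, Finset.sum_range_succ']
  have h : ∀ k ∈ Finset.range r, owt 1 (k + 1) * owt 1 (r + 1 - (k + 1)) = 4 := fun k hk => by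
    rw [Finset.mem_range] at hk
    simp [owt, show r - k ≠ 0 by omega]
  rw [Finset.sum_congr rfl h]
  simp [owt]
  ring

theorem palNum_le_pow {q : ℕ} (hq : 3 ≤ q) (k : ℕ) : palNum q k ≤ q ^ k := by
  rw [← sum_palNum_conv hq k]
  exact le_trans (by simp) (Finset.single_le_sum (f := fun d => (k + 1 - d) * palNum q d)
    (fun _ _ => Nat.zero_le _) (Finset.self_mem_range_succ k))

theorem sum_palNum_shift {q : ℕ} (hq : 3 ≤ q) (k : ℕ) :
    ∑ d ∈ Finset.range (k + 2), (k + 1 - d) * palNum q d = q ^ k := by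
  rw [Finset.sum_range_succ, sum_palNum_conv hq k, Nat.sub_self, zero_mul, add_zero]

theorem sum_owt_one (h2 : (2 : F) ≠ 0) (hq : 3 ≤ Fintype.card F) (M t : ℕ) :
    ((∑ x ∈ (odat F M 1).filter (fun x => osz 1 x = t), opw owt 1 x : ℕ) : ℝ) ≤
      28 / 9 * Real.sqrt (Fintype.card F) ^ t := by
  set q := Fintype.card F
  have hq' : (3 : ℝ) ≤ q := by exact_mod_cast hq
  refine le_trans (Nat.cast_le.2 (sum_odat_one h2 owt M t)) ?_
  simp only [owt_pairs]
  have hsq : Real.sqrt q ^ 2 = (q : ℝ) := Real.sq_sqrt (Nat.cast_nonneg q)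
  have hlo : (12 : ℝ) / 7 ≤ Real.sqrt q := Real.le_sqrt_of_sq_le (by norm_num; linarith)
  obtain ⟨k, rfl | rfl⟩ := Nat.even_or_odd' t
  · rw [Nat.mul_div_cancel_left _ Nat.two_pos, pow_mul, hsq]
    rcases k with _ | k
    · norm_num [palNum]
    have e : ∀ d ∈ Finset.range (k + 1), (if 2 * (k + 1) - 2 * d = 0 then 1 else 4 * (2 * (k + 1) - 2 * d)) *
        palNum q d = 8 * ((k + 1 - d) * palNum q d) := fun d hd => by
      rw [Finset.mem_range] at hd
      rw [if_neg (by omega), show 2 * (k + 1) - 2 * d = 2 * (k + 1 - d) by omega]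
      ring
    rw [Finset.sum_range_succ, Finset.sum_congr rfl e, ← Finset.mul_sum, sum_palNum_conv hq k,
      if_pos (Nat.sub_self _), one_mul]
    rcases k with _ | k
    · show ((8 * q ^ 0 + (q - 2) : ℕ) : ℝ) ≤ _
      rw [pow_zero, mul_one, Nat.cast_add, Nat.cast_sub (show 2 ≤ q by omega)]
      push_cast
      linarith
    · show ((8 * q ^ (k + 1) + (q - 1) ^ 2 * q ^ k : ℕ) : ℝ) ≤ _
      push_cast [Nat.cast_sub (show 1 ≤ q by omega)]
      rw [show (q : ℝ) ^ (k + 1 + 1) = q ^ k * q ^ 2 by ring, show (q : ℝ) ^ (k + 1) = q ^ k * q by ring]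
      have hk : (0 : ℝ) ≤ (q : ℝ) ^ k := by positivity
      have h3 : (0 : ℝ) ≤ 19 / 9 * q ^ 2 - 6 * q - 1 := by nlinarith
      nlinarith [mul_nonneg hk h3]
  · rw [show (2 * k + 1) / 2 = k by omega, pow_succ, pow_mul, hsq]
    have e : ∀ d ∈ Finset.range (k + 1), (if 2 * k + 1 - 2 * d = 0 then 1 else 4 * (2 * k + 1 - 2 * d)) *
        palNum q d = 4 * ((k + 1 - d) * palNum q d) + 4 * ((k - d) * palNum q d) := fun d hd => by
      rw [Finset.mem_range] at hd
      rw [if_neg (by omega), show 2 * k + 1 - 2 * d = (k + 1 - d) + (k - d) by omega]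
      ring
    rw [Finset.sum_congr rfl e, Finset.sum_add_distrib, ← Finset.mul_sum, ← Finset.mul_sum,
      sum_palNum_conv hq k]
    rcases k with _ | k
    · norm_num
      linarith
    · rw [sum_palNum_shift hq k]
      push_cast
      rw [pow_succ]
      have hk : (0 : ℝ) ≤ (q : ℝ) ^ k := by positivity
      have h3 : (0 : ℝ) ≤ 28 / 9 * (q : ℝ) * (12 / 7) - 4 * q - 4 := by linarith
      nlinarith [mul_nonneg hk h3, mul_nonneg (mul_nonneg hk (show (0 : ℝ) ≤ q by linarith))
        (sub_nonneg.2 hlo)]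

theorem sum_oind_one (h2 : (2 : F) ≠ 0) (hq : 3 ≤ Fintype.card F) (M t : ℕ) :
    ((∑ x ∈ (odat F M 1).filter (fun x => osz 1 x = t), opw oind 1 x : ℕ) : ℝ) ≤
      1 * Real.sqrt (Fintype.card F) ^ t := by
  set q := Fintype.card F
  refine le_trans (Nat.cast_le.2 (sum_odat_one h2 oind M t)) ?_
  have hz : ∀ r, r ≠ 0 → ∑ k ∈ Finset.range (r + 1), oind 1 k * oind 1 (r - k) = 0 := fun r hr =>
    Finset.sum_eq_zero fun k hk => by
      rw [Finset.mem_range] at hk
      rcases eq_or_ne k 0 with rfl | hk0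
      · simp [oind, hr]
      · simp [oind, hk0]
  obtain ⟨k, rfl | rfl⟩ := Nat.even_or_odd' t
  · rw [Nat.mul_div_cancel_left _ Nat.two_pos, Finset.sum_eq_single k, pow_mul,
      Real.sq_sqrt (Nat.cast_nonneg q), one_mul]
    · rw [Nat.sub_self]
      have h1 : ∑ i ∈ Finset.range (0 + 1), oind 1 i * oind 1 (0 - i) = 1 := by simp [oind]
      rw [h1, one_mul]
      exact_mod_cast palNum_le_pow hq k
    · intro d hd hdk
      rw [Finset.mem_range] at hd
      rw [hz _ (by omega), zero_mul]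
    · simp
  · rw [Finset.sum_eq_zero fun d hd => by
      rw [Finset.mem_range] at hd
      rw [hz _ (by omega), zero_mul]]
    rw [Nat.cast_zero]
    positivity

/-- The admissible orthogonal codes, weighted, plus those without special blocks. -/
theorem sum_orth_adm_le (h2 : (2 : F) ≠ 0) (hq : 3 ≤ Fintype.card F) (m : ℕ) :
    ((∑ g ∈ admCodes (RingHom.id F) (1 : F) (m + 1),
      (weight (RingHom.id F) (1 : F) (blocks g) + if HasSpec (blocks g) then 0 else 1) : ℕ) : ℝ) ≤
      Real.sqrt (Fintype.card F) ^ (m + 1) *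
        (28 / 9 * ∏ i : Fin m, oFactor (Fintype.card F) ((i : ℕ) + 2) +
          ∏ i : Fin m, 1 / (1 - (1 / (Fintype.card F : ℝ)) ^ ((i : ℕ) + 1))) := by
  set N := m + 1
  let D : Fin (m + 1) → Finset (ℕ × ℕ × F[X]) := fun j => odat F N ((j : ℕ) + 1)
  set S := (Fintype.piFinset D).filter (fun x => ∑ j : Fin (m + 1), osz ((j : ℕ) + 1) (x j) = N)
  have hσ : 0 < Real.sqrt (Fintype.card F) := Real.sqrt_pos.2 (by exact_mod_cast Fintype.card_pos)
  have hW : ((∑ x ∈ S, ∏ j : Fin (m + 1), opw owt ((j : ℕ) + 1) (x j) : ℕ) : ℝ) ≤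
      28 / 9 * Real.sqrt (Fintype.card F) ^ N * ∏ i : Fin m, oFactor (Fintype.card F) ((i : ℕ) + 2) :=
    gen_bound_real hσ (by norm_num) N D (fun j => osz ((j : ℕ) + 1)) (fun j => opw owt ((j : ℕ) + 1)) _
      (fun s => sum_owt_one h2 hq N s) fun i => by
        have := sum_owt_le h2 hq N ((i : ℕ) + 2) (by omega)
        simpa only [D, Fin.val_succ] using this
  have hI : ((∑ x ∈ S, ∏ j : Fin (m + 1), opw oind ((j : ℕ) + 1) (x j) : ℕ) : ℝ) ≤
      1 * Real.sqrt (Fintype.card F) ^ N * ∏ i : Fin m, 1 / (1 - (1 / (Fintype.card F : ℝ)) ^ ((i : ℕ) + 1)) :=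
    gen_bound_real hσ zero_le_one N D (fun j => osz ((j : ℕ) + 1)) (fun j => opw oind ((j : ℕ) + 1)) _
      (fun s => sum_oind_one h2 hq N s) fun i => by
        have := sum_oind_le h2 hq N ((i : ℕ) + 2) (by omega)
        simpa only [D, Fin.val_succ, show (i : ℕ) + 2 - 1 = (i : ℕ) + 1 by omega] using this
  let Φ : (Fin (m + 1) → F[X]) → Fin (m + 1) → ℕ × ℕ × F[X] := fun g j => datOf (g j)
  have hinj : Set.InjOn Φ (admCodes (RingHom.id F) (1 : F) (m + 1)) := by
    intro g hg g' hg' h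
    have hc := (mem_codes.1 (Finset.mem_filter.1 hg).1).1
    have hc' := (mem_codes.1 (Finset.mem_filter.1 hg').1).1
    funext j
    rw [← datOf_prod h2 (hc j).1, ← datOf_prod h2 (hc' j).1, show datOf (g j) = datOf (g' j) from congrFun h j]
  have hspec : ∀ (r : F[X]) (J : ℕ), 1 ≤ J → (Spec (RingHom.id F) (1 : F) (r, J) ↔
      (r = X - C 1 ∨ r = X + C 1) ∧ Odd J) := by
    intro r J hJ
    unfold Spec Lin
    constructor
    · rintro ⟨⟨-, hr⟩, hp⟩
      refine ⟨hr, Nat.not_even_iff_odd.1 fun he => ?_⟩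
      obtain ⟨k, hk⟩ := he
      rw [one_mul, show J - 1 = 2 * (k - 1) + 1 by omega, pow_add, pow_mul, neg_one_sq, one_pow, one_mul,
        pow_one] at hp
      exact h2 (by linear_combination (-1 : F) * hp)
    · rintro ⟨hr, k, hk⟩
      refine ⟨⟨fun a => rfl, hr⟩, ?_⟩
      rw [one_mul, show J - 1 = 2 * k by omega, pow_mul, neg_one_sq, one_pow]
  have hmem : ∀ g ∈ admCodes (RingHom.id F) (1 : F) (m + 1), Φ g ∈ S := by
    intro g hg
    obtain ⟨hgc, hadm⟩ := Finset.mem_filter.1 hg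
    obtain ⟨hc, hwt⟩ := mem_codes.1 hgc
    have hdeg : ∀ j, (g j).natDegree = (datOf (g j)).1 + (datOf (g j)).2.1 + (datOf (g j)).2.2.natDegree := by
      intro j
      conv_lhs => rw [← datOf_prod h2 (hc j).1]
      have hm3 : (datOf (g j)).2.2.Monic := by
        have := monic_multiset_prod_of_monic
          ((normalizedFactors (g j)).filter fun r => r ≠ X - C 1 ∧ r ≠ X + C 1) id
          (fun r hr => factor_monic (Multiset.mem_filter.1 hr).1)
        simpa [datOf] using this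
      rw [((monic_X_sub_C (1 : F)).pow _).natDegree_mul (((monic_X_add_C (1 : F)).pow _).mul hm3),
        ((monic_X_add_C (1 : F)).pow _).natDegree_mul hm3, natDegree_pow, natDegree_pow, natDegree_X_sub_C,
        natDegree_X_add_C]
      ring
    have hle : ∀ j : Fin (m + 1), ((j : ℕ) + 1) * (g j).natDegree ≤ N := fun j => by
      have h := Finset.single_le_sum (f := fun j : Fin (m + 1) => ((j : ℕ) + 1) * (g j).natDegree)
        (fun _ _ => Nat.zero_le _) (Finset.mem_univ j)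
      rwa [show (∑ j : Fin (m + 1), ((j : ℕ) + 1) * (g j).natDegree) = N from hwt] at h
    have hevn : ∀ j : Fin (m + 1), Even ((j : ℕ) + 1) → Even (datOf (g j)).1 ∧ Even (datOf (g j)).2.1 := by
      intro j he
      have hns : ∀ r, ¬ Spec (RingHom.id F) (1 : F) (r, (j : ℕ) + 1) := fun r h =>
        Nat.not_odd_iff_even.2 he ((hspec r _ (by omega)).1 h).2
      constructor
      · by_cases hr : X - C (1 : F) ∈ normalizedFactors (g j)
        · exact (hadm j).2 _ ⟨fun a => rfl, Or.inl rfl⟩ (hns _) hr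
        · show Even ((normalizedFactors (g j)).count (X - C 1))
          rw [Multiset.count_eq_zero.2 hr]; exact Even.zero
      · by_cases hr : X + C (1 : F) ∈ normalizedFactors (g j)
        · exact (hadm j).2 _ ⟨fun a => rfl, Or.inr rfl⟩ (hns _) hr
        · show Even ((normalizedFactors (g j)).count (X + C 1))
          rw [Multiset.count_eq_zero.2 hr]; exact Even.zero
    have hpal : ∀ j, ∃ d, (datOf (g j)).2.2.natDegree = 2 * d ∧ (datOf (g j)).2.2 ∈ pal F d := by
      intro j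
      set s := (normalizedFactors (g j)).filter fun r => r ≠ X - C 1 ∧ r ≠ X + C 1
      have hms : ∀ r ∈ s, r.Monic := fun r hr => factor_monic (Multiset.mem_filter.1 hr).1
      have hm3 : s.prod.Monic := by simpa using monic_multiset_prod_of_monic s id hms
      have hd3 : (datOf (g j)).2.2 = s.prod := rfl
      rw [hd3]
      have hdvd : s.prod ∣ g j := by
        conv_rhs => rw [← prod_factors (hc j).1]
        exact Multiset.prod_dvd_prod_of_le (Multiset.filter_le _ _)
      have he : ∀ e : F, (X - C e = X - C 1 ∨ X - C e = X + C 1) → s.prod.eval e ≠ 0 := by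
        intro e he h0
        obtain ⟨r, hr, hd⟩ := (irreducible_X_sub_C e).prime.exists_mem_multiset_dvd (dvd_iff_isRoot.2 h0)
        obtain ⟨hr1, hr2, hr3⟩ := Multiset.mem_filter.1 hr
        have := eq_of_monic_of_associated (monic_X_sub_C e) (hms r hr)
          ((irreducible_X_sub_C e).associated_of_dvd (irreducible_of_normalized_factor r hr1) hd)
        rcases he with h | h
        · exact hr2 (this.symm.trans h)
        · exact hr3 (this.symm.trans h)
      have hsrp : srp (RingHom.id F) s.prod = s.prod := by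
        set f := (X - C (1 : F)) ^ (datOf (g j)).1 * (X + C 1) ^ (datOf (g j)).2.1
        have hg : f * s.prod = g j := by rw [mul_assoc, ← hd3]; exact datOf_prod h2 (hc j).1
        have hf : srp (RingHom.id F) f = f := by
          rw [srp_mul, srp_pow, srp_pow,
            Lin.srp_eq (θ := RingHom.id F) ⟨fun a => rfl, Or.inl rfl⟩,
            Lin.srp_eq (θ := RingHom.id F) ⟨fun a => rfl, Or.inr rfl⟩]
        have h := (hadm j).1
        rw [← hg, srp_mul, hf] at h
        exact mul_left_cancel₀ ((((monic_X_sub_C (1 : F)).pow _).mul ((monic_X_add_C (1 : F)).pow _)).ne_zero) h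
      exact mem_pal h2 hm3 (coeff_zero_ne_of_dvd hdvd (hc j).2) hsrp (he 1 (Or.inl rfl))
        (he (-1) (Or.inr (by rw [C_neg, sub_neg_eq_add])))
    refine Finset.mem_filter.2 ⟨Fintype.mem_piFinset.2 fun j => ?_, ?_⟩
    · obtain ⟨d, hd, hd'⟩ := hpal j
      have hb : (datOf (g j)).1 + (datOf (g j)).2.1 + 2 * d ≤ N := by
        have := hle j
        rw [hdeg j, hd] at this
        exact (Nat.le_mul_of_pos_left _ (Nat.succ_pos _)).trans this
      simp only [D, Φ, odat, oset, Finset.mem_product, Finset.mem_filter, Finset.mem_range, Finset.mem_biUnion]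
      exact ⟨⟨by omega, fun h => (hevn j h).1⟩, ⟨by omega, fun h => (hevn j h).2⟩, ⟨d, by omega, hd'⟩⟩
    · rw [Finset.sum_congr rfl fun (j : Fin (m + 1)) _ =>
        show osz ((j : ℕ) + 1) (Φ g j) = ((j : ℕ) + 1) * (g j).natDegree by rw [hdeg j]; rfl]
      exact hwt
  have hwle : ∀ g ∈ admCodes (RingHom.id F) (1 : F) (m + 1),
      (weight (RingHom.id F) (1 : F) (blocks g) + if HasSpec (blocks g) then 0 else 1) ≤
        (∏ j : Fin (m + 1), opw owt ((j : ℕ) + 1) (Φ g j)) + ∏ j : Fin (m + 1), opw oind ((j : ℕ) + 1) (Φ g j) := by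
    intro g _
    refine add_le_add ?_ ?_
    · have hprod : ∀ j : Fin (m + 1), opw owt ((j : ℕ) + 1) (Φ g j) = 2 ^
          ((if Odd ((j : ℕ) + 1) ∧ (datOf (g j)).1 ≠ 0 then 1 else 0) +
            (if Odd ((j : ℕ) + 1) ∧ (datOf (g j)).2.1 ≠ 0 then 1 else 0)) := by
        intro j
        simp only [Φ, opw, owt, pow_add]
        congr 1 <;> split_ifs <;> rfl
      simp only [hprod]
      rw [Finset.prod_pow_eq_pow_sum, weight]
      refine Nat.pow_le_pow_right (by norm_num) (le_trans (Finset.card_le_card (t :=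
        Finset.univ.biUnion fun j : Fin (m + 1) =>
          (if Odd ((j : ℕ) + 1) ∧ (datOf (g j)).1 ≠ 0 then {((X - C 1 : F[X]), (j : ℕ) + 1)} else ∅) ∪
          (if Odd ((j : ℕ) + 1) ∧ (datOf (g j)).2.1 ≠ 0 then {((X + C 1 : F[X]), (j : ℕ) + 1)} else ∅)) ?_) ?_)
      · intro x hx
        rw [Finset.mem_filter, Multiset.mem_toFinset] at hx
        obtain ⟨j, r, hr, rfl⟩ := mem_blocks.1 hx.1
        obtain ⟨h1, he⟩ := (hspec r _ (by omega)).1 hx.2
        refine Finset.mem_biUnion.2 ⟨j, Finset.mem_univ _, Finset.mem_union.2 ?_⟩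
        rcases h1 with rfl | rfl
        · left
          rw [if_pos ⟨he, (Multiset.count_pos.2 hr).ne'⟩]
          exact Finset.mem_singleton_self _
        · right
          rw [if_pos ⟨he, (Multiset.count_pos.2 hr).ne'⟩]
          exact Finset.mem_singleton_self _
      · refine Finset.card_biUnion_le.trans (Finset.sum_le_sum fun j _ => (Finset.card_union_le _ _).trans ?_)
        split_ifs <;> simp
    · split_ifs with hs
      · exact Nat.zero_le _
      · rw [Finset.prod_eq_one fun j _ => ?_]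
        have hz : ∀ r : F[X], r = X - C 1 ∨ r = X + C 1 → Odd ((j : ℕ) + 1) →
            (normalizedFactors (g j)).count r = 0 := fun r hr ho => Multiset.count_eq_zero.2 fun hrm =>
          hs ⟨(r, (j : ℕ) + 1), mem_blocks_of_factor g j r hrm, (hspec r _ (by omega)).2 ⟨hr, ho⟩⟩
        have e1 : oind ((j : ℕ) + 1) (datOf (g j)).1 = 1 := if_neg fun h => h.2 (hz _ (Or.inl rfl) h.1)
        have e2 : oind ((j : ℕ) + 1) (datOf (g j)).2.1 = 1 := if_neg fun h => h.2 (hz _ (Or.inr rfl) h.1)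
        show oind ((j : ℕ) + 1) (datOf (g j)).1 * oind ((j : ℕ) + 1) (datOf (g j)).2.1 = 1
        rw [e1, e2]
  have key : (∑ g ∈ admCodes (RingHom.id F) (1 : F) (m + 1),
      (weight (RingHom.id F) (1 : F) (blocks g) + if HasSpec (blocks g) then 0 else 1)) ≤
      (∑ x ∈ S, ∏ j : Fin (m + 1), opw owt ((j : ℕ) + 1) (x j)) +
        ∑ x ∈ S, ∏ j : Fin (m + 1), opw oind ((j : ℕ) + 1) (x j) := by
    rw [← Finset.sum_add_distrib]
    calc _ ≤ ∑ g ∈ admCodes (RingHom.id F) (1 : F) (m + 1),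
          ((∏ j : Fin (m + 1), opw owt ((j : ℕ) + 1) (Φ g j)) + ∏ j : Fin (m + 1), opw oind ((j : ℕ) + 1) (Φ g j)) :=
            Finset.sum_le_sum hwle
      _ = ∑ x ∈ (admCodes (RingHom.id F) (1 : F) (m + 1)).image Φ,
          ((∏ j : Fin (m + 1), opw owt ((j : ℕ) + 1) (x j)) + ∏ j : Fin (m + 1), opw oind ((j : ℕ) + 1) (x j)) := by
            rw [Finset.sum_image hinj]
      _ ≤ _ := Finset.sum_le_sum_of_subset fun x hx => by
            obtain ⟨g, hg, rfl⟩ := Finset.mem_image.1 hx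
            exact hmem g hg
  refine (Nat.cast_le.2 key).trans ?_
  rw [Nat.cast_add]
  linarith

/-- The majorant of the weighted generating function at `1/√3`. -/
noncomputable def orthProd (M : ℕ) : ℝ :=
  ∏ k ∈ Finset.range M, (1 + 29 / 50 * (1 / 3) ^ (k + 1)) ^ 4 / (1 - (1 / 3) ^ (k + 1))

theorem orthProd_nonneg (M : ℕ) : 0 ≤ orthProd M := Finset.prod_nonneg fun k _ => by
  have : (1 / 3 : ℝ) ^ (k + 1) ≤ 1 := pow_le_one₀ (by norm_num) (by norm_num)
  exact div_nonneg (by positivity) (by linarith)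

theorem orthProd_le (M : ℕ) : orthProd M ≤ 5464 / 1000 := by
  have hmono : orthProd M ≤ orthProd (M + 7) := by
    refine monotone_nat_of_le_succ (fun N => ?_) (Nat.le_add_right _ _)
    conv_rhs => rw [orthProd, Finset.prod_range_succ, ← orthProd]
    have h1 : (1 / 3 : ℝ) ^ (N + 1) < 1 := pow_lt_one₀ (by norm_num) (by norm_num) (by omega)
    refine le_mul_of_one_le_right (orthProd_nonneg N) ?_
    rw [le_div_iff₀ (by linarith), one_mul]
    have h0 : (0 : ℝ) ≤ (1 / 3) ^ (N + 1) := by positivity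
    nlinarith [one_le_pow₀ (n := 4) (show (1 : ℝ) ≤ 1 + 29 / 50 * (1 / 3) ^ (N + 1) by linarith)]
  have htail : ∀ M : ℕ, orthProd (M + 7) * (1 - 2 / 2187 * (1 - (1 / 3) ^ M)) ≤ orthProd 7 := by
    intro M
    induction M with
    | zero => simp
    | succ M ih =>
      set s : ℝ := 2 / 2187 * (1 - (1 / 3) ^ M) with hs
      set u : ℝ := (1 / 3 : ℝ) ^ (M + 7 + 1) with hu
      have hu' : u = 1 / 6561 * (1 / 3) ^ M := by rw [hu, show M + 7 + 1 = M + 8 by omega, pow_add]; ring
      have hu0 : 0 < u := by positivity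
      have hu1 : u ≤ 1 / 6561 := by
        rw [hu']; exact mul_le_of_le_one_right (by norm_num) (pow_le_one₀ (by norm_num) (by norm_num))
      have hs' : 2 / 2187 * (1 - (1 / 3 : ℝ) ^ (M + 1)) = s + 4 * u := by rw [hs, hu', pow_succ]; ring
      have hp : (1 / 3 : ℝ) ^ M ≤ 1 := pow_le_one₀ (by norm_num) (by norm_num)
      have hp0 : (0 : ℝ) ≤ (1 / 3) ^ M := by positivity
      have hs0 : 0 ≤ s := by rw [hs]; nlinarith
      have hs1 : s + 4 * u ≤ 1 := by rw [hs]; nlinarith
      have hf : (1 + 29 / 50 * u) ^ 4 / (1 - u) ≤ 1 + 4 * u := by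
        rw [div_le_iff₀ (by linarith)]
        nlinarith [mul_le_mul_of_nonneg_left hu1 hu0.le, mul_nonneg (mul_nonneg hu0.le hu0.le) hu0.le,
          mul_le_mul_of_nonneg_left hu1 (mul_nonneg hu0.le hu0.le),
          mul_le_mul_of_nonneg_left hu1 (mul_nonneg (mul_nonneg hu0.le hu0.le) hu0.le)]
      have hstep : orthProd (M + 1 + 7) = orthProd (M + 7) * ((1 + 29 / 50 * u) ^ 4 / (1 - u)) := by
        rw [show M + 1 + 7 = (M + 7) + 1 by omega, orthProd, Finset.prod_range_succ, ← orthProd]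
      rw [hs', hstep]
      calc orthProd (M + 7) * ((1 + 29 / 50 * u) ^ 4 / (1 - u)) * (1 - (s + 4 * u))
          ≤ orthProd (M + 7) * (1 + 4 * u) * (1 - (s + 4 * u)) :=
            mul_le_mul_of_nonneg_right (mul_le_mul_of_nonneg_left hf (orthProd_nonneg _)) (by linarith)
        _ ≤ orthProd (M + 7) * (1 - s) := by
            rw [mul_assoc]
            refine mul_le_mul_of_nonneg_left ?_ (orthProd_nonneg _)
            nlinarith [mul_nonneg hs0 hu0.le, mul_pos hu0 hu0]
        _ ≤ _ := ih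
  have h7 : orthProd 7 ≤ 5464 / 1000 * (1 - 2 / 2187) := by
    norm_num [orthProd, Finset.prod_range_succ]
  refine hmono.trans ?_
  have h0 := orthProd_nonneg (M + 7)
  have hp0 : (0 : ℝ) ≤ (1 / 3) ^ M := by positivity
  nlinarith [htail M]

/-- The majorant of the generating function without special blocks. -/
theorem eulerProd_le (M : ℕ) : ∏ k ∈ Finset.range M, 1 / (1 - (1 / 3 : ℝ) ^ (k + 1)) ≤ 2 := by
  have h : ∀ M : ℕ, 1 / 2 + 1 / 2 * (1 / 3 : ℝ) ^ M ≤ ∏ k ∈ Finset.range M, (1 - (1 / 3 : ℝ) ^ (k + 1)) := by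
    intro M
    induction M with
    | zero => norm_num
    | succ M ih =>
      rw [Finset.prod_range_succ]
      have hp : (1 / 3 : ℝ) ^ M ≤ 1 := pow_le_one₀ (by norm_num) (by norm_num)
      have hp0 : (0 : ℝ) ≤ (1 / 3) ^ M := by positivity
      have h1 : (0 : ℝ) ≤ 1 - (1 / 3) ^ (M + 1) := by rw [pow_succ]; linarith
      refine le_trans ?_ (mul_le_mul_of_nonneg_right ih h1)
      rw [pow_succ]
      nlinarith
  rw [Finset.prod_div_distrib, Finset.prod_const_one]
  have hM := h M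
  have hp0 : (0 : ℝ) ≤ (1 / 3) ^ M := by positivity
  rw [div_le_iff₀ (by linarith)]
  linarith

/-- The final numeric bound. -/
theorem orth_numeric {q : ℝ} (hq : 3 ≤ q) (m : ℕ) :
    28 / 9 * ∏ i : Fin m, oFactor q ((i : ℕ) + 2) + ∏ i : Fin m, 1 / (1 - (1 / q) ^ ((i : ℕ) + 1)) ≤ 19 := by
  have hx0 : (0 : ℝ) ≤ 1 / q := by positivity
  have hx : 1 / q ≤ 1 / 3 := one_div_le_one_div_of_le (by norm_num) hq
  have hs2 : (1 / Real.sqrt q) ^ 2 = 1 / q := by rw [div_pow, one_pow, Real.sq_sqrt (by linarith)]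
  set s := 1 / Real.sqrt q
  have hs0 : 0 ≤ s := by positivity
  have hs : s ≤ 29 / 50 := by nlinarith
  have h1 : ∀ k, (1 / q) ^ (k + 1) ≤ (1 / 3 : ℝ) ^ (k + 1) := fun k => pow_le_pow_left₀ hx0 hx _
  have h3 : ∀ k, (1 / 3 : ℝ) ^ (k + 1) < 1 := fun k => pow_lt_one₀ (by norm_num) (by norm_num) (by omega)
  have hE : ∏ i : Fin m, 1 / (1 - (1 / q) ^ ((i : ℕ) + 1)) ≤ 2 := by
    rw [Fin.prod_univ_eq_prod_range (fun i => 1 / (1 - (1 / q) ^ (i + 1))) m]
    refine le_trans (Finset.prod_le_prod (fun k _ => ?_) fun k _ => ?_) (eulerProd_le m)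
    · exact div_nonneg zero_le_one (by linarith [h1 k, h3 k])
    · exact one_div_le_one_div_of_le (by linarith [h3 k]) (by linarith [h1 k])
  have hF0 : ∀ i, 0 ≤ oFactor q (i + 2) := fun i => by
    refine div_nonneg (by split_ifs <;> positivity) ?_
    rw [show i + 2 - 1 = i + 1 by omega]
    linarith [h1 i, h3 i]
  have hF1 : ∀ i, 1 ≤ oFactor q (i + 2) := fun i => by
    have ha : (0 : ℝ) ≤ (1 / q) ^ (i + 1) := by positivity
    rw [oFactor, show i + 2 - 1 = i + 1 by omega, le_div_iff₀ (by linarith [h1 i, h3 i]), one_mul]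
    split_ifs
    · linarith [one_le_pow₀ (n := 4) (show (1 : ℝ) ≤ 1 + s ^ (i + 2) by linarith [pow_nonneg hs0 (i + 2)])]
    · linarith
  have key : ∀ K, ∏ i ∈ Finset.range (2 * K), oFactor q (i + 2) =
      (∏ k ∈ Finset.range (2 * K), 1 / (1 - (1 / q) ^ (k + 1))) *
        ∏ i ∈ Finset.range K, (1 + s ^ (2 * i + 3)) ^ 4 := by
    intro K
    induction K with
    | zero => simp
    | succ K ih =>
      rw [show 2 * (K + 1) = 2 * K + 1 + 1 by omega, Finset.prod_range_succ, Finset.prod_range_succ, ih,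
        Finset.prod_range_succ _ (2 * K + 1), Finset.prod_range_succ _ (2 * K), Finset.prod_range_succ _ K,
        oFactor, oFactor, if_neg (Nat.not_odd_iff_even.2 ⟨K + 1, by omega⟩), if_pos ⟨K + 1, by omega⟩,
        show 2 * K + 2 - 1 = 2 * K + 1 by omega, show 2 * K + 1 + 2 - 1 = 2 * K + 1 + 1 by omega,
        show 2 * K + 1 + 2 = 2 * K + 3 by omega]
      ring
  have hG : ∏ i : Fin m, oFactor q ((i : ℕ) + 2) ≤ 5464 / 1000 := by
    rw [Fin.prod_univ_eq_prod_range (fun i => oFactor q (i + 2)) m]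
    refine le_trans (Finset.prod_le_prod_of_subset_of_one_le (s := Finset.range m) (t := Finset.range (2 * m))
      (by intro i hi; simp only [Finset.mem_range] at hi ⊢; omega) (fun i _ => hF0 i) (fun i _ _ => hF1 i)) ?_
    rw [key]
    refine le_trans ?_ (orthProd_le (2 * m))
    rw [orthProd]
    rw [Finset.prod_div_distrib, Finset.prod_div_distrib, Finset.prod_const_one, div_mul_eq_mul_div, one_mul]
    have hb : ∀ k, (1 : ℝ) ≤ (1 + 29 / 50 * (1 / 3) ^ (k + 1)) ^ 4 := fun k =>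
      one_le_pow₀ (by have : (0 : ℝ) ≤ (1 / 3) ^ (k + 1) := by positivity
                      linarith)
    refine div_le_div₀ (Finset.prod_nonneg fun k _ => le_trans zero_le_one (hb k)) ?_
      (Finset.prod_pos fun k _ => by linarith [h3 k]) ?_
    · refine le_trans (Finset.prod_le_prod (fun i _ => by positivity) fun i _ => ?_)
        (Finset.prod_le_prod_of_subset_of_one_le
          (by intro i hi; simp only [Finset.mem_range] at hi ⊢; omega)
          (fun i _ => le_trans zero_le_one (hb i)) (fun i _ _ => hb i))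
      have e : s ^ (2 * i + 3) = s * (1 / q) ^ (i + 1) := by rw [← hs2, ← pow_mul, ← pow_succ']; ring_nf
      rw [e]
      have : s * (1 / q) ^ (i + 1) ≤ 29 / 50 * (1 / 3 : ℝ) ^ (i + 1) :=
        mul_le_mul hs (h1 i) (by positivity) (by norm_num)
      exact pow_le_pow_left₀ (by positivity) (by linarith) 4
    · exact Finset.prod_le_prod (fun k _ => by linarith [h3 k]) fun k _ => by linarith [h1 k]
  linarith

end Cfsg.Agent.Lib.ClassNumber
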