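import Cfsg.Agent.Lib.ClassNumber.TwoMain

/-!
Quadratic forms with a given alternating polar form over finite fields of characteristic two: their two types,
transvections exchanging forms of one type, and injectivity of the classes of the orthogonal group into those of
the symplectic group.
-/

set_option autoImplicit false

namespace Cfsg.Agent.Lib.ClassNumber

open Matrix
open scoped Classical Matrix

variable {F : Type*} [Field F]

/-- The Artin–Schreier image. -/
def InAS (a : F) : Prop := ∃ x : F, x + x * x = a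

/-- The character with the Artin–Schreier image as kernel. -/
noncomputable def chi (a : F) : ℤ := if InAS a then 1 else -1

theorem chi_zero : chi (0 : F) = 1 := by
  rw [chi, if_pos ⟨0, by simp⟩]

theorem chi_eq_or (a : F) : chi a = 1 ∨ chi a = -1 := by
  rw [chi]; split_ifs <;> simp

theorem chi_mul_self (a : F) : chi a * chi a = 1 := by
  rcases chi_eq_or a with h | h <;> rw [h] <;> norm_num

section Char

variable [Finite F] [CharP F 2]

theorem exists_not_inAS : ∃ δ : F, ¬ InAS δ := by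
  by_contra h
  push Not at h
  have hs : Function.Surjective (fun x : F => x + x * x) := h
  have h0 := (Finite.injective_iff_surjective.2 hs) (a₁ := (0 : F)) (a₂ := 1) (by
    simp [CharTwo.add_self_eq_zero])
  exact zero_ne_one h0

theorem chi_add (a b : F) : chi (a + b) = chi a * chi b := by
  obtain ⟨δ, hδ⟩ := exists_as (F := F)
  have hadd : ∀ {a b : F}, InAS a → InAS b → InAS (a + b) := by
    rintro a b ⟨x, rfl⟩ ⟨y, rfl⟩
    exact ⟨x + y, by linear_combination CharTwo.add_self_eq_zero (x * y)⟩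
  have hcanc : ∀ {a b : F}, InAS a → InAS (a + b) → InAS b := fun {a b} ha hab => by
    have := hadd ha hab
    rwa [← add_assoc, CharTwo.add_self_eq_zero, zero_add] at this
  have hno : ∀ {a b : F}, ¬ InAS a → ¬ InAS b → InAS (a + b) := by
    intro a b ha hb
    obtain ⟨x, hx | hx⟩ := hδ a
    · exact absurd ⟨x, hx⟩ ha
    obtain ⟨y, hy | hy⟩ := hδ b
    · exact absurd ⟨y, hy⟩ hb
    exact ⟨x + y, by linear_combination hx + hy + CharTwo.add_self_eq_zero (x * y) + CharTwo.add_self_eq_zero δ⟩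
  by_cases ha : InAS a <;> by_cases hb : InAS b <;> simp only [chi, ha, hb, if_true, if_false]
  · rw [if_pos (hadd ha hb)]; norm_num
  · rw [if_neg fun h => hb (hcanc ha h)]; norm_num
  · rw [if_neg fun h => ha (hcanc hb (by rwa [add_comm] at h))]; norm_num
  · rw [if_pos (hno ha hb)]; norm_num

theorem chi_sq (a : F) : chi (a ^ 2) = chi a := by
  have h : chi (a + a ^ 2) = 1 := by rw [chi, if_pos ⟨a, by rw [pow_two]⟩]
  rw [chi_add] at h
  rcases chi_eq_or a with ha | ha <;> rw [ha] at h ⊢ <;> linarith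

theorem inAS_of_chi {a b : F} (h : chi a = chi b) : InAS (a + b) := by
  by_contra hn
  have h2 := chi_add a b
  rw [h, chi_mul_self, chi, if_neg hn] at h2
  norm_num at h2

/-- A square root. -/
noncomputable def rt (a : F) : F := (exists_sq a).choose

theorem rt_sq (a : F) : rt a ^ 2 = a := by rw [pow_two]; exact (exists_sq a).choose_spec

theorem rt_add (a b : F) : rt (a + b) = rt a + rt b := by
  refine sub_eq_zero.1 (pow_eq_zero_iff (two_ne_zero) |>.1 ?_)
  rw [CharTwo.sub_eq_add, CharTwo.add_sq, CharTwo.add_sq, rt_sq, rt_sq, rt_sq, CharTwo.add_self_eq_zero]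

theorem rt_sq_mul (c a : F) : rt (c ^ 2 * a) = c * rt a := by
  refine sub_eq_zero.1 (pow_eq_zero_iff (two_ne_zero) |>.1 ?_)
  rw [CharTwo.sub_eq_add, CharTwo.add_sq, mul_pow, rt_sq, rt_sq, CharTwo.add_self_eq_zero]

end Char

open Cfsg.Agent.Lib.Similarity (sympMap sympMap_alt sympMap_nondeg sympMap_apply mem_symplecticGroup_iff)

/-- The hyperbolic form on the standard symplectic space. -/
noncomputable def q0 {n : ℕ} (v : Fin n ⊕ Fin n → F) : F := Cfsg.quadFormPlus n F v

/-- A quadratic form with the standard polar form. -/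
noncomputable def qz {n : ℕ} (z v : Fin n ⊕ Fin n → F) : F := q0 v + sympMap n F v z ^ 2

section Forms

variable [CharP F 2] {n : ℕ}

theorem sympMap_eq (x y : Fin n ⊕ Fin n → F) :
    sympMap n F x y = ∑ i, (x (Sum.inr i) * y (Sum.inl i) + x (Sum.inl i) * y (Sum.inr i)) := by
  rw [sympMap_apply, Cfsg.Agent.S2585.sympForm_eq_sum, CharTwo.sub_eq_add, ← Finset.sum_add_distrib]

theorem sympMap_comm (x y : Fin n ⊕ Fin n → F) : sympMap n F x y = sympMap n F y x := by
  rw [sympMap_eq, sympMap_eq]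
  exact Finset.sum_congr rfl fun i _ => by ring

theorem q0_add (x y : Fin n ⊕ Fin n → F) : q0 (x + y) = q0 x + q0 y + sympMap n F x y := by
  simp only [q0, Cfsg.quadFormPlus, sympMap_eq, Pi.add_apply, ← Finset.sum_add_distrib]
  exact Finset.sum_congr rfl fun i _ => by ring

theorem q0_smul (c : F) (x : Fin n ⊕ Fin n → F) : q0 (c • x) = c ^ 2 * q0 x := by
  simp only [q0, Cfsg.quadFormPlus, Pi.smul_apply, smul_eq_mul, Finset.mul_sum]
  exact Finset.sum_congr rfl fun i _ => by ring

theorem qz_zero_eq (v : Fin n ⊕ Fin n → F) : qz 0 v = q0 v := by simp [qz]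

theorem qz_add (z x y : Fin n ⊕ Fin n → F) : qz z (x + y) = qz z x + qz z y + sympMap n F x y := by
  rw [qz, qz, qz, q0_add, map_add, LinearMap.add_apply, CharTwo.add_sq]
  ring

theorem qz_smul (z : Fin n ⊕ Fin n → F) (c : F) (x : Fin n ⊕ Fin n → F) : qz z (c • x) = c ^ 2 * qz z x := by
  rw [qz, qz, q0_smul, map_smul, LinearMap.smul_apply, smul_eq_mul]
  ring

theorem qz_shift (z w v : Fin n ⊕ Fin n → F) : qz (z + w) v = qz z v + sympMap n F v w ^ 2 := by
  rw [qz, qz, map_add, CharTwo.add_sq]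
  ring

variable [Fintype F]

/-- Forms with the standard polar form are given by a vector. -/
theorem exists_qz (Q : (Fin n ⊕ Fin n → F) → F)
    (hadd : ∀ x y, Q (x + y) = Q x + Q y + sympMap n F x y) (hsmul : ∀ (c : F) x, Q (c • x) = c ^ 2 * Q x) :
    ∃ z, ∀ v, Q v = qz z v := by
  let l : (Fin n ⊕ Fin n → F) →ₗ[F] F :=
    { toFun := fun v => rt (Q v + q0 v)
      map_add' := fun x y => by
        rw [← rt_add, hadd, q0_add]
        congr 1
        linear_combination CharTwo.add_self_eq_zero (sympMap n F x y)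
      map_smul' := fun c x => by
        rw [RingHom.id_apply, smul_eq_mul, ← rt_sq_mul, hsmul, q0_smul, mul_add] }
  let f : (Fin n ⊕ Fin n → F) →ₗ[F] Module.Dual F (Fin n ⊕ Fin n → F) := (sympMap n F).flip
  have hf : Function.Injective f := by
    rw [← LinearMap.ker_eq_bot, Submodule.eq_bot_iff]
    exact fun y hy => sympMap_nondeg y fun x => LinearMap.congr_fun (LinearMap.mem_ker.1 hy) x
  obtain ⟨z, hz⟩ := (LinearMap.injective_iff_surjective_of_finrank_eq_finrank
    Subspace.dual_finrank_eq.symm).1 hf l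
  refine ⟨z, fun v => ?_⟩
  have h : sympMap n F v z = rt (Q v + q0 v) := LinearMap.congr_fun hz v
  rw [qz, h, rt_sq, add_left_comm, CharTwo.add_self_eq_zero, add_zero]

/-- The sum of the character over a form. -/
noncomputable def gauss (Q : (Fin n ⊕ Fin n → F) → F) : ℤ := ∑ v, chi (Q v)

theorem gauss_qz (z : Fin n ⊕ Fin n → F) : gauss (qz z) = chi (q0 z) * gauss (q0 (F := F) (n := n)) := by
  rw [gauss, gauss, Finset.mul_sum]
  refine Fintype.sum_equiv (Equiv.addRight z) _ _ fun v => ?_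
  show _ = chi (q0 z) * chi (q0 (v + z))
  rw [qz, chi_add, chi_sq, ← chi_add, ← chi_add, q0_add]
  congr 1
  linear_combination -(CharTwo.add_self_eq_zero (q0 z))

theorem gauss_q0_ne : gauss (q0 (F := F) (n := n)) ≠ 0 := by
  obtain ⟨δ, hδ⟩ := exists_not_inAS (F := F)
  have hinner : ∀ a : Fin n → F, a ≠ 0 → ∑ b : Fin n → F, chi (∑ i, a i * b i) = 0 := by
    intro a ha
    obtain ⟨i, hi⟩ := Function.ne_iff.1 ha
    have hb : ∑ k, a k * (Pi.single i (δ / a i) : Fin n → F) k = δ := by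
      rw [Finset.sum_eq_single i (fun k _ hk => by rw [Pi.single_eq_of_ne hk, mul_zero])
        (fun h => absurd (Finset.mem_univ i) h), Pi.single_eq_same, mul_div_cancel₀ _ hi]
    have h := Equiv.sum_comp (Equiv.addRight (Pi.single i (δ / a i) : Fin n → F)) (fun b : Fin n → F => chi (∑ k, a k * b k))
    simp only [Equiv.coe_addRight, Pi.add_apply, mul_add, Finset.sum_add_distrib, hb, chi_add,
      ← Finset.sum_mul] at h
    rw [show chi δ = -1 by rw [chi, if_neg hδ]] at h
    linarith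
  have h : gauss (q0 (F := F) (n := n)) = (Fintype.card (Fin n → F) : ℤ) := by
    rw [gauss, ← (Equiv.sumArrowEquivProdArrow (Fin n) (Fin n) F).symm.sum_comp, Fintype.sum_prod_type]
    show ∑ a : Fin n → F, ∑ b : Fin n → F, chi (∑ i, a i * b i) = _
    rw [Finset.sum_eq_single (0 : Fin n → F) (fun a _ ha => hinner a ha)
      (fun h => absurd (Finset.mem_univ _) h)]
    simp [chi_zero]
  rw [h]
  exact_mod_cast Fintype.card_ne_zero

/-- The action of a symplectic matrix. -/
theorem symp_iso (g : Matrix.symplecticGroup (Fin n) F) (x y : Fin n ⊕ Fin n → F) :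
    sympMap n F ((g : Matrix (Fin n ⊕ Fin n) (Fin n ⊕ Fin n) F) *ᵥ x) ((g : Matrix (Fin n ⊕ Fin n) (Fin n ⊕ Fin n) F) *ᵥ y) = sympMap n F x y :=
  (mem_symplecticGroup_iff _).1 g.2 x y

omit [CharP F 2] [Fintype F] in
theorem symp_cancel (g : Matrix.symplecticGroup (Fin n) F) (x : Fin n ⊕ Fin n → F) :
    (g : Matrix (Fin n ⊕ Fin n) (Fin n ⊕ Fin n) F) *ᵥ ((g⁻¹ : Matrix.symplecticGroup (Fin n) F) : Matrix (Fin n ⊕ Fin n) (Fin n ⊕ Fin n) F) *ᵥ x = x := by
  rw [Matrix.mulVec_mulVec, ← Submonoid.coe_mul, mul_inv_cancel, Submonoid.coe_one, Matrix.one_mulVec]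

/-- Symplectic maps preserve the type. -/
theorem type_eq {g : Matrix.symplecticGroup (Fin n) F} {z z' : Fin n ⊕ Fin n → F}
    (h : ∀ v, qz z ((g : Matrix (Fin n ⊕ Fin n) (Fin n ⊕ Fin n) F) *ᵥ v) = qz z' v) : chi (q0 z) = chi (q0 z') := by
  let e : (Fin n ⊕ Fin n → F) ≃ (Fin n ⊕ Fin n → F) :=
    { toFun := fun v => (g : Matrix (Fin n ⊕ Fin n) (Fin n ⊕ Fin n) F) *ᵥ v
      invFun := fun v => ((g⁻¹ : Matrix.symplecticGroup (Fin n) F) : Matrix (Fin n ⊕ Fin n) (Fin n ⊕ Fin n) F) *ᵥ v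
      left_inv := fun v => by simpa using symp_cancel g⁻¹ v
      right_inv := symp_cancel g }
  have h' : gauss (qz z) = gauss (qz z') := by
    rw [gauss, gauss, ← e.sum_comp]
    exact Finset.sum_congr rfl fun v _ => congrArg chi (h v)
  rw [gauss_qz, gauss_qz] at h'
  exact mul_right_cancel₀ gauss_q0_ne h'

/-- A transvection exchanging two forms of the same type, commuting with isometries fixing their difference. -/
theorem exists_transvection {z z' : Fin n ⊕ Fin n → F} (h : chi (q0 z) = chi (q0 z')) :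
    ∃ t : Matrix.symplecticGroup (Fin n) F,
      (∀ v, qz z ((t : Matrix (Fin n ⊕ Fin n) (Fin n ⊕ Fin n) F) *ᵥ v) = qz z' v) ∧ t * t = 1 ∧
      ∀ a : Matrix.symplecticGroup (Fin n) F, (a : Matrix (Fin n ⊕ Fin n) (Fin n ⊕ Fin n) F) *ᵥ (z + z') = z + z' → Commute a t := by
  set w := z + z' with hw
  have hz' : z' = z + w := by rw [hw, ← add_assoc, show z + z = 0 from funext fun i => CharTwo.add_self_eq_zero (z i), zero_add]
  obtain ⟨x, hx⟩ : InAS (qz z w) := by
    have hq : qz z w = q0 z + q0 z' + (sympMap n F z z' + sympMap n F z z' ^ 2) := by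
      rw [qz, hw, q0_add, map_add, LinearMap.add_apply, sympMap_alt, zero_add, sympMap_comm z' z]
      ring
    rw [hq]
    have h1 := chi_add (q0 z + q0 z') (sympMap n F z z' + sympMap n F z z' ^ 2)
    by_contra hn
    rw [chi, if_neg hn, chi_add, h, chi_mul_self, chi, if_pos ⟨_, by rw [pow_two]⟩] at h1
    norm_num at h1
  clear_value w
  obtain ⟨c, hc⟩ : ∃ c : F, c + c ^ 2 * qz z w = 1 := by
    by_cases h0 : qz z w = 0
    · exact ⟨1, by rw [h0, mul_zero, add_zero]⟩
    · refine ⟨x / qz z w, ?_⟩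
      field_simp
      linear_combination hx
  let L : (Fin n ⊕ Fin n → F) →ₗ[F] (Fin n ⊕ Fin n → F) :=
    LinearMap.id + (c • (sympMap n F).flip w).smulRight w
  have hL : ∀ v, L v = v + (c * sympMap n F v w) • w := fun v => rfl
  have hBL : ∀ v, sympMap n F (L v) w = sympMap n F v w := fun v => by
    rw [hL, map_add, map_smul, LinearMap.add_apply, LinearMap.smul_apply, sympMap_alt, smul_zero, add_zero]
  have hLL : ∀ v, L (L v) = v := fun v => by
    rw [hL (L v), hBL, hL, add_assoc, ← add_smul, CharTwo.add_self_eq_zero, zero_smul, add_zero]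
  have hiso : ∀ x y, sympMap n F (L x) (L y) = sympMap n F x y := fun x y => by
    simp only [hL, map_add, map_smul, LinearMap.add_apply, LinearMap.smul_apply, sympMap_alt, smul_eq_mul,
      sympMap_comm w y]
    linear_combination CharTwo.add_self_eq_zero (c * sympMap n F x w * sympMap n F y w)
  have hmem : LinearMap.toMatrix' L ∈ Matrix.symplecticGroup (Fin n) F :=
    (mem_symplecticGroup_iff _).2 fun x y => by rw [LinearMap.toMatrix'_mulVec, LinearMap.toMatrix'_mulVec, hiso]
  have hmv : ∀ v, ((⟨_, hmem⟩ : Matrix.symplecticGroup (Fin n) F) : Matrix (Fin n ⊕ Fin n) (Fin n ⊕ Fin n) F) *ᵥ v = L v := fun v =>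
    LinearMap.toMatrix'_mulVec _ _
  refine ⟨⟨_, hmem⟩, fun v => ?_, ?_, fun a ha => ?_⟩
  · rw [hmv, hz', qz_shift, hL, qz_add, qz_smul, map_smul, smul_eq_mul]
    linear_combination sympMap n F v w ^ 2 * hc
  · refine Subtype.ext (Matrix.ext_of_mulVec_single fun i => ?_)
    rw [Submonoid.coe_mul, ← Matrix.mulVec_mulVec, hmv, hmv, hLL, Submonoid.coe_one, Matrix.one_mulVec]
  · refine Subtype.ext (Matrix.ext_of_mulVec_single fun i => ?_)
    rw [Submonoid.coe_mul, Submonoid.coe_mul, ← Matrix.mulVec_mulVec, ← Matrix.mulVec_mulVec, hmv, hmv, hL, hL,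
      Matrix.mulVec_add, Matrix.mulVec_smul, ha]
    conv_lhs => rw [← symp_iso a _ w, ha]

/-- The orthogonal group of a form inside the symplectic group. -/
noncomputable def orthTwo (z : Fin n ⊕ Fin n → F) : Subgroup (Matrix.symplecticGroup (Fin n) F) where
  carrier := {g | ∀ v, qz z ((g : Matrix (Fin n ⊕ Fin n) (Fin n ⊕ Fin n) F) *ᵥ v) = qz z v}
  mul_mem' {a b} ha hb v := by rw [Submonoid.coe_mul, ← Matrix.mulVec_mulVec, ha, hb]
  one_mem' v := by rw [Submonoid.coe_one, Matrix.one_mulVec]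
  inv_mem' {a} ha v := by
    have := ha (((a⁻¹ : Matrix.symplecticGroup (Fin n) F) : Matrix (Fin n ⊕ Fin n) (Fin n ⊕ Fin n) F) *ᵥ v)
    rw [symp_cancel] at this
    exact this.symm

theorem exists_pullback (z : Fin n ⊕ Fin n → F) (g : Matrix.symplecticGroup (Fin n) F) :
    ∃ z', (∀ v, qz z ((g : Matrix (Fin n ⊕ Fin n) (Fin n ⊕ Fin n) F) *ᵥ v) = qz z' v) ∧ chi (q0 z) = chi (q0 z') := by
  obtain ⟨z', hz'⟩ := exists_qz (fun v => qz z ((g : Matrix (Fin n ⊕ Fin n) (Fin n ⊕ Fin n) F) *ᵥ v))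
    (fun x y => by rw [Matrix.mulVec_add, qz_add, symp_iso]) (fun c x => by rw [Matrix.mulVec_smul, qz_smul])
  exact ⟨z', hz', type_eq hz'⟩

theorem fix_of_invariant {z z' : Fin n ⊕ Fin n → F} (a : Matrix.symplecticGroup (Fin n) F)
    (h : ∀ v, qz z ((a : Matrix (Fin n ⊕ Fin n) (Fin n ⊕ Fin n) F) *ᵥ v) = qz z v) (h' : ∀ v, qz z' ((a : Matrix (Fin n ⊕ Fin n) (Fin n ⊕ Fin n) F) *ᵥ v) = qz z' v) :
    (a : Matrix (Fin n ⊕ Fin n) (Fin n ⊕ Fin n) F) *ᵥ (z + z') = z + z' := by
  set w := z + z' with hw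
  have hz' : z' = z + w := by rw [hw, ← add_assoc, show z + z = 0 from funext fun i => CharTwo.add_self_eq_zero (z i), zero_add]
  rw [← sub_eq_zero]
  refine sympMap_nondeg _ fun x => ?_
  obtain ⟨v, rfl⟩ : ∃ v, x = (a : Matrix (Fin n ⊕ Fin n) (Fin n ⊕ Fin n) F) *ᵥ v := ⟨_, (symp_cancel a x).symm⟩
  rw [map_sub, symp_iso, sub_eq_zero]
  have h1 := h' v
  rw [hz', qz_shift, qz_shift, h v, add_right_inj] at h1
  rw [← sub_eq_zero, ← pow_eq_zero_iff two_ne_zero, CharTwo.sub_eq_add, CharTwo.add_sq, h1,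
    CharTwo.add_self_eq_zero]

/-- Symplectic conjugate orthogonal elements are conjugate in the orthogonal group. -/
theorem orthTwo_classes_injective (z : Fin n ⊕ Fin n → F) :
    Function.Injective (ConjClasses.map (orthTwo z).subtype) := by
  intro c d h
  obtain ⟨a, rfl⟩ := ConjClasses.exists_rep c
  obtain ⟨b, rfl⟩ := ConjClasses.exists_rep d
  obtain ⟨g, hg⟩ := isConj_iff.1 (ConjClasses.mk_eq_mk_iff_isConj.1 h)
  rw [mul_inv_eq_iff_eq_mul] at hg
  obtain ⟨z', hz', hchi⟩ := exists_pullback z g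
  have hinv : ∀ v, qz z' (((a : Matrix.symplecticGroup (Fin n) F) : Matrix (Fin n ⊕ Fin n) (Fin n ⊕ Fin n) F) *ᵥ v) = qz z' v := fun v => by
    rw [← hz', Matrix.mulVec_mulVec, ← Submonoid.coe_mul, show g * (a : Matrix.symplecticGroup (Fin n) F) =
      (b : Matrix.symplecticGroup (Fin n) F) * g from hg, Submonoid.coe_mul, ← Matrix.mulVec_mulVec, b.2, hz']
  obtain ⟨t, ht, htt, hcomm⟩ := exists_transvection hchi.symm
  have hc := hcomm a (fix_of_invariant _ hinv a.2)
  have hmem : g * t ∈ orthTwo z := fun v => by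
    rw [Submonoid.coe_mul, ← Matrix.mulVec_mulVec, hz', ht]
  refine ConjClasses.mk_eq_mk_iff_isConj.2 (isConj_iff.2 ⟨⟨g * t, hmem⟩, ?_⟩)
  rw [mul_inv_eq_iff_eq_mul]
  refine Subtype.ext ?_
  show g * t * (a : Matrix.symplecticGroup (Fin n) F) = (b : Matrix.symplecticGroup (Fin n) F) * (g * t)
  rw [mul_assoc, ← hc.eq, ← mul_assoc, ← mul_assoc]
  exact congrArg (· * t) hg

end Forms

end Cfsg.Agent.Lib.ClassNumber
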