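import Cfsg.Agent.Lib.ClassNumber.OrthTwoBase
import Cfsg.Agent.Lib.ClassNumber.OrthMain

/-!
Elements of orthogonal groups in characteristic two with prescribed characteristic polynomial.
-/

set_option autoImplicit false

namespace Cfsg.Agent.Lib.ClassNumber

open Polynomial Module Matrix
open scoped Classical Matrix
open Cfsg.Agent.Lib.Similarity (sympMap)

variable {F : Type*} [Field F] [Fintype F] [CharP F 2] {n : ℕ}

/-- The root of the diagonal of a matrix. -/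
noncomputable def rdiag (N : Matrix (Fin n) (Fin n) F) (i : Fin n) : F := rt (N i i)

theorem rdiag_dot {N : Matrix (Fin n) (Fin n) F} (hN : Nᵀ = N) (w : Fin n → F) :
    (rdiag N ⬝ᵥ w) ^ 2 = w ⬝ᵥ (N *ᵥ w) := by
  rw [dotProduct, CharTwo.sum_sq]
  simp only [rdiag, mul_pow, rt_sq, dotProduct, Matrix.mulVec, Finset.mul_sum]
  rw [← Finset.sum_product']
  rw [← Finset.sum_filter_add_sum_filter_not ((Finset.univ : Finset (Fin n)) ×ˢ (Finset.univ : Finset (Fin n)))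
    (fun p => p.1 = p.2)]
  have h0 : ∑ p ∈ ((Finset.univ : Finset (Fin n)) ×ˢ (Finset.univ : Finset (Fin n))).filter (fun p => ¬ p.1 = p.2),
      w p.1 * (N p.1 p.2 * w p.2) = 0 := by
    refine Finset.sum_involution (fun p _ => p.swap) (fun p _ => ?_) (fun p hp _ h => ?_) (fun p hp => ?_)
      (fun p _ => Prod.swap_swap p)
    · have : N p.2 p.1 = N p.1 p.2 := congrFun (congrFun hN p.1) p.2
      simp only [Prod.fst_swap, Prod.snd_swap, this]
      linear_combination CharTwo.add_self_eq_zero (w p.1 * (N p.1 p.2 * w p.2))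
    · exact (Finset.mem_filter.1 hp).2 (congrArg Prod.fst h).symm
    · simpa [eq_comm] using hp
  rw [h0, add_zero]
  refine Finset.sum_bij' (fun i _ => (i, i)) (fun p _ => p.1) (by simp) (by simp) (by simp) ?_ (fun i _ => by ring)
  intro p hp
  exact Prod.ext rfl (Finset.mem_filter.1 hp).2

/-- A symmetric matrix has in its image the vectors orthogonal to its kernel. -/
theorem exists_preimage {T : Matrix (Fin n) (Fin n) F} (hT : Tᵀ = T) {y : Fin n → F}
    (hy : ∀ k, T *ᵥ k = 0 → y ⬝ᵥ k = 0) : ∃ w, T *ᵥ w = y := by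
  let φ : Module.Dual F (Fin n → F) :=
    { toFun := fun v => y ⬝ᵥ v, map_add' := fun a b => dotProduct_add y a b,
      map_smul' := fun c a => dotProduct_smul c y a }
  have hφ : φ ∈ LinearMap.range (Matrix.toLin' T).dualMap := by
    rw [LinearMap.range_dualMap_eq_dualAnnihilator_ker, Submodule.mem_dualAnnihilator]
    exact fun k hk => hy k (by rwa [LinearMap.mem_ker, Matrix.toLin'_apply] at hk)
  obtain ⟨ψ, hψ⟩ := hφ
  refine ⟨fun i => ψ (Pi.single i 1), funext fun i => ?_⟩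
  have h : ψ (T *ᵥ Pi.single i 1) = y ⬝ᵥ Pi.single i 1 := LinearMap.congr_fun hψ _
  rw [dotProduct_single, mul_one] at h
  rw [← h, Matrix.mulVec, dotProduct]
  conv_rhs => rw [← Finset.univ_sum_single (T *ᵥ Pi.single i 1), map_sum]
  refine Finset.sum_congr rfl fun k _ => ?_
  have e : (Pi.single k ((T *ᵥ Pi.single i 1) k) : Fin n → F) = (T *ᵥ Pi.single i 1) k • Pi.single k 1 := by
    rw [← Pi.single_smul, smul_eq_mul, mul_one]
  rw [e, map_smul, smul_eq_mul, Matrix.mulVec_single_one]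
  show T i k * _ = T k i * _
  rw [show T k i = T i k from congrFun (congrFun hT i) k]

/-- The vector of a form attached to two vectors. -/
def zvec (σ τ : Fin n → F) : Fin n ⊕ Fin n → F := Sum.elim τ σ

theorem q0_zvec (σ τ : Fin n → F) : q0 (zvec σ τ) = τ ⬝ᵥ σ := rfl

theorem qz_elim (σ τ a b : Fin n → F) :
    qz (zvec σ τ) (Sum.elim a b) = a ⬝ᵥ b + ((σ ⬝ᵥ a) ^ 2 + (τ ⬝ᵥ b) ^ 2) := by
  rw [← CharTwo.add_sq, qz, sympMap_eq]
  show a ⬝ᵥ b + (∑ i, (b i * τ i + a i * σ i)) ^ 2 = _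
  rw [dotProduct, dotProduct, dotProduct, ← Finset.sum_add_distrib]
  congr 2
  exact Finset.sum_congr rfl fun i _ => by ring

theorem upper_invariant {S : Matrix (Fin n) (Fin n) F} {σ τ : Fin n → F}
    (hσ : ∀ b, (σ ⬝ᵥ (S *ᵥ b)) ^ 2 = b ⬝ᵥ (S *ᵥ b)) (v : Fin n ⊕ Fin n → F) :
    qz (zvec σ τ) (Matrix.fromBlocks 1 S 0 1 *ᵥ v) = qz (zvec σ τ) v := by
  rw [← Sum.elim_comp_inl_inr v, Matrix.fromBlocks_mulVec]
  simp only [Sum.elim_comp_inl, Sum.elim_comp_inr, Matrix.one_mulVec, Matrix.zero_mulVec, zero_add]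
  rw [qz_elim, qz_elim, add_dotProduct, dotProduct_add, CharTwo.add_sq, hσ, dotProduct_comm (S *ᵥ _)]
  linear_combination CharTwo.add_self_eq_zero ((v ∘ Sum.inr) ⬝ᵥ (S *ᵥ (v ∘ Sum.inr)))

theorem lower_invariant {T : Matrix (Fin n) (Fin n) F} {σ τ : Fin n → F}
    (hτ : ∀ a, (τ ⬝ᵥ (T *ᵥ a)) ^ 2 = a ⬝ᵥ (T *ᵥ a)) (v : Fin n ⊕ Fin n → F) :
    qz (zvec σ τ) (Matrix.fromBlocks 1 0 T 1 *ᵥ v) = qz (zvec σ τ) v := by
  rw [← Sum.elim_comp_inl_inr v, Matrix.fromBlocks_mulVec]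
  simp only [Sum.elim_comp_inl, Sum.elim_comp_inr, Matrix.one_mulVec, Matrix.zero_mulVec, add_zero]
  rw [qz_elim, qz_elim, dotProduct_add, dotProduct_add, CharTwo.add_sq, hτ]
  linear_combination CharTwo.add_self_eq_zero ((v ∘ Sum.inl) ⬝ᵥ (T *ᵥ (v ∘ Sum.inl)))

theorem dot_symm {N : Matrix (Fin n) (Fin n) F} (hN : Nᵀ = N) (x y : Fin n → F) :
    x ⬝ᵥ (N *ᵥ y) = (N *ᵥ x) ⬝ᵥ y := by
  rw [dotProduct_mulVec, ← Matrix.mulVec_transpose, hN]

/-- The trace of an inverse from the characteristic polynomial. -/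
theorem trace_inv_eq {M : Matrix (Fin n) (Fin n) F} (hn : 1 ≤ n) (h0 : M.charpoly.coeff 0 ≠ 0) :
    IsUnit M ∧ M⁻¹.trace = M.charpoly.coeff 1 * (M.charpoly.coeff 0)⁻¹ := by
  haveI : Nonempty (Fin n) := ⟨⟨0, by omega⟩⟩
  have hdet : M.det = M.charpoly.coeff 0 := by
    rw [Matrix.det_eq_sign_charpoly_coeff, CharTwo.neg_eq, one_pow, one_mul]
  have hu : IsUnit M := (Matrix.isUnit_iff_isUnit_det M).2 (isUnit_iff_ne_zero.2 (by rw [hdet]; exact h0))
  refine ⟨hu, ?_⟩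
  have hk : M.charpolyRev.coeff (n - 1) = M.charpoly.coeff 1 := by
    rw [← Matrix.reverse_charpoly, coeff_reverse, Matrix.charpoly_natDegree_eq_dim, Fintype.card_fin,
      revAt_le (by omega), show n - (n - 1) = 1 by omega]
  rw [Matrix.trace_eq_neg_charpoly_coeff, CharTwo.neg_eq, Matrix.charpoly_inv _ hu, Ring.inverse_eq_inv',
    CharTwo.neg_eq, one_pow, one_mul, coeff_C_mul, Fintype.card_fin, hk, hdet, mul_comm]

/-- A form invariant under the standard element, of type given by `f`; both types for a simple zero root. -/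
theorem exists_forms {f : F[X]} {S T : Matrix (Fin n) (Fin n) F} (hS : Sᵀ = S) (hT : Tᵀ = T)
    (hf : (S * T).charpoly = f) (hSu : IsUnit S.det) (hn : 1 ≤ n) :
    (f.coeff 0 ≠ 0 → ∃ z, chi (q0 z) = chi (f.coeff 1 * (f.coeff 0)⁻¹) ∧
      ∀ v, qz z ((Matrix.fromBlocks 1 S 0 1 * Matrix.fromBlocks 1 0 T 1) *ᵥ v) = qz z v) ∧
    (f.coeff 0 = 0 → f.coeff 1 ≠ 0 → ∀ a, ∃ z, q0 z = a ∧
      ∀ v, qz z ((Matrix.fromBlocks 1 S 0 1 * Matrix.fromBlocks 1 0 T 1) *ᵥ v) = qz z v) := by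
  have hS' : (S⁻¹)ᵀ = S⁻¹ := by rw [Matrix.transpose_nonsing_inv, hS]
  set σ := rdiag S⁻¹
  have hσ : ∀ b, (σ ⬝ᵥ (S *ᵥ b)) ^ 2 = b ⬝ᵥ (S *ᵥ b) := fun b => by
    rw [rdiag_dot hS', Matrix.mulVec_mulVec, Matrix.nonsing_inv_mul _ hSu, Matrix.one_mulVec, dotProduct_comm]
  have hA : ∀ {τ : Fin n → F}, (∀ a, (τ ⬝ᵥ (T *ᵥ a)) ^ 2 = a ⬝ᵥ (T *ᵥ a)) → ∀ v,
      qz (zvec σ τ) ((Matrix.fromBlocks 1 S 0 1 * Matrix.fromBlocks 1 0 T 1) *ᵥ v) = qz (zvec σ τ) v :=
    fun {τ} hτ v => by rw [← Matrix.mulVec_mulVec, upper_invariant hσ, lower_invariant hτ]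
  constructor
  · intro h0
    rw [← hf] at h0 ⊢
    obtain ⟨hu, htr⟩ := trace_inv_eq hn h0
    have hTu : IsUnit T.det := by
      have := (Matrix.isUnit_iff_isUnit_det _).1 hu
      rw [Matrix.det_mul] at this
      exact (IsUnit.mul_iff.1 this).2
    have hT' : (T⁻¹)ᵀ = T⁻¹ := by rw [Matrix.transpose_nonsing_inv, hT]
    refine ⟨zvec σ (rdiag T⁻¹), ?_, hA fun a => ?_⟩
    · rw [← chi_sq (q0 _), q0_zvec, ← htr]
      congr 1
      rw [dotProduct, CharTwo.sum_sq, Matrix.mul_inv_rev, Matrix.trace]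
      simp only [σ, rdiag, mul_pow, rt_sq, Matrix.diag_apply, Matrix.mul_apply]
      rw [← Finset.sum_product']
      rw [← Finset.sum_filter_add_sum_filter_not ((Finset.univ : Finset (Fin n)) ×ˢ (Finset.univ : Finset (Fin n)))
        (fun p => p.1 = p.2)]
      have h0 : ∑ p ∈ ((Finset.univ : Finset (Fin n)) ×ˢ (Finset.univ : Finset (Fin n))).filter
          (fun p => ¬ p.1 = p.2), T⁻¹ p.1 p.2 * S⁻¹ p.2 p.1 = 0 := by
        refine Finset.sum_involution (fun p _ => p.swap) (fun p _ => ?_) (fun p hp _ h => ?_) (fun p hp => ?_)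
          (fun p _ => Prod.swap_swap p)
        · simp only [Prod.fst_swap, Prod.snd_swap, show T⁻¹ p.2 p.1 = T⁻¹ p.1 p.2 from congrFun (congrFun hT' p.1) p.2,
            show S⁻¹ p.2 p.1 = S⁻¹ p.1 p.2 from congrFun (congrFun hS' p.1) p.2]
          exact CharTwo.add_self_eq_zero _
        · exact (Finset.mem_filter.1 hp).2 (congrArg Prod.fst h).symm
        · simpa [eq_comm] using hp
      rw [h0, add_zero]
      refine Finset.sum_bij' (fun i _ => (i, i)) (fun p _ => p.1) (by simp) (by simp) (by simp) ?_ (fun i _ => rfl)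
      intro p hp
      exact Prod.ext rfl (Finset.mem_filter.1 hp).2
    · rw [rdiag_dot hT', Matrix.mulVec_mulVec, Matrix.nonsing_inv_mul _ hTu, Matrix.one_mulVec, dotProduct_comm]
  · intro h0 h1 a
    set M := S * T with hM
    rw [← hf] at h0 h1
    set φ := Matrix.toLin' M with hφ
    have hdim : finrank F ((End.genEigenspace φ 0) (2 : ℕ)) ≤ 1 := by
      refine (LinearMap.finrank_genEigenspace_le φ 0 2).trans ?_
      rw [hφ, Matrix.charpoly_toLin', Polynomial.rootMultiplicity_eq_natTrailingDegree', ]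
      exact natTrailingDegree_le_of_ne_zero h1
    have hgen : ∀ v, M *ᵥ (M *ᵥ v) = 0 → v ∈ (End.genEigenspace φ 0) (2 : ℕ) := fun v hv => by
      rw [End.mem_genEigenspace_nat, zero_smul, sub_zero, LinearMap.mem_ker, pow_two, Module.End.mul_apply]
      exact hv
    obtain ⟨k, hk0, hMk⟩ := Matrix.exists_mulVec_eq_zero_iff.2 (show M.det = 0 by
      rw [Matrix.det_eq_sign_charpoly_coeff, h0, mul_zero])
    have hTk : T *ᵥ k = 0 := by
      rw [← Matrix.one_mulVec (T *ᵥ k), ← Matrix.nonsing_inv_mul _ hSu, ← Matrix.mulVec_mulVec,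
        Matrix.mulVec_mulVec k S T, hMk, Matrix.mulVec_zero]
    have hline : ∀ v, M *ᵥ (M *ᵥ v) = 0 → ∃ c : F, c • k = v := fun v hv => by
      have hle : Submodule.span F {k} ≤ (End.genEigenspace φ 0) (2 : ℕ) :=
        (Submodule.span_singleton_le_iff_mem _ _).2 (hgen k (by rw [hMk, Matrix.mulVec_zero]))
      have heq := Submodule.eq_of_le_of_finrank_le hle (by rw [finrank_span_singleton hk0]; exact hdim)
      exact Submodule.mem_span_singleton.1 (heq ▸ hgen v hv)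
    obtain ⟨τ₀, hτ₀⟩ := exists_preimage hT (y := rdiag T) fun v hv => by
      rw [← sq_eq_zero_iff, rdiag_dot hT, hv, dotProduct_zero]
    have hσk : σ ⬝ᵥ k ≠ 0 := by
      intro h
      have hq : (S⁻¹ *ᵥ k) ⬝ᵥ k = 0 := by
        rw [dotProduct_comm, ← rdiag_dot hS', h, zero_pow two_ne_zero]
      obtain ⟨w, hw⟩ := exists_preimage hT (y := S⁻¹ *ᵥ k) fun v hv => by
        obtain ⟨c, rfl⟩ := hline v (by rw [hM, ← Matrix.mulVec_mulVec v S T, hv, Matrix.mulVec_zero,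
          Matrix.mulVec_zero])
        rw [dotProduct_smul, hq, smul_zero]
      have hMw : M *ᵥ w = k := by
        rw [hM, ← Matrix.mulVec_mulVec, hw, Matrix.mulVec_mulVec, Matrix.mul_nonsing_inv _ hSu, Matrix.one_mulVec]
      obtain ⟨c, rfl⟩ := hline w (by rw [hMw, hMk])
      rw [Matrix.mulVec_smul, hMk, smul_zero] at hMw
      exact hk0 hMw.symm
    set c : F := (a + τ₀ ⬝ᵥ σ) / (σ ⬝ᵥ k)
    refine ⟨zvec σ (τ₀ + c • k), ?_, hA fun b => ?_⟩
    · rw [q0_zvec, add_dotProduct, smul_dotProduct, dotProduct_comm k, smul_eq_mul, div_mul_cancel₀ _ hσk]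
      linear_combination CharTwo.add_self_eq_zero (τ₀ ⬝ᵥ σ)
    · rw [dot_symm hT, Matrix.mulVec_add, Matrix.mulVec_smul, hTk, smul_zero, add_zero, hτ₀, rdiag_dot hT]

end Cfsg.Agent.Lib.ClassNumber
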