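import Cfsg.Agent.Lib.ClassNumber.OrthTwoFamily

/-!
Class number bounds for orthogonal groups of even dimension in characteristic two.
-/

set_option autoImplicit false

namespace Cfsg.Agent.Lib.ClassNumber

open Polynomial Module Matrix
open scoped Classical Matrix
open Cfsg.Agent.Lib.Similarity (sympMap mem_symplecticGroup_iff)

variable {F : Type*} [Field F] [Fintype F] [CharP F 2]

theorem mpoly_coeff {n : ℕ} (c : Fin n → F) (i : Fin n) : (mpoly c).coeff (i : ℕ) = c i := by
  simp [mpoly, coeff_X_pow, finsetSum_coeff, i.isLt.ne, Fin.val_inj]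

/-- A representative of each admissible characteristic polynomial, with its forms. -/
theorem exists_family (k : ℕ) :
    ∃ el : (Fin (k + 2) → F) → Matrix.symplecticGroup (Fin (k + 2)) F,
      (∀ c c', ConjClasses.mk (el c) = ConjClasses.mk (el c') → c = c') ∧
      (∀ c, c 0 ≠ 0 → ∀ w, (el c : Matrix (Fin (k + 2) ⊕ Fin (k + 2)) (Fin (k + 2) ⊕ Fin (k + 2)) F) *ᵥ w = w →
        w = 0) ∧
      (∀ c, c 0 ≠ 0 → ∃ z, chi (q0 z) = chi (c 1 * (c 0)⁻¹) ∧ el c ∈ orthTwo z) ∧
      (∀ c, c 0 = 0 → c 1 ≠ 0 → ∀ a, ∃ z, q0 z = a ∧ el c ∈ orthTwo z) := by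
  choose S T hS hT hST hSu using fun c : Fin (k + 2) → F =>
    exists_symmetric_pair_unit (mpoly_monic c).1 (mpoly_monic c).2
  let el : (Fin (k + 2) → F) → Matrix.symplecticGroup (Fin (k + 2)) F := fun c =>
    ⟨_, Submonoid.mul_mem _ (unitriangular_mem_symplectic (hS c)).1 (unitriangular_mem_symplectic (hT c)).2⟩
  have hcp : ∀ c, (el c : Matrix (Fin (k + 2) ⊕ Fin (k + 2)) (Fin (k + 2) ⊕ Fin (k + 2)) F).charpoly =
      Lf (k + 2) (mpoly c) := fun c => by
    show (Matrix.fromBlocks 1 (S c) 0 1 * Matrix.fromBlocks 1 0 (T c) 1).charpoly = _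
    rw [charpoly_pair, hST]
    rfl
  have h0 : ∀ c : Fin (k + 2) → F, (mpoly c).coeff 0 = c 0 := fun c => mpoly_coeff c 0
  have h1 : ∀ c : Fin (k + 2) → F, (mpoly c).coeff 1 = c 1 := fun c => mpoly_coeff c 1
  refine ⟨el, fun c c' h => ?_, fun c hc w hw => ?_, fun c hc => ?_, fun c hc hc1 a => ?_⟩
  · obtain ⟨g, hg⟩ := isConj_iff.1 (ConjClasses.mk_eq_mk_iff_isConj.1 h)
    refine mpoly_injective (Lf_injective (mpoly_monic c).2.le (mpoly_monic c').2.le ?_)
    rw [← hcp, ← hcp]
    have hval := congrArg Subtype.val hg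
    simp only [Submonoid.coe_mul] at hval
    rw [← hval]
    let u : (Matrix (Fin (k + 2) ⊕ Fin (k + 2)) (Fin (k + 2) ⊕ Fin (k + 2)) F)ˣ :=
      ⟨g, (g⁻¹ : Matrix.symplecticGroup (Fin (k + 2)) F), by rw [← Submonoid.coe_mul, mul_inv_cancel]; rfl,
        by rw [← Submonoid.coe_mul, inv_mul_cancel]; rfl⟩
    show _ = ((u : Matrix (Fin (k + 2) ⊕ Fin (k + 2)) (Fin (k + 2) ⊕ Fin (k + 2)) F) * _ *
      ((u⁻¹ : (Matrix (Fin (k + 2) ⊕ Fin (k + 2)) (Fin (k + 2) ⊕ Fin (k + 2)) F)ˣ) :
        Matrix (Fin (k + 2) ⊕ Fin (k + 2)) (Fin (k + 2) ⊕ Fin (k + 2)) F)).charpoly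
    rw [Matrix.coe_units_inv, Matrix.charpoly_units_conj]
  · by_contra hw0
    apply hc
    rw [← h0 c, coeff_zero_eq_eval_zero, ← Lf_eval_one (n := k + 2), ← hcp, Matrix.eval_charpoly,
      ← Matrix.exists_mulVec_eq_zero_iff]
    exact ⟨w, hw0, by rw [Matrix.sub_mulVec, hw, map_one, Matrix.one_mulVec, sub_self]⟩
  · obtain ⟨z, hz, hinv⟩ := (exists_forms (hS c) (hT c) (hST c) (hSu c) (by omega)).1 (by rwa [h0])
    exact ⟨z, by rw [hz, h0, h1], hinv⟩
  · obtain ⟨z, hz, hinv⟩ := (exists_forms (hS c) (hT c) (hST c) (hSu c) (by omega)).2 (by rwa [h0]) (by rwa [h1]) a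
    exact ⟨z, hz, hinv⟩

theorem card_chi {e : ℤ} (he : e = 1 ∨ e = -1) :
    2 * ((Finset.univ : Finset F).filter fun t => chi t = e).card = Fintype.card F := by
  obtain ⟨δ, hδ⟩ := exists_not_inAS (F := F)
  have hd : chi δ = -1 := by rw [chi, if_neg hδ]
  have h : ((Finset.univ : Finset F).filter fun t => ¬ chi t = e).card =
      ((Finset.univ : Finset F).filter fun t => chi t = e).card := by
    refine Finset.card_equiv (Equiv.addRight δ) fun t => ?_
    simp only [Finset.mem_filter, Finset.mem_univ, true_and, Equiv.coe_addRight, chi_add, hd]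
    rcases he with rfl | rfl <;> rcases chi_eq_or t with h | h <;> rw [h] <;> norm_num
  have := Finset.card_filter_add_card_filter_not (s := (Finset.univ : Finset F)) (fun t => chi t = e)
  rw [h, Finset.card_univ] at this
  omega

/-- Coefficient vectors with prescribed first two entries. -/
theorem card_vectors (k : ℕ) (P : F → F → Prop) [∀ x y, Decidable (P x y)] :
    ((Finset.univ : Finset (Fin (k + 2) → F)).filter fun c => P (c 0) (c 1)).card =
      ((Finset.univ : Finset (F × F)).filter fun p => P p.1 p.2).card * Fintype.card F ^ k := by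
  let e : (Fin (k + 2) → F) ≃ (F × F) × (Fin k → F) :=
    { toFun := fun c => ((c 0, c 1), fun i => c i.succ.succ)
      invFun := fun p => Fin.cons p.1.1 (Fin.cons p.1.2 p.2)
      left_inv := fun c => by
        funext i
        refine Fin.cases ?_ (fun i => Fin.cases ?_ (fun i => ?_) i) i <;> simp
      right_inv := fun p => by simp }
  rw [Finset.card_equiv (t := ((Finset.univ : Finset (F × F)).filter fun p => P p.1 p.2) ×ˢ
    (Finset.univ : Finset (Fin k → F))) e (fun c => by simp [e]), Finset.card_product, Finset.card_univ,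
    Fintype.card_fun, Fintype.card_fin]

theorem card_regular (k : ℕ) {e : ℤ} (he : e = 1 ∨ e = -1) :
    2 * ((Finset.univ : Finset (Fin (k + 2) → F)).filter fun c => c 0 ≠ 0 ∧ chi (c 1 * (c 0)⁻¹) = e).card =
      (Fintype.card F - 1) * Fintype.card F * Fintype.card F ^ k := by
  have hv := card_vectors (F := F) k (fun x y => x ≠ 0 ∧ chi (y * x⁻¹) = e)
  beta_reduce at hv
  rw [hv,
    Finset.card_equiv (t := ((Finset.univ : Finset F).erase 0) ×ˢ ((Finset.univ : Finset F).filter fun t => chi t = e))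
      ({ toFun := fun p => (p.1, if p.1 = 0 then p.2 else p.2 * p.1⁻¹)
         invFun := fun p => (p.1, if p.1 = 0 then p.2 else p.2 * p.1)
         left_inv := fun p => by rcases p with ⟨x, y⟩; by_cases h : x = 0 <;> simp [h, mul_assoc]
         right_inv := fun p => by rcases p with ⟨x, y⟩; by_cases h : x = 0 <;> simp [h, mul_assoc] } : F × F ≃ F × F)
      (fun p => by by_cases h : p.1 = 0 <;> simp [h]),
    Finset.card_product, Finset.card_erase_of_mem (Finset.mem_univ _), Finset.card_univ]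
  have := card_chi (F := F) he
  rw [← mul_assoc, mul_left_comm 2, this]

theorem card_simple (k : ℕ) :
    ((Finset.univ : Finset (Fin (k + 2) → F)).filter fun c => c 0 = 0 ∧ c 1 ≠ 0).card =
      (Fintype.card F - 1) * Fintype.card F ^ k := by
  have hv := card_vectors (F := F) k (fun x y => x = 0 ∧ y ≠ 0)
  beta_reduce at hv
  rw [hv]
  congr 1
  rw [show ((Finset.univ : Finset (F × F)).filter fun p => p.1 = 0 ∧ p.2 ≠ 0) =
    {(0 : F)} ×ˢ ((Finset.univ : Finset F).erase 0) by ext ⟨x, y⟩; simp; tauto, Finset.card_product, Finset.card_singleton,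
    one_mul, Finset.card_erase_of_mem (Finset.mem_univ _), Finset.card_univ]

theorem orthTwo_bounds {n : ℕ} (hn : 2 ≤ n) (z : Fin n ⊕ Fin n → F) :
    Fintype.card F ^ n ≤ 2 * Nat.card (ConjClasses (orthTwo z)) ∧
      Nat.card (ConjClasses (orthTwo z)) ≤ 15 * Fintype.card F ^ n := by
  obtain ⟨k, rfl⟩ : ∃ k, n = k + 2 := ⟨n - 2, by omega⟩
  obtain ⟨el, hinj, hfix, hreg, hsimp⟩ := exists_family (F := F) k
  set q := Fintype.card F
  have hq : 2 ≤ q := Fintype.one_lt_card
  set ε := chi (q0 z) with hε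
  have hεor : ε = 1 ∨ ε = -1 := chi_eq_or _
  let R : ℤ → Finset (Fin (k + 2) → F) := fun e =>
    Finset.univ.filter fun c => c 0 ≠ 0 ∧ chi (c 1 * (c 0)⁻¹) = e
  let N : Finset (Fin (k + 2) → F) := Finset.univ.filter fun c => c 0 = 0 ∧ c 1 ≠ 0
  let Φ := ConjClasses.map (orthTwo z).subtype
  have hΦ : Function.Injective Φ := orthTwo_classes_injective z
  haveI : Finite (ConjClasses (orthTwo z)) := Finite.of_surjective _ ConjClasses.mk_surjective
  haveI : Finite (ConjClasses (Matrix.symplecticGroup (Fin (k + 2)) F)) :=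
    Finite.of_surjective _ ConjClasses.mk_surjective
  letI := Fintype.ofFinite (ConjClasses (orthTwo z))
  letI := Fintype.ofFinite (ConjClasses (Matrix.symplecticGroup (Fin (k + 2)) F))
  constructor
  · have hmove : ∀ c ∈ R ε ∪ N, ∃ d, Φ d = ConjClasses.mk (el c) := by
      intro c hc
      obtain ⟨z', hz', hmem⟩ : ∃ z', chi (q0 z') = ε ∧ el c ∈ orthTwo z' := by
        rcases Finset.mem_union.1 hc with h | h
        · obtain ⟨h0, h1⟩ := (Finset.mem_filter.1 h).2
          obtain ⟨z', hz', hm⟩ := hreg c h0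
          exact ⟨z', hz'.trans h1, hm⟩
        · obtain ⟨h0, h1⟩ := (Finset.mem_filter.1 h).2
          obtain ⟨z', hz', hm⟩ := hsimp c h0 h1 (q0 z)
          exact ⟨z', by rw [hz'], hm⟩
      obtain ⟨t, ht, htt, -⟩ := exists_transvection hz'
      have htinv : t⁻¹ = t := inv_eq_of_mul_eq_one_left htt
      have hm : t * el c * t ∈ orthTwo z := fun v => by
        rw [Submonoid.coe_mul, Submonoid.coe_mul, ← Matrix.mulVec_mulVec, ← Matrix.mulVec_mulVec, ← ht,
          Matrix.mulVec_mulVec _ _ (t : Matrix (Fin (k + 2) ⊕ Fin (k + 2)) (Fin (k + 2) ⊕ Fin (k + 2)) F),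
          ← Submonoid.coe_mul, htt, Submonoid.coe_one, Matrix.one_mulVec, hmem, ht]
      refine ⟨ConjClasses.mk ⟨_, hm⟩, ConjClasses.mk_eq_mk_iff_isConj.2 (isConj_iff.2 ⟨t, ?_⟩)⟩
      show t * (t * el c * t) * t⁻¹ = el c
      rw [htinv, ← mul_assoc t, ← mul_assoc t, htt, one_mul, mul_assoc, htt, mul_one]
    choose! d hd using hmove
    have hle : (R ε ∪ N).card ≤ Nat.card (ConjClasses (orthTwo z)) := by
      rw [Nat.card_eq_fintype_card, ← Finset.card_univ]
      refine Finset.card_le_card_of_injOn d (fun c _ => Finset.mem_univ _) fun c hc c' hc' h => hinj _ _ ?_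
      rw [← hd c (Finset.mem_coe.1 hc), ← hd c' (Finset.mem_coe.1 hc'), h]
    have hdisj : Disjoint (R ε) N := Finset.disjoint_left.2 fun c h h' =>
      (Finset.mem_filter.1 h).2.1 (Finset.mem_filter.1 h').2.1
    rw [Finset.card_union_of_disjoint hdisj] at hle
    have h1 : 2 * (R ε).card = (q - 1) * q * q ^ k := card_regular k hεor
    have h2 : N.card = (q - 1) * q ^ k := card_simple k
    have h3 : q ^ (k + 2) ≤ 2 * ((R ε).card + N.card) := by
      rw [mul_add, h1, h2]
      obtain ⟨r, hr⟩ : ∃ r, q = r + 2 := ⟨q - 2, by omega⟩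
      rw [hr, show r + 2 - 1 = r + 1 by omega, show (r + 2) ^ (k + 2) = (r + 2) ^ k * (r + 2) ^ 2 by ring,
        show (r + 1) * (r + 2) * (r + 2) ^ k + 2 * ((r + 1) * (r + 2) ^ k) =
          (r + 2) ^ k * ((r + 1) * (r + 4)) by ring]
      exact Nat.mul_le_mul_left _ (by ring_nf; omega)
    omega
  · have hwrong : ∀ c ∈ R (-ε), ConjClasses.mk (el c) ∉ Finset.univ.image Φ := by
      intro c hc h
      obtain ⟨h0, h1⟩ := (Finset.mem_filter.1 hc).2
      obtain ⟨d, -, hd⟩ := Finset.mem_image.1 h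
      obtain ⟨b, rfl⟩ := ConjClasses.exists_rep d
      obtain ⟨g, hg⟩ := isConj_iff.1 (ConjClasses.mk_eq_mk_iff_isConj.1 (hd.symm : ConjClasses.mk (el c) =
        ConjClasses.mk (b : Matrix.symplecticGroup (Fin (k + 2)) F)))
      rw [mul_inv_eq_iff_eq_mul] at hg
      rw [Subgroup.coe_subtype] at *
      obtain ⟨z', hz', hchi⟩ := exists_pullback z g
      obtain ⟨zc, hzc, hmem⟩ := hreg c h0
      have hinv : ∀ v, qz z' ((el c : Matrix (Fin (k + 2) ⊕ Fin (k + 2)) (Fin (k + 2) ⊕ Fin (k + 2)) F) *ᵥ v) =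
          qz z' v := fun v => by
        rw [← hz', Matrix.mulVec_mulVec, ← Submonoid.coe_mul, hg, Submonoid.coe_mul, ← Matrix.mulVec_mulVec,
          b.2, hz']
      have hw := hfix c h0 _ (fix_of_invariant (el c) hinv hmem)
      have e : z' = zc := by
        funext i
        have := congrFun hw i
        rw [Pi.add_apply, Pi.zero_apply, add_eq_zero_iff_eq_neg, CharTwo.neg_eq] at this
        exact this
      have hcontra : ε = -ε := by
        calc ε = chi (q0 z') := hchi
          _ = chi (q0 zc) := by rw [e]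
          _ = -ε := hzc.trans h1
      rcases hεor with h2 | h2 <;> rw [h2] at hcontra <;> norm_num at hcontra
    have hle : Nat.card (ConjClasses (orthTwo z)) + (R (-ε)).card ≤
        Nat.card (ConjClasses (Matrix.symplecticGroup (Fin (k + 2)) F)) := by
      rw [Nat.card_eq_fintype_card, Nat.card_eq_fintype_card, ← Finset.card_univ (α := ConjClasses (orthTwo z)),
        ← Finset.card_image_of_injective _ hΦ,
        ← Finset.card_image_of_injective (R (-ε)) (f := fun c => ConjClasses.mk (el c)) (fun c c' h => hinj c c' h),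
        ← Finset.card_union_of_disjoint]
      · exact Finset.card_le_univ _
      · rw [Finset.disjoint_right]
        intro x hx h
        obtain ⟨c, hc, rfl⟩ := Finset.mem_image.1 hx
        exact hwrong c hc h
    have h1 : 2 * (R (-ε)).card = (q - 1) * q * q ^ k :=
      card_regular k (by rcases hεor with h | h <;> rw [h] <;> norm_num)
    have h2 : 5 * Nat.card (ConjClasses (Matrix.symplecticGroup (Fin (k + 2)) F)) ≤ 76 * q ^ (k + 2) :=
      symp_upper_two (k + 2)
    have h3 : 2 * q ^ (k + 2) ≤ 5 * ((q - 1) * q * q ^ k) := by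
      rw [pow_add, show q ^ k * q ^ 2 = q * q * q ^ k by ring, ← mul_assoc, ← mul_assoc, ← mul_assoc,
        ← mul_assoc]
      exact Nat.mul_le_mul_right _ (Nat.mul_le_mul_right _ (by omega))
    omega

/-- Class numbers through a symplectic change of coordinates. -/
theorem isometryGroup_bounds_two {n : ℕ} (hn : 2 ≤ n) {ι : Type} [Fintype ι] [DecidableEq ι]
    (Q : (ι → F) → F) (e : (ι → F) ≃ₗ[F] (Fin n ⊕ Fin n → F))
    (hadd : ∀ x y, Q (x + y) = Q x + Q y + sympMap n F (e x) (e y))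
    (hsmul : ∀ (c : F) x, Q (c • x) = c ^ 2 * Q x) :
    Fintype.card F ^ n ≤ 2 * Nat.card (ConjClasses ↥(Cfsg.isometryGroup F Q)) ∧
      Nat.card (ConjClasses ↥(Cfsg.isometryGroup F Q)) ≤ 15 * Fintype.card F ^ n := by
  obtain ⟨z, hz⟩ := exists_qz (fun v => Q (e.symm v)) (fun x y => by simp [hadd]) (fun c x => by simp [hsmul])
  let lin : ↥(Cfsg.isometryGroup F Q) → ((Fin n ⊕ Fin n → F) →ₗ[F] (Fin n ⊕ Fin n → F)) := fun a =>
    (e.toLinearMap.comp (Matrix.toLin' ((a : GL ι F) : Matrix ι ι F))).comp e.symm.toLinearMap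
  have hlin : ∀ a v, lin a v = e (((a : GL ι F) : Matrix ι ι F) *ᵥ e.symm v) := fun a v => rfl
  have hpres : ∀ (a : ↥(Cfsg.isometryGroup F Q)) x, Q (((a : GL ι F) : Matrix ι ι F) *ᵥ x) = Q x :=
    fun a x => a.2 x x
  have hiso : ∀ a x y, sympMap n F (lin a x) (lin a y) = sympMap n F x y := fun a x y => by
    have h := hadd (((a : GL ι F) : Matrix ι ι F) *ᵥ e.symm x) (((a : GL ι F) : Matrix ι ι F) *ᵥ e.symm y)
    rw [← Matrix.mulVec_add, hpres, hpres, hpres, hadd, e.apply_symm_apply, e.apply_symm_apply,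
      add_right_inj] at h
    rw [hlin, hlin, h]
  have hmem : ∀ a, LinearMap.toMatrix' (lin a) ∈ Matrix.symplecticGroup (Fin n) F := fun a =>
    (mem_symplecticGroup_iff _).2 fun x y => by
      rw [LinearMap.toMatrix'_mulVec, LinearMap.toMatrix'_mulVec, hiso]
  have horth : ∀ a, (⟨_, hmem a⟩ : Matrix.symplecticGroup (Fin n) F) ∈ orthTwo z := fun a v => by
    rw [LinearMap.toMatrix'_mulVec, ← hz, ← hz, hlin, e.symm_apply_apply, hpres]
  let φ : ↥(Cfsg.isometryGroup F Q) →* ↥(orthTwo z) :=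
    MonoidHom.mk' (fun a => ⟨_, horth a⟩) fun a b => by
      refine Subtype.ext (Subtype.ext ?_)
      show LinearMap.toMatrix' (lin (a * b)) = LinearMap.toMatrix' (lin a) * LinearMap.toMatrix' (lin b)
      rw [← LinearMap.toMatrix'_comp]
      congr 1
      refine LinearMap.ext fun v => ?_
      show lin (a * b) v = lin a (lin b v)
      rw [hlin, hlin, hlin, e.symm_apply_apply, Matrix.mulVec_mulVec]
      rfl
  have hφ : Function.Bijective φ := by
    constructor
    · intro a b hab
      have h : lin a = lin b := LinearMap.toMatrix'.injective (congrArg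
        (fun x : ↥(orthTwo z) => ((x : Matrix.symplecticGroup (Fin n) F) :
          Matrix (Fin n ⊕ Fin n) (Fin n ⊕ Fin n) F)) hab)
      refine Subtype.ext (Units.ext (Matrix.toLin'.injective (LinearMap.ext fun x => ?_)))
      have := LinearMap.congr_fun h (e x)
      rw [hlin, hlin, e.symm_apply_apply, e.injective.eq_iff] at this
      exact this
    · intro g
      let M : Matrix.symplecticGroup (Fin n) F → Matrix ι ι F := fun g => LinearMap.toMatrix'
        ((e.symm.toLinearMap.comp (Matrix.toLin'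
          (g : Matrix (Fin n ⊕ Fin n) (Fin n ⊕ Fin n) F))).comp e.toLinearMap)
      have hM : ∀ g x, M g *ᵥ x = e.symm ((g : Matrix (Fin n ⊕ Fin n) (Fin n ⊕ Fin n) F) *ᵥ e x) := fun g x =>
        LinearMap.toMatrix'_mulVec _ _
      have hMM : ∀ g h, g * h = 1 → M g * M h = 1 := fun g h hgh =>
        Matrix.ext_of_mulVec_single fun i => by
          rw [← Matrix.mulVec_mulVec, hM, hM, e.apply_symm_apply, Matrix.mulVec_mulVec, ← Submonoid.coe_mul, hgh,
            Submonoid.coe_one, Matrix.one_mulVec, e.symm_apply_apply, Matrix.one_mulVec]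
      let u : GL ι F := ⟨M g.1, M g.1⁻¹, hMM _ _ (mul_inv_cancel _), hMM _ _ (inv_mul_cancel _)⟩
      have hu : u ∈ Cfsg.isometryGroup F Q := fun v w => by
        show Q (M g.1 *ᵥ v) = Q v
        rw [hM, hz, g.2, ← hz, e.symm_apply_apply]
      refine ⟨⟨u, hu⟩, Subtype.ext (Subtype.ext (Matrix.toLin'.injective (LinearMap.ext fun v => ?_)))⟩
      show LinearMap.toMatrix' (lin ⟨u, hu⟩) *ᵥ v = _
      rw [LinearMap.toMatrix'_mulVec, hlin]
      show e (M g.1 *ᵥ e.symm v) = _
      rw [hM, e.apply_symm_apply, e.apply_symm_apply]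
      rfl
  have hc : Nat.card (ConjClasses ↥(Cfsg.isometryGroup F Q)) = Nat.card (ConjClasses (orthTwo z)) := by
    let E := MulEquiv.ofBijective φ hφ
    refine Nat.card_eq_of_bijective (ConjClasses.map E.toMonoidHom) ⟨?_, ConjClasses.map_surjective hφ.2⟩
    intro c d h
    obtain ⟨a, rfl⟩ := ConjClasses.exists_rep c
    obtain ⟨b, rfl⟩ := ConjClasses.exists_rep d
    obtain ⟨g, hg⟩ := isConj_iff.1 (ConjClasses.mk_eq_mk_iff_isConj.1 h)
    refine ConjClasses.mk_eq_mk_iff_isConj.2 (isConj_iff.2 ⟨E.symm g, E.injective ?_⟩)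
    simpa using hg
  rw [hc]
  exact orthTwo_bounds hn z

theorem plus_bounds_two {n : ℕ} (hn : 2 ≤ n) :
    Fintype.card F ^ n ≤ 2 * Nat.card (ConjClasses ↥(Cfsg.isometryGroup F (Cfsg.quadFormPlus n F))) ∧
      Nat.card (ConjClasses ↥(Cfsg.isometryGroup F (Cfsg.quadFormPlus n F))) ≤ 15 * Fintype.card F ^ n :=
  isometryGroup_bounds_two hn _ (LinearEquiv.refl F _) q0_add q0_smul

theorem minus_bounds_two {m : ℕ} (hm : 1 ≤ m) (a b : F)
    (hab : ∀ z₁ z₂ : F, z₁ ^ 2 + a * z₁ * z₂ + b * z₂ ^ 2 = 0 → z₁ = 0 ∧ z₂ = 0) :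
    Fintype.card F ^ (m + 1) ≤ 2 * Nat.card (ConjClasses ↥(Cfsg.isometryGroup F (Cfsg.quadFormMinus m F a b))) ∧
      Nat.card (ConjClasses ↥(Cfsg.isometryGroup F (Cfsg.quadFormMinus m F a b))) ≤
        15 * Fintype.card F ^ (m + 1) := by
  have ha : a ≠ 0 := fun h => one_ne_zero (hab (rt b) 1 (by
    rw [rt_sq, h]
    linear_combination CharTwo.add_self_eq_zero b)).2
  let e : ((Fin m ⊕ Fin m) ⊕ Fin 2 → F) ≃ₗ[F] (Fin (m + 1) ⊕ Fin (m + 1) → F) :=
    { toFun := fun v => Sum.elim (Fin.snoc (fun i => v (.inl (.inl i))) (v (.inr 0)))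
        (Fin.snoc (fun i => v (.inl (.inr i))) (a * v (.inr 1)))
      map_add' := fun x y => by
        funext i
        rcases i with i | i <;> refine Fin.lastCases ?_ (fun i => ?_) i <;> simp [mul_add]
      map_smul' := fun c x => by
        funext i
        rcases i with i | i <;> refine Fin.lastCases ?_ (fun i => ?_) i <;> simp [mul_left_comm]
      invFun := fun w => Sum.elim (Sum.elim (fun i => w (.inl i.castSucc)) (fun i => w (.inr i.castSucc)))
        ![w (.inl (Fin.last m)), w (.inr (Fin.last m)) / a]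
      left_inv := fun v => by
        funext i
        rcases i with (i | i) | i
        · simp
        · simp
        · fin_cases i <;> simp [ha]
      right_inv := fun w => by
        funext i
        rcases i with i | i <;> refine Fin.lastCases ?_ (fun i => ?_) i <;> simp [mul_div_cancel₀ _ ha] }
  refine isometryGroup_bounds_two (by omega) _ e (fun x y => ?_) (fun c x => ?_)
  · rw [sympMap_eq, Fin.sum_univ_castSucc]
    simp only [e, LinearEquiv.coe_mk, LinearMap.coe_mk, AddHom.coe_mk, Sum.elim_inl, Sum.elim_inr,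
      Fin.snoc_castSucc, Fin.snoc_last, Cfsg.quadFormMinus, Pi.add_apply, add_mul, mul_add,
      Finset.sum_add_distrib, CharTwo.add_sq, mul_comm]
    ring
  · simp only [Cfsg.quadFormMinus, Pi.smul_apply, smul_eq_mul, mul_add, Finset.mul_sum]
    congr 1
    · exact Finset.sum_congr rfl fun i _ => by ring
    · ring

end Cfsg.Agent.Lib.ClassNumber
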