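import Cfsg.Agent.Lib.ClassNumber.Recip

/-!
Counting self-reciprocal polynomials prime to `X² - 1`, and summation bounds for weighted tuples.
-/

set_option autoImplicit false

namespace Cfsg.Agent.Lib.ClassNumber

open Polynomial

variable {F : Type*} [Field F]

/-- The number of monic polynomials of degree `d` without roots `±2`. -/
def palNum (q : ℕ) : ℕ → ℕ
  | 0 => 1
  | 1 => q - 2
  | d + 2 => (q - 1) ^ 2 * q ^ d

theorem srp_id (r : F[X]) : srp (RingHom.id F) r = C (r.coeff 0)⁻¹ * r.reverse := by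
  rw [srp, Polynomial.map_id]; rfl

/-- Palindromes are combinations of the `X ^ (d - i) * (X ^ 2 + 1) ^ i`. -/
theorem exists_pal_coeffs : ∀ (d : ℕ) (h : F[X]), h.natDegree ≤ 2 * d →
    (∀ k ≤ 2 * d, h.coeff k = h.coeff (2 * d - k)) →
    ∃ c : ℕ → F, h = ∑ i ∈ Finset.range (d + 1), C (c i) * X ^ (d - i) * (X ^ 2 + 1) ^ i := by
  intro d
  induction d with
  | zero =>
    intro h hd _
    exact ⟨fun _ => h.coeff 0, by simpa using eq_C_of_natDegree_le_zero (by simpa using hd)⟩
  | succ d ih =>
    intro h hd hsym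
    set c₀ := h.coeff 0
    set e := h - C c₀ * (X ^ 2 + 1) ^ (d + 1) with he
    have hpd : ((X : F[X]) ^ 2 + 1).natDegree = 2 := by
      rw [← C_1, natDegree_X_pow_add_C]
    have hed : e.natDegree ≤ 2 * (d + 1) :=
      (natDegree_sub_le _ _).trans (max_le hd ((natDegree_C_mul_le _ _).trans (by
        rw [natDegree_pow, hpd]; omega)))
    have hrev : ((X : F[X]) ^ 2 + 1).reverse = X ^ 2 + 1 := by
      rw [reverse, hpd, reflect_add, ← one_mul ((X : F[X]) ^ 2), ← C_1, reflect_C_mul_X_pow, reflect_C,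
        revAt_le le_rfl, Nat.sub_self, pow_zero, C_1]
      ring
    have hrev' : ∀ m, (((X : F[X]) ^ 2 + 1) ^ m).reverse = (X ^ 2 + 1) ^ m := by
      intro m
      induction m with
      | zero => simp [reverse]
      | succ m ihm => rw [pow_succ, reverse_mul_of_domain, ihm, hrev]
    have hesym : ∀ k ≤ 2 * (d + 1), e.coeff k = e.coeff (2 * (d + 1) - k) := by
      intro k hk
      rw [he, coeff_sub, coeff_sub, hsym k hk, coeff_C_mul, coeff_C_mul]
      congr 2
      conv_lhs => rw [← hrev' (d + 1), coeff_reverse, natDegree_pow, hpd, mul_comm (d + 1) 2, revAt_le hk]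
    have he0 : e.coeff 0 = 0 := by
      rw [he, coeff_sub, coeff_C_mul, coeff_zero_eq_eval_zero (((X : F[X]) ^ 2 + 1) ^ (d + 1))]
      simp [c₀]
    have hdiv : X * e.divX = e := by
      conv_rhs => rw [← X_mul_divX_add e, he0, C_0, add_zero]
    have hd1 : ∀ k, e.divX.coeff k = e.coeff (k + 1) := fun k => coeff_divX
    obtain ⟨c, hc⟩ := ih e.divX (by
        rw [natDegree_le_iff_coeff_eq_zero]
        intro N hN
        rw [hd1]
        rcases Nat.lt_or_ge (2 * (d + 1)) (N + 1) with h1 | h1
        · exact coeff_eq_zero_of_natDegree_lt (lt_of_le_of_lt hed h1)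
        · rw [hesym _ h1, show 2 * (d + 1) - (N + 1) = 0 by omega, he0])
      (fun k hk => by
        rw [hd1, hd1, hesym (k + 1) (by omega)]
        congr 1
        omega)
    refine ⟨fun i => if i = d + 1 then c₀ else c i, ?_⟩
    simp only [Finset.sum_range_succ _ (d + 1), ↓reduceIte, Nat.sub_self, pow_zero, mul_one]
    have hsum : ∑ i ∈ Finset.range (d + 1),
        C (if i = d + 1 then c₀ else c i) * X ^ (d + 1 - i) * ((X : F[X]) ^ 2 + 1) ^ i = e := by
      rw [← hdiv, hc, Finset.mul_sum]
      refine Finset.sum_congr rfl fun i hi => ?_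
      rw [Finset.mem_range] at hi
      rw [if_neg (by omega), show d + 1 - i = (d - i) + 1 by omega, pow_succ]
      ring
    rw [hsum, he, sub_add_cancel]

/-- The palindrome with given coefficient vector. -/
noncomputable def palPoly (d : ℕ) (c : Fin d → F) : F[X] :=
  (X ^ 2 + 1) ^ d + ∑ i : Fin d, C (c i) * X ^ (d - i) * (X ^ 2 + 1) ^ (i : ℕ)

theorem eval_palPoly (d : ℕ) (c : Fin d → F) {e : F} (he : e * e = 1) :
    (palPoly d c).eval e = e ^ d * ((2 * e) ^ d + ∑ i : Fin d, c i * (2 * e) ^ (i : ℕ)) := by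
  have h2 : e ^ 2 + 1 = 2 := by rw [pow_two, he]; norm_num
  simp only [palPoly, eval_add, eval_pow, eval_X, eval_one, eval_finsetSum, eval_mul, eval_C, h2]
  rw [mul_add, ← mul_pow, show e * (2 * e) = 2 by linear_combination (2 : F) * he, Finset.mul_sum]
  congr 1
  refine Finset.sum_congr rfl fun i _ => ?_
  have h3 : e ^ d = e ^ (d - i) * e ^ (i : ℕ) := by
    rw [← pow_add, Nat.sub_add_cancel i.isLt.le]
  rw [mul_pow, h3]
  have h4 : e ^ (i : ℕ) * e ^ (i : ℕ) = 1 := by rw [← mul_pow, he, one_pow]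
  linear_combination (-(c i * e ^ (d - i) * 2 ^ (i : ℕ))) * h4

variable (F) [Fintype F]

open Classical in
/-- Self-reciprocal monic polynomials of degree `2 d` prime to `X² - 1`. -/
noncomputable def pal (d : ℕ) : Finset F[X] :=
  ((Finset.univ : Finset (Fin d → F)).filter fun c =>
    (palPoly d c).eval 1 ≠ 0 ∧ (palPoly d c).eval (-1) ≠ 0).image (palPoly d)

variable {F}

theorem mem_pal (h2 : (2 : F) ≠ 0) {h : F[X]} (hm : h.Monic) (h0 : h.coeff 0 ≠ 0)
    (hs : srp (RingHom.id F) h = h) (h1 : h.eval 1 ≠ 0) (h1' : h.eval (-1) ≠ 0) :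
    ∃ d, h.natDegree = 2 * d ∧ h ∈ pal F d := by
  classical
  have hrev : h.reverse = C (h.coeff 0) * h := by
    conv_rhs => arg 2; rw [← hs, srp_id]
    rw [← mul_assoc, ← C_mul, mul_inv_cancel₀ h0, C_1, one_mul]
  have e1 : h.coeff 0 = 1 := by
    have h5 := congrArg (eval 1) hrev
    haveI : Invertible (1 : F) := invertibleOne
    have e := eval₂_reverse_mul_pow (RingHom.id F) (1 : F) h
    rw [invOf_one, one_pow, mul_one, eval₂_id, eval₂_id] at e
    rw [e, eval_mul, eval_C] at h5
    exact (mul_eq_right₀ h1).1 h5.symm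
  rw [e1, C_1, one_mul] at hrev
  obtain ⟨d, hd⟩ : Even h.natDegree := by
    rw [← Nat.not_odd_iff_even]
    intro ho
    haveI : Invertible (-1 : F) := invertibleOfNonzero (neg_ne_zero.2 one_ne_zero)
    have e := eval₂_reverse_mul_pow (RingHom.id F) (-1 : F) h
    rw [show ⅟(-1 : F) = -1 by simp [invOf_eq_inv, inv_neg], hrev, eval₂_id, ho.neg_one_pow] at e
    exact h1' ((mul_eq_zero.1 (show (2 : F) * h.eval (-1) = 0 by linear_combination (-1 : F) * e)).resolve_left h2)
  refine ⟨d, by omega, ?_⟩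
  have hd' : h.natDegree = 2 * d := by omega
  have hsym : ∀ k ≤ 2 * d, h.coeff k = h.coeff (2 * d - k) := fun k hk => by
    conv_lhs => rw [← hrev, coeff_reverse, hd', revAt_le hk]
  obtain ⟨c, hc⟩ := exists_pal_coeffs d h hd'.le hsym
  have hcd : c d = 1 := by
    rw [← e1, coeff_zero_eq_eval_zero, hc]
    simp only [eval_finsetSum, eval_mul, eval_pow, eval_add, eval_X, eval_one, eval_C]
    rw [Finset.sum_range_succ, Finset.sum_eq_zero fun i hi => ?_]
    · simp
    · rw [Finset.mem_range] at hi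
      rw [zero_pow (by omega : d - i ≠ 0)]
      ring
  have hP : palPoly d (fun i => c i) = h := by
    rw [hc, Finset.sum_range_succ, hcd, Nat.sub_self, pow_zero, C_1, one_mul, one_mul, palPoly,
      Fin.sum_univ_eq_sum_range (fun i => C (c i) * X ^ (d - i) * ((X : F[X]) ^ 2 + 1) ^ i), add_comm]
  exact Finset.mem_image.2 ⟨fun i => c i, Finset.mem_filter.2 ⟨Finset.mem_univ _, by rw [hP]; exact ⟨h1, h1'⟩⟩, hP⟩

theorem card_pal (h2 : (2 : F) ≠ 0) : ∀ d, (pal F d).card ≤ palNum (Fintype.card F) d := by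
  classical
  have h4 : (4 : F) ≠ 0 := by
    rw [show (4 : F) = 2 * 2 by norm_num]; exact mul_ne_zero h2 h2
  have hev : ∀ (d : ℕ) (c : Fin d → F) (e : F), e * e = 1 → (palPoly d c).eval e ≠ 0 →
      (2 * e) ^ d + ∑ i : Fin d, c i * (2 * e) ^ (i : ℕ) ≠ 0 := fun d c e he h h' =>
    h (by rw [eval_palPoly d c he, h', mul_zero])
  intro d
  refine Finset.card_image_le.trans ?_
  rcases d with _ | _ | d
  · refine (Finset.card_filter_le _ _).trans ?_
    simp [palNum]
  · refine (Finset.card_le_card_of_injOn (fun c => c 0)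
      (t := (Finset.univ : Finset F) \ {-2, 2}) ?_ ?_).trans ?_
    · intro c hc
      rw [Finset.mem_coe, Finset.mem_filter] at hc
      have a1 := hev 1 c 1 (one_mul 1) hc.2.1
      have a2 := hev 1 c (-1) (by ring) hc.2.2
      simp only [Fin.sum_univ_one, Fin.val_zero, pow_one, pow_zero, mul_one] at a1 a2
      simp only [Finset.coe_sdiff, Set.mem_sdiff, Finset.mem_coe, Finset.mem_univ, true_and,
        Finset.mem_insert, Finset.mem_singleton, not_or]
      exact ⟨fun h => a1 (by rw [h]; ring), fun h => a2 (by rw [h]; ring)⟩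
    · intro a _ b _ h
      exact funext fun i => by rw [Fin.fin_one_eq_zero i]; exact h
    · have hne : (-2 : F) ≠ 2 := fun h => h4 (by linear_combination (-1 : F) * h)
      rw [Finset.card_sdiff_of_subset (Finset.subset_univ _), Finset.card_pair hne, Finset.card_univ]
      exact le_rfl
  · let v : (Fin (d + 2) → F) → F → F := fun c e => (2 * e) ^ (d + 2) + ∑ i, c i * (2 * e) ^ (i : ℕ)
    refine (Finset.card_le_card_of_injOn (fun c => ((v c 1, v c (-1)), fun i : Fin d => c i.succ.succ))
      (t := (((Finset.univ : Finset F).erase 0) ×ˢ ((Finset.univ : Finset F).erase 0)) ×ˢ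
        (Finset.univ : Finset (Fin d → F))) ?_ ?_).trans ?_
    · intro c hc
      rw [Finset.mem_coe, Finset.mem_filter] at hc
      simp only [Finset.coe_product, Set.mem_prod, Finset.mem_coe, Finset.mem_erase, Finset.mem_univ,
        and_true]
      exact ⟨hev _ c 1 (one_mul 1) hc.2.1, hev _ c (-1) (by ring) hc.2.2⟩
    · intro a _ b _ h
      obtain ⟨⟨e1, e2⟩, e3⟩ := (by simpa only [Prod.mk.injEq] using h :
        (v a 1 = v b 1 ∧ v a (-1) = v b (-1)) ∧ (fun i : Fin d => a i.succ.succ) = fun i => b i.succ.succ)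
      have es : ∀ i : Fin d, a i.succ.succ = b i.succ.succ := fun i => congrFun e3 i
      simp only [v, Fin.sum_univ_succ, es, Fin.val_zero, Fin.val_succ, pow_zero, pow_one, zero_add,
        mul_one] at e1 e2
      have hb : a 1 = b 1 := by
        apply mul_left_cancel₀ h4
        have : a (Fin.succ 0) = a 1 := rfl
        have : b (Fin.succ 0) = b 1 := rfl
        simp only [Fin.succ_zero_eq_one] at e1 e2
        linear_combination e1 - e2
      have ha : a 0 = b 0 := by
        simp only [Fin.succ_zero_eq_one] at e1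
        linear_combination e1 - (2 : F) * hb
      funext i
      refine Fin.cases ha (fun i => ?_) i
      exact Fin.cases hb es i
    · rw [Finset.card_product, Finset.card_product, Finset.card_erase_of_mem (Finset.mem_univ _),
        Finset.card_univ, Finset.card_univ, Fintype.card_fun, Fintype.card_fin, palNum, pow_two]

/-- Partial sums of the generating series of `palNum`. -/
theorem sum_palNum_le {q : ℕ} (hq : 3 ≤ q) {y : ℚ} (hy : 0 ≤ y) (hqy : (q : ℚ) * y < 1) (M : ℕ) :
    ∑ d ∈ Finset.range M, (palNum q d : ℚ) * y ^ d ≤ (1 - y) ^ 2 / (1 - q * y) := by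
  rw [le_div_iff₀ (by linarith)]
  have hq1 : ((q - 1 : ℕ) : ℚ) = q - 1 := by rw [Nat.cast_sub (by omega)]; norm_num
  have hq2 : ((q - 2 : ℕ) : ℚ) = q - 2 := by rw [Nat.cast_sub (by omega)]; norm_num
  have hq3 : (3 : ℚ) ≤ q := by exact_mod_cast hq
  have key : ∀ k, (∑ d ∈ Finset.range (k + 2), (palNum q d : ℚ) * y ^ d) * (1 - q * y) =
      (1 - y) ^ 2 - ((q : ℚ) - 1) ^ 2 * (q : ℚ) ^ k * y ^ (k + 2) := by
    intro k
    induction k with
    | zero =>
      simp only [zero_add, Finset.sum_range_succ, Finset.sum_range_zero, palNum, hq2]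
      push_cast
      ring
    | succ k ih =>
      rw [show k + 1 + 2 = (k + 2) + 1 from rfl, Finset.sum_range_succ, add_mul, ih, palNum]
      push_cast [hq1]
      ring
  have hpos : ∀ d, 0 ≤ (palNum q d : ℚ) * y ^ d := fun d => by positivity
  have hmono : ∑ d ∈ Finset.range M, (palNum q d : ℚ) * y ^ d ≤
      ∑ d ∈ Finset.range (M + 2), (palNum q d : ℚ) * y ^ d :=
    Finset.sum_le_sum_of_subset_of_nonneg (by simp) fun d _ _ => hpos d
  have h3 := key M
  have h4 : 0 ≤ ((q : ℚ) - 1) ^ 2 * (q : ℚ) ^ M * y ^ (M + 2) := by positivity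
  nlinarith [mul_le_mul_of_nonneg_right hmono (show 0 ≤ 1 - (q : ℚ) * y by linarith)]

/-- Two independent non-negative counters and a palindrome, of given total. -/
theorem sum_palNum_conv {q : ℕ} (hq : 3 ≤ q) :
    ∀ s : ℕ, ∑ d ∈ Finset.range (s + 1), (s + 1 - d) * palNum q d = q ^ s := by
  have hU : ∀ s : ℕ, ∑ d ∈ Finset.range (s + 2), (palNum q d : ℤ) = (q : ℤ) ^ (s + 1) - (q : ℤ) ^ s := by
    intro s
    induction s with
    | zero =>
      simp only [zero_add, Finset.sum_range_succ, Finset.sum_range_zero, palNum]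
      rw [Nat.cast_sub (show 2 ≤ q by omega)]
      push_cast
      ring
    | succ s ih =>
      rw [show s + 1 + 2 = (s + 2) + 1 from rfl, Finset.sum_range_succ, ih, palNum]
      push_cast
      rw [Nat.cast_sub (show 1 ≤ q by omega)]
      push_cast
      ring
  intro s
  induction s with
  | zero => simp [palNum]
  | succ s ih =>
    have h : ∑ d ∈ Finset.range (s + 2), (s + 1 + 1 - d) * palNum q d =
        ∑ d ∈ Finset.range (s + 2), ((s + 1 - d) * palNum q d + palNum q d) :=
      Finset.sum_congr rfl fun d hd => by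
        rw [Finset.mem_range] at hd
        rw [show s + 1 + 1 - d = (s + 1 - d) + 1 by omega]
        ring
    rw [show s + 1 + 1 = s + 2 from rfl] at h ⊢
    rw [h, Finset.sum_add_distrib, Finset.sum_range_succ (fun d => (s + 1 - d) * palNum q d), ih,
      Nat.sub_self, zero_mul, add_zero]
    have h1 := hU s
    zify
    rw [h1]
    ring

end Cfsg.Agent.Lib.ClassNumber
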