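import Cfsg.Agent.Lib.ClassNumber.Space

/-!
Homogeneous pieces: non-degenerate subspaces generated by one or two vectors, their uniqueness given
the top values of the form, and their kernel dimensions.
-/

set_option autoImplicit false

namespace Cfsg.Agent.Lib.ClassNumber

open Polynomial Module Cfsg.Agent.Lib.Similarity

universe u v

variable {F : Type v} [Field F]

/-- The shape of a piece. -/
structure PData (θ : F →+* F) (ι : Type) where
  π : ι → ι
  ππ : ∀ i, π (π i) = i
  r : ι → F[X]
  t : ι → F[X]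
  f : F[X]
  Xi : F[X]
  j : ℕ
  hj : 1 ≤ j
  r_irr : ∀ i, Irreducible (r i)
  r_monic : ∀ i, (r i).Monic
  f_monic : f.Monic
  f0 : f.coeff 0 ≠ 0
  f_srp : srp θ f = f
  r_dvd : ∀ i, r i ∣ f
  ht : ∀ i, r i ^ j ∣ f * t i - r i
  hπ : ∀ i, srp θ (r (π i)) = r i
  hXi : f ^ j ∣ X * Xi - 1

variable {θ : F →+* F} {η : F} {ι : Type} [Fintype ι]

namespace PData

variable (D : PData θ ι)

/-- `f ^ (j - 1)`. -/
noncomputable def g : F[X] := D.f ^ (D.j - 1)

omit [Fintype ι] in
theorem g_srp : srp θ D.g = D.g := by rw [g, srp_pow, D.f_srp]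

omit [Fintype ι] in
theorem g0 : D.g.coeff 0 ≠ 0 := by
  rw [g, coeff_zero_eq_eval_zero, eval_pow, ← coeff_zero_eq_eval_zero]
  exact pow_ne_zero _ D.f0

omit [Fintype ι] in
theorem f_mul_g : D.f * D.g = D.f ^ D.j := by
  rw [g, ← pow_succ', Nat.sub_add_cancel D.hj]

omit [Fintype ι] in
theorem r0 (i : ι) : (D.r i).coeff 0 ≠ 0 := coeff_zero_ne_of_dvd (D.r_dvd i) D.f0

omit [Fintype ι] in
theorem pow_t (i : ι) (k : ℕ) : D.r i ^ D.j ∣ D.f ^ k * D.t i ^ k - D.r i ^ k := by
  rw [← mul_pow]
  exact (D.ht i).trans (sub_dvd_pow_sub_pow _ _ k)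

omit [Fintype ι] in
theorem not_dvd_t (i : ι) (hj : 2 ≤ D.j) : ¬ D.r i ∣ D.t i := by
  intro h
  have h1 : D.r i ^ 2 ∣ D.f * D.t i - D.r i := (pow_dvd_pow _ hj).trans (D.ht i)
  have h2 : D.r i ^ 2 ∣ D.f * D.t i := by rw [pow_two]; exact mul_dvd_mul (D.r_dvd i) h
  have h3 : D.r i ^ 2 ∣ D.r i := by
    have := dvd_sub h2 h1
    rwa [sub_sub_cancel] at this
  have h4 := natDegree_le_of_dvd h3 (D.r_irr i).ne_zero
  rw [natDegree_pow] at h4
  have := (D.r_irr i).natDegree_pos
  omega

omit [Fintype ι] in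
theorem rpow_dvd (i : ι) : D.r i ^ D.j ∣ D.f ^ D.j := pow_dvd_pow_of_dvd (D.r_dvd i) _

omit [Fintype ι] in
/-- Bars of elements prime to `r i` are prime to `r (π i)`. -/
theorem not_dvd_bar {i : ι} {a : F[X]} (ha : ¬ D.r i ∣ a) : ¬ D.r (D.π i) ∣ IForm.bar θ D.Xi a := by
  intro h
  obtain ⟨u, w, huw⟩ := (D.r_irr i).coprime_iff_not_dvd.2 ha
  have hr : D.r (D.π i) ∣ IForm.bar θ D.Xi (D.r i) := by
    haveI : Fact (Irreducible (D.r (D.π i))) := ⟨D.r_irr _⟩
    have hx : AdjoinRoot.root (D.r (D.π i)) * AdjoinRoot.mk (D.r (D.π i)) D.Xi = 1 := by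
      rw [← AdjoinRoot.mk_X, ← map_mul, ← (AdjoinRoot.mk (D.r (D.π i))).map_one]
      exact AdjoinRoot.mk_eq_mk.2 ((D.r_dvd _).trans ((dvd_pow_self _ (by have := D.hj; omega)).trans D.hXi))
    have hp : srp θ (D.r i) = D.r (D.π i) := by
      have := D.hπ (D.π i)
      rwa [D.ππ] at this
    rw [← AdjoinRoot.mk_eq_zero, IForm.bar, ← AdjoinRoot.aeval_eq, aeval_comp, AdjoinRoot.aeval_eq,
      aeval_inv_map (θ := θ) ((mul_comm _ _).trans hx) hx (D.r0 i), hp, AdjoinRoot.aeval_eq,
      AdjoinRoot.mk_self, zero_mul, smul_zero]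
  have h1 : D.r (D.π i) ∣ IForm.bar θ D.Xi (u * D.r i + w * a) := by
    simp only [IForm.bar, Polynomial.map_add, Polynomial.map_mul, add_comp, mul_comp] at h hr ⊢
    exact dvd_add (dvd_mul_of_dvd_right hr _) (dvd_mul_of_dvd_right h _)
  rw [huw] at h1
  simp only [IForm.bar, Polynomial.map_one, one_comp] at h1
  exact (D.r_irr _).not_isUnit (isUnit_of_dvd_one h1)

variable {V : Type u} [AddCommGroup V] [Module F V] (T : IForm θ η V)

/-- The top values of the form on a family of vectors. -/
noncomputable def top (v : ι → V) (k i : ι) : F[X] →ₗ[F] F where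
  toFun p := T.B (T.op p (v k)) (T.op D.g (v i))
  map_add' p q := by rw [T.op_add_apply, T.add_left]
  map_smul' c p := by
    rw [smul_eq_C_mul, T.op_mul_apply, T.op_C_apply, T.smul_left]; rfl

omit [Fintype ι] in
theorem top_apply (v : ι → V) (k i : ι) (p : F[X]) :
    D.top T v k i p = T.B (T.op p (v k)) (T.op D.g (v i)) := rfl

/-- Vectors generating a piece. -/
structure Gens (v : ι → V) : Prop where
  kill : ∀ i, T.op (D.r i ^ D.j) (v i) = 0
  zero : ∀ k i, k ≠ D.π i → ∀ p, D.top T v k i p = 0
  ne : ∀ i, ∃ p, D.top T v (D.π i) i p ≠ 0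

variable {D T} {v : ι → V}

omit [Fintype ι] in
theorem kill_f (hk : ∀ i, T.op (D.r i ^ D.j) (v i) = 0) (i : ι) : T.op (D.f ^ D.j) (v i) = 0 :=
  T.op_eq_zero_of_dvd (D.rpow_dvd i) (hk i)

omit [Fintype ι] in
/-- The symmetry of the top values. -/
theorem top_symm (hk : ∀ i, T.op (D.r i ^ D.j) (v i) = 0) (k i : ι) (p : F[X]) :
    D.top T v k i p = η * θ (D.g.coeff 0) *
      θ (D.top T v i k (X ^ D.g.natDegree * IForm.bar θ D.Xi p)) := by
  rw [top_apply, T.symm, T.adj_self D.g_srp D.g0, map_mul, mul_assoc, top_apply]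
  congr 3
  rw [← T.op_mul_apply D.g p, mul_comm D.g p, T.op_mul_apply]
  rw [T.adj_bar' D.hXi p (x := T.op (X ^ D.g.natDegree) (v i))
    (by rw [T.op_comm_apply, kill_f hk, map_zero]), ← T.op_mul_apply, mul_comm]

omit [Fintype ι] in
/-- Multiples of `r` are killed by the top values. -/
theorem top_dvd (hk : ∀ i, T.op (D.r i ^ D.j) (v i) = 0) (i : ι) (p : F[X]) :
    D.top T v (D.π i) i (D.r (D.π i) * p) = 0 := by
  rw [top_apply, T.op_mul_apply, T.adj, T.op'_map_apply (D.r0 _), D.hπ]
  have h : T.op (D.r i) ((T.A.symm.toLinearMap ^ (D.r (D.π i)).natDegree) (T.op D.g (v i))) = 0 := by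
    rw [T.op_symm_pow_comm, ← T.op_mul_apply,
      T.op_eq_of_dvd (q := D.f * D.t i * D.g) (by
        rw [← sub_mul, ← neg_sub, neg_mul]; exact (dvd_mul_of_dvd_left (D.ht i) _).neg_right) (hk i),
      mul_right_comm, D.f_mul_g, mul_comm, T.op_mul_apply, kill_f hk, map_zero, map_zero]
  rw [h, smul_zero, T.zero_right]

/-- The span map of a family. -/
noncomputable def span (T : IForm θ η V) (v : ι → V) : (ι → F[X]) →ₗ[F] V where
  toFun a := ∑ i, T.op (a i) (v i)
  map_add' a b := by
    rw [← Finset.sum_add_distrib]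
    exact Finset.sum_congr rfl fun i _ => T.op_add_apply _ _ _
  map_smul' c a := by
    rw [RingHom.id_apply, Finset.smul_sum]
    refine Finset.sum_congr rfl fun i _ => ?_
    rw [Pi.smul_apply, smul_eq_C_mul, T.op_mul_apply, T.op_C_apply]

theorem span_apply (a : ι → F[X]) : span T v a = ∑ i, T.op (a i) (v i) := rfl

theorem op_span (p : F[X]) (a : ι → F[X]) : T.op p (span T v a) = span T v (fun i => p * a i) := by
  rw [span_apply, span_apply, map_sum]
  exact Finset.sum_congr rfl fun i _ => (T.op_mul_apply _ _ _).symm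

open Classical in
theorem span_single (i : ι) (p : F[X]) : span T v (Pi.single i p) = T.op p (v i) := by
  rw [span_apply, Finset.sum_eq_single i (fun k _ hk => by rw [Pi.single_eq_of_ne hk, IForm.op, map_zero]; rfl)
    (fun h => absurd (Finset.mem_univ i) h), Pi.single_eq_same]

theorem kill_span (hk : ∀ i, T.op (D.r i ^ D.j) (v i) = 0) (a : ι → F[X]) :
    T.op (D.f ^ D.j) (span T v a) = 0 := by
  rw [span_apply, map_sum]
  exact Finset.sum_eq_zero fun i _ => by rw [T.op_comm_apply, kill_f hk, map_zero]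

theorem span_eq_zero (hk : ∀ i, T.op (D.r i ^ D.j) (v i) = 0) {a : ι → F[X]}
    (ha : ∀ i, D.r i ^ D.j ∣ a i) : span T v a = 0 :=
  Finset.sum_eq_zero fun i _ => T.op_eq_zero_of_dvd (ha i) (hk i)

open Classical in
theorem exists_pair (h : D.Gens T v) {a : ι → F[X]} {i : ι} (ha : ¬ D.r i ∣ a i) :
    ∃ b, T.B (span T v b) (T.op D.g (span T v a)) ≠ 0 := by
  obtain ⟨p, hp⟩ := h.ne i
  obtain ⟨w, u, huw⟩ := (D.r_irr (D.π i)).coprime_iff_not_dvd.2 (D.not_dvd_bar ha)
  refine ⟨Pi.single (D.π i) (p * u), ?_⟩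
  rw [span_single, span_apply, map_sum, T.sum_right, Finset.sum_eq_single i]
  · rw [T.op_comm_apply, T.adj_bar' D.hXi _ (by rw [T.op_comm_apply, kill_f h.kill, map_zero]),
      ← T.op_mul_apply, ← top_apply]
    have e : IForm.bar θ D.Xi (a i) * (p * u) = p - D.r (D.π i) * (p * w) := by
      linear_combination p * huw
    rwa [e, map_sub, top_dvd h.kill, sub_zero]
  · intro l _ hl
    rw [T.op_comm_apply, T.adj_bar' D.hXi _ (by rw [T.op_comm_apply, kill_f h.kill, map_zero]),
      ← T.op_mul_apply, ← top_apply, h.zero]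
    exact fun e => hl (by rw [← D.ππ l, ← e, D.ππ])
  · exact fun hi => absurd (Finset.mem_univ i) hi

theorem dvd_of_radical (h : D.Gens T v) {a : ι → F[X]}
    (ha : ∀ b, T.B (span T v b) (span T v a) = 0) (i : ι) : D.r i ^ D.j ∣ a i := by
  suffices H : ∀ k, k ≤ D.j → ∀ i, D.r i ^ k ∣ a i from H D.j le_rfl i
  intro k
  induction k with
  | zero => intro _ i; simp
  | succ k ih =>
    intro hk
    choose a' ha' using ih (by omega)
    intro i
    rw [ha' i, pow_succ]
    refine mul_dvd_mul_left _ ?_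
    by_contra hi
    have hti : ¬ D.r i ∣ D.t i ^ k * a' i := by
      intro h1
      rcases (D.r_irr i).prime.dvd_or_dvd h1 with h2 | h2
      · rcases k.eq_zero_or_pos with rfl | hk0
        · rw [pow_zero] at h2; exact (D.r_irr i).not_isUnit (isUnit_of_dvd_one h2)
        · exact D.not_dvd_t i (by omega) ((D.r_irr i).prime.dvd_of_dvd_pow h2)
      · exact hi h2
    obtain ⟨b, hb⟩ := exists_pair h (a := fun l => D.t l ^ k * a' l) hti
    apply hb
    have e : T.op D.g (span T v fun l => D.t l ^ k * a' l) = T.op (D.f ^ (D.j - 1 - k)) (span T v a) := by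
      rw [op_span, op_span, span_apply, span_apply]
      refine Finset.sum_congr rfl fun l _ => T.op_eq_of_dvd ?_ (h.kill l)
      rw [ha' l, g, show D.j - 1 = (D.j - 1 - k) + k by omega, pow_add, Nat.add_sub_cancel]
      have := dvd_mul_of_dvd_right (D.pow_t l k) (D.f ^ (D.j - 1 - k) * a' l)
      convert this using 1
      ring
    rw [e, T.adj_bar' D.hXi _ (kill_span h.kill b), op_span]
    exact ha _

theorem span_eq_zero_iff (h : D.Gens T v) {a : ι → F[X]} :
    span T v a = 0 ↔ ∀ i, D.r i ^ D.j ∣ a i :=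
  ⟨fun ha i => dvd_of_radical h (fun b => by rw [ha, T.zero_right]) i, span_eq_zero h.kill⟩

/-- The subspace of a piece. -/
noncomputable def sub (T : IForm θ η V) (v : ι → V) : Submodule F V := LinearMap.range (span T v)

theorem sub_invariant (v : ι → V) : ∀ x ∈ sub T v, T.A x ∈ sub T v := by
  rintro _ ⟨a, rfl⟩
  exact ⟨fun i => X * a i, by rw [← op_span, T.op_X_apply]⟩

theorem sub_nd (h : D.Gens T v) : ∀ y ∈ sub T v, (∀ x ∈ sub T v, T.B x y = 0) → y = 0 := by
  rintro _ ⟨a, rfl⟩ ha
  exact span_eq_zero h.kill (fun i => dvd_of_radical h (fun b => ha _ ⟨b, rfl⟩) i)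

/-- The quotient model of a piece. -/
noncomputable def modelMap (D : PData θ ι) :
    (ι → F[X]) →ₗ[F] (∀ i, F[X] ⧸ Ideal.span {D.r i ^ D.j}) :=
  LinearMap.pi fun i => ((Ideal.Quotient.mkₐ F (Ideal.span {D.r i ^ D.j})).toLinearMap).comp (LinearMap.proj i)

theorem ker_modelMap (h : D.Gens T v) : LinearMap.ker (modelMap D) = LinearMap.ker (span T v) := by
  ext a
  rw [LinearMap.mem_ker, LinearMap.mem_ker, span_eq_zero_iff h, funext_iff]
  refine forall_congr' fun i => ?_
  show (Ideal.Quotient.mk _ (a i) = 0) ↔ _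
  rw [Ideal.Quotient.eq_zero_iff_mem, Ideal.mem_span_singleton]

theorem modelMap_surjective (D : PData θ ι) : Function.Surjective (modelMap D) := by
  intro y
  choose a ha using fun i => Ideal.Quotient.mk_surjective (y i)
  exact ⟨a, funext ha⟩

/-- A piece is isomorphic to its model. -/
noncomputable def modelEquiv (h : D.Gens T v) :
    (∀ i, F[X] ⧸ Ideal.span {D.r i ^ D.j}) ≃ₗ[F] sub T v :=
  (((modelMap D).quotKerEquivOfSurjective (modelMap_surjective D)).symm.trans
    (Submodule.quotEquivOfEq _ _ (ker_modelMap h))).trans (span T v).quotKerEquivRange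

theorem modelEquiv_apply (h : D.Gens T v) (a : ι → F[X]) :
    (modelEquiv h (modelMap D a) : V) = span T v a := by
  have h1 : ((modelMap D).quotKerEquivOfSurjective (modelMap_surjective D)).symm (modelMap D a) =
      Submodule.Quotient.mk a := by
    rw [LinearEquiv.symm_apply_eq]; rfl
  show ((span T v).quotKerEquivRange (Submodule.quotEquivOfEq _ _ (ker_modelMap h)
    (((modelMap D).quotKerEquivOfSurjective (modelMap_surjective D)).symm (modelMap D a))) : V) = _
  rw [h1]
  rfl

variable [FiniteDimensional F V]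

/-- The isometry on a piece. -/
noncomputable def pieceForm (h : D.Gens T v) : IForm θ η (sub T v) :=
  T.restrict (sub T v) (sub_invariant v) (sub_nd h)

open Classical in
theorem finrank_ker_piece (h : D.Gens T v) {p : F[X]} (hp : Irreducible p) (hpm : p.Monic) (k : ℕ) :
    finrank F (LinearMap.ker ((pieceForm h).op (p ^ k))) =
      ∑ i, if D.r i = p then (D.r i).natDegree * min k D.j else 0 := by
  let E := modelEquiv h
  have hc : ∀ (q : F[X]) z, (pieceForm h).op q (E z) = E (q • z) := by
    intro q z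
    obtain ⟨a, rfl⟩ := modelMap_surjective D z
    apply Subtype.ext
    rw [pieceForm, T.restrict_op, modelEquiv_apply, op_span, ← modelEquiv_apply h]
    congr 2
  have : ∀ i, FiniteDimensional F (F[X] ⧸ Ideal.span {D.r i ^ D.j}) := fun i =>
    finite_quot ((D.r_monic i).pow _)
  have hk : LinearMap.ker ((pieceForm h).op (p ^ k)) =
      ((LinearMap.ker (LinearMap.lsmul F[X] (∀ i, F[X] ⧸ Ideal.span {D.r i ^ D.j}) (p ^ k))).restrictScalars F).map
        E.toLinearMap := by
    ext x
    obtain ⟨z, rfl⟩ := E.surjective x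
    rw [LinearMap.mem_ker, hc, E.map_eq_zero_iff, Submodule.mem_map_equiv, E.symm_apply_apply]
    rfl
  rw [hk, LinearEquiv.finrank_map_eq]
  show kerDim F (∀ i, F[X] ⧸ Ideal.span {D.r i ^ D.j}) (p ^ k) = _
  rw [kerDim_pi]
  exact Finset.sum_congr rfl fun i _ => kerDim_quot (D.r_irr i) (D.r_monic i) hp hpm D.j k

section Sqrt

omit [FiniteDimensional F V]

/-- Adjoint pairs of endomorphisms. -/
def Adj (T : IForm θ η V) (P Q : End F V) : Prop := ∀ x y, T.B (P x) y = T.B x (Q y)

theorem exists_sqrt_op (Z Z' : End F V) (hsum : Z + Z' = 1) (hZ : Adj T Z Z') (hZ' : Adj T Z' Z)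
    (hZZ : Commute Z Z') (hZA : Commute Z T.A.toLinearMap) (hZA' : Commute Z' T.A.toLinearMap) :
    ∀ (k : ℕ) (E : End F V), E ^ k = 0 → Adj T E E → Commute E T.A.toLinearMap → Commute E Z → Commute E Z' →
    ∃ Y : End F V, Commute Y T.A.toLinearMap ∧ IsUnit Y ∧ ∀ x y, T.B (Y x) (Y y) = T.B ((1 + E) x) y := by
  intro k
  induction k using Nat.strong_induction_on with
  | _ k ih =>
    intro E hk hE hA hcE hcE'
    by_cases hk1 : k ≤ 1
    · have h0 : E = 0 := by
        rcases k with _ | k
        · rw [pow_zero] at hk; rw [← mul_one E, hk, mul_zero]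
        · rw [show k = 0 by omega, zero_add, pow_one] at hk; exact hk
      exact ⟨1, Commute.one_left _, isUnit_one, fun x y => by simp [h0]⟩
    set P := 1 + Z * E with hP
    set Q := 1 + Z' * E with hQ
    have hPQ : Adj T P Q := fun x y => by
      simp only [hP, hQ, LinearMap.add_apply, Module.End.mul_apply, Module.End.one_apply, T.add_left,
        T.add_right]
      rw [hZ (E x) y, hE, ← Module.End.mul_apply E, hcE'.eq]
      rfl
    have hQP : Adj T Q P := fun x y => by
      simp only [hP, hQ, LinearMap.add_apply, Module.End.mul_apply, Module.End.one_apply, T.add_left,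
        T.add_right]
      rw [hZ' (E x) y, hE, ← Module.End.mul_apply E, hcE.eq]
      rfl
    have hnil : IsNilpotent E := ⟨k, hk⟩
    obtain ⟨uP, huP⟩ := ((hcE.symm.isNilpotent_mul_left hnil)).isUnit_one_add
    obtain ⟨uQ, huQ⟩ := ((hcE'.symm.isNilpotent_mul_left hnil)).isUnit_one_add
    set Pi' : End F V := ↑uP⁻¹
    set Qi : End F V := ↑uQ⁻¹
    have cP : Commute P Q := (Commute.one_left _).add_left ((Commute.one_right _).add_right
      ((hZZ.mul_right hcE.symm).mul_left (hcE'.mul_right (Commute.refl E))))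
    have cPE : Commute P E := (Commute.one_left _).add_left (hcE.symm.mul_left (Commute.refl E))
    have cQE : Commute Q E := (Commute.one_left _).add_left (hcE'.symm.mul_left (Commute.refl E))
    have cPA : Commute P T.A.toLinearMap := (Commute.one_left _).add_left (hZA.mul_left hA)
    have cQA : Commute Q T.A.toLinearMap := (Commute.one_left _).add_left (hZA'.mul_left hA)
    have cPZ : Commute P Z := (Commute.one_left _).add_left ((Commute.refl Z).mul_left hcE)
    have cQZ : Commute Q Z := (Commute.one_left _).add_left (hZZ.symm.mul_left hcE)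
    have cPZ' : Commute P Z' := (Commute.one_left _).add_left (hZZ.mul_left hcE')
    have cQZ' : Commute Q Z' := (Commute.one_left _).add_left ((Commute.refl Z').mul_left hcE')
    rw [← hP] at huP
    rw [← hQ] at huQ
    have uPE : Commute (uP : End F V) E := by rw [huP]; exact cPE
    have uQE : Commute (uQ : End F V) E := by rw [huQ]; exact cQE
    have uPA : Commute (uP : End F V) T.A.toLinearMap := by rw [huP]; exact cPA
    have uQA : Commute (uQ : End F V) T.A.toLinearMap := by rw [huQ]; exact cQA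
    have uPQ : Commute (uP : End F V) (uQ : End F V) := by rw [huP, huQ]; exact cP
    have cPiE : Commute Pi' E := uPE.units_inv_left
    have cQiE : Commute Qi E := uQE.units_inv_left
    have cPiA : Commute Pi' T.A.toLinearMap := uPA.units_inv_left
    have cQiA : Commute Qi T.A.toLinearMap := uQA.units_inv_left
    have cPiQi : Commute Pi' Qi := uPQ.units_inv_left.units_inv_right
    have hPPi : P * Pi' = 1 := by rw [← huP]; exact uP.mul_inv
    have hQQi : Q * Qi = 1 := by rw [← huQ]; exact uQ.mul_inv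
    have hadjP : Adj T Pi' Qi := fun x y => by
      conv_lhs => rw [show y = Q (Qi y) from (LinearMap.congr_fun hQQi y).symm]
      rw [← hPQ, ← Module.End.mul_apply P, hPPi]
      rfl
    have hadjQ : Adj T Qi Pi' := fun x y => by
      conv_lhs => rw [show y = P (Pi' y) from (LinearMap.congr_fun hPPi y).symm]
      rw [← hQP, ← Module.End.mul_apply Q, hQQi]
      rfl
    have cPiZ : Commute Pi' Z := (show Commute (uP : End F V) Z by rw [huP]; exact cPZ).units_inv_left
    have cQiZ : Commute Qi Z := (show Commute (uQ : End F V) Z by rw [huQ]; exact cQZ).units_inv_left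
    have cPiZ' : Commute Pi' Z' := (show Commute (uP : End F V) Z' by rw [huP]; exact cPZ').units_inv_left
    have cQiZ' : Commute Qi Z' := (show Commute (uQ : End F V) Z' by rw [huQ]; exact cQZ').units_inv_left
    set G : End F V := Z * Z' with hG
    have cGE : Commute G E := hcE.symm.mul_left hcE'.symm
    have cGP : Commute G Pi' := cPiZ.symm.mul_left cPiZ'.symm
    have cGQ : Commute G Qi := cQiZ.symm.mul_left cQiZ'.symm
    have cGA : Commute G T.A.toLinearMap := hZA.mul_left hZA'
    have cGZ : Commute G Z := (Commute.refl Z).mul_left hZZ.symm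
    have cGZ' : Commute G Z' := hZZ.mul_left (Commute.refl Z')
    have hGG : Adj T G G := fun x y => by
      rw [hG, Module.End.mul_apply, hZ, hZ', ← Module.End.mul_apply]
    set K : End F V := E ^ 2 * (Pi' * Qi) with hK
    have cKG : Commute K G := (cGE.symm.pow_left 2).mul_left (cGP.symm.mul_left cGQ.symm)
    set E' : End F V := -(G * K) with hE'
    have cE2 : Commute (E ^ 2) (Pi' * Qi) := (cPiE.mul_left cQiE).symm.pow_left 2
    have hKA : Commute K T.A.toLinearMap := (hA.pow_left 2).mul_left (cPiA.mul_left cQiA)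
    have hE'A : Commute E' T.A.toLinearMap := (cGA.mul_left hKA).neg_left
    have hKK : Adj T K K := fun x y => by
      conv_rhs => rw [hK, cE2.eq]
      simp only [hK, Module.End.mul_apply, pow_two]
      rw [hE, hE, hadjP, hadjQ]
    have hE'E : Adj T E' E' := fun x y => by
      have h1 : T.B ((G * K) x) y = T.B x ((G * K) y) := by
        rw [Module.End.mul_apply, hGG, hKK, ← Module.End.mul_apply, cKG.eq]
      simp only [hE', LinearMap.neg_apply]
      rw [← neg_one_smul F ((G * K) x), ← neg_one_smul F ((G * K) y), T.smul_left, T.smul_right, h1, map_neg,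
        map_one]
    have hE'Z : Commute E' Z :=
      (cGZ.mul_left ((hcE.pow_left 2).mul_left (cPiZ.mul_left cQiZ))).neg_left
    have hE'Z' : Commute E' Z' :=
      (cGZ'.mul_left ((hcE'.pow_left 2).mul_left (cPiZ'.mul_left cQiZ'))).neg_left
    have hPiP : Pi' * P = 1 := by rw [← huP]; exact uP.inv_mul
    have hcore : Q * (E ^ 2 * (Pi' * Qi)) * P = E ^ 2 := by
      calc Q * (E ^ 2 * (Pi' * Qi)) * P = E ^ 2 * ((Q * Qi) * (Pi' * P)) := by
            rw [cPiQi.eq, ← mul_assoc Q, (cQE.pow_right 2).eq]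
            simp only [mul_assoc]
        _ = E ^ 2 := by rw [hQQi, hPiP, mul_one, mul_one]
    have hdecomp : Q * (1 + E') * P = 1 + E := by
      have cGQ' : Commute G Q := cQZ.symm.mul_left cQZ'.symm
      have key : ∀ (a b g c : End F V), Commute g a → a * (1 + -(g * c)) * b = a * b - g * (a * c * b) := by
        intro a b g c h
        rw [mul_add, add_mul, mul_one, mul_neg, neg_mul, ← mul_assoc a g, ← h.eq, sub_eq_add_neg]
        simp only [mul_assoc]
      calc Q * (1 + E') * P = Q * P - G * (Q * (E ^ 2 * (Pi' * Qi)) * P) := key Q P G _ cGQ'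
        _ = Q * P - G * E ^ 2 := by rw [hcore]
        _ = 1 + (Z + Z') * E := by
            have e3 : Z' * E * (Z * E) = G * E ^ 2 := by
              rw [pow_two, hG, mul_assoc Z', ← mul_assoc E, hcE.eq, hZZ.eq]
              simp only [mul_assoc]
            rw [hP, hQ]
            simp only [mul_add, add_mul, mul_one, one_mul, e3]
            abel
        _ = _ := by rw [hsum, one_mul]
    obtain ⟨Y', hY'A, hY'u, hY'⟩ := ih ((k + 1) / 2) (by omega) E' (by
      rw [hE', neg_pow, cKG.symm.mul_pow, hK, cE2.mul_pow, ← pow_mul,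
        show 2 * ((k + 1) / 2) = k + (2 * ((k + 1) / 2) - k) by omega, pow_add, hk, zero_mul, zero_mul,
        mul_zero, mul_zero]) hE'E hE'A hE'Z hE'Z' 
    refine ⟨Y' * P, hY'A.mul_left cPA, hY'u.mul (huP ▸ uP.isUnit), fun x y => ?_⟩
    rw [Module.End.mul_apply, Module.End.mul_apply, hY', ← hQP, ← hdecomp]
    rfl

theorem exists_sqrt (z : F) (hz : z + θ z = 1) (k : ℕ) (E : End F V) (hk : E ^ k = 0) (hE : Adj T E E)
    (hA : Commute E T.A.toLinearMap) : ∃ Y : End F V, Commute Y T.A.toLinearMap ∧ IsUnit Y ∧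
      ∀ x y, T.B (Y x) (Y y) = T.B ((1 + E) x) y :=
  exists_sqrt_op (z • 1) (θ z • 1) (by rw [← add_smul, hz, one_smul])
    (fun x y => by simp only [LinearMap.smul_apply, Module.End.one_apply, T.smul_left, T.smul_right, T.inv])
    (fun x y => by simp only [LinearMap.smul_apply, Module.End.one_apply, T.smul_left, T.smul_right])
    ((Commute.one_left _).smul_left _) ((Commute.one_left _).smul_left _) ((Commute.one_left _).smul_left _)
    k E hk hE hA ((Commute.one_right E).smul_right _) ((Commute.one_right E).smul_right _)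

end Sqrt

/-- The conjugating structure behind uniqueness of pieces. -/
theorem piece_unique_op {W : Type u} [AddCommGroup W] [Module F W] [FiniteDimensional F W]
    {S : IForm θ η W} {w : ι → W} (h : D.Gens T v) (h' : D.Gens S w) (Z Z' : End F (sub T v))
    (hsum : Z + Z' = 1) (hZ : Adj (pieceForm h) Z Z') (hZ' : Adj (pieceForm h) Z' Z) (hZZ : Commute Z Z')
    (hZA : Commute Z (pieceForm h).A.toLinearMap) (hZA' : Commute Z' (pieceForm h).A.toLinearMap)
    (hZc : ∀ E : End F (sub T v), Commute E (pieceForm h).A.toLinearMap → Commute E Z ∧ Commute E Z')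
    (htop : ∀ k i p, D.top T v k i p = D.top S w k i p) :
    IForm.Equiv' (pieceForm h) (pieceForm h') := by
  classical
  set R := pieceForm h
  set R' := pieceForm h'
  let e : sub T v ≃ₗ[F] sub S w := (modelEquiv h).symm.trans (modelEquiv h')
  have he : ∀ a, (e ⟨span T v a, a, rfl⟩ : W) = span S w a := by
    intro a
    have h1 : (modelEquiv h).symm ⟨span T v a, a, rfl⟩ = modelMap D a := by
      rw [LinearEquiv.symm_apply_eq]; exact Subtype.ext (modelEquiv_apply h a).symm
    show ((modelEquiv h') ((modelEquiv h).symm _) : W) = _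
    rw [h1, modelEquiv_apply]
  have heA : ∀ x, e (R.A x) = R'.A (e x) := by
    rintro ⟨_, a, rfl⟩
    have h1 : R.A ⟨span T v a, a, rfl⟩ = ⟨span T v (fun i => X * a i), _, rfl⟩ := by
      apply Subtype.ext
      show T.A (span T v a) = span T v _
      rw [← op_span, T.op_X_apply]
    apply Subtype.ext
    rw [h1, he]
    show span S w _ = S.A (e _ : W)
    rw [he, ← op_span, S.op_X_apply]
  have heop : ∀ q x, e (R.op q x) = R'.op q (e x) := by
    intro q x
    induction q using Polynomial.induction_on generalizing x with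
    | C c => rw [R.op_C_apply, R'.op_C_apply, map_smul]
    | add p q hp hq => rw [R.op_add_apply, R'.op_add_apply, map_add, hp, hq]
    | monomial k c ih =>
      rw [show (C c * X ^ (k + 1) : F[X]) = C c * X ^ k * X by rw [pow_succ, mul_assoc],
        R.op_mul_apply, R'.op_mul_apply, ih, R.op_X_apply, R'.op_X_apply, heA]
  -- the two forms agree when one argument is in the image of `op g`
  have hagree : ∀ x y, R'.B (e x) (R'.op D.g (e y)) = R.B x (R.op D.g y) := by
    rintro ⟨_, a, rfl⟩ ⟨_, b, rfl⟩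
    show S.B (e _ : W) (((S.restrict _ _ _).op D.g (e _)) : W) = T.B _ (((T.restrict _ _ _).op D.g _) : V)
    rw [IForm.restrict_op, IForm.restrict_op, he, he]
    simp only [span_apply, map_sum, T.sum_left, T.sum_right, S.sum_left, S.sum_right]
    refine Finset.sum_congr rfl fun i _ => Finset.sum_congr rfl fun k _ => ?_
    rw [T.op_comm_apply, S.op_comm_apply,
      T.adj_bar' D.hXi _ (by rw [T.op_comm_apply, kill_f h.kill, map_zero]),
      S.adj_bar' D.hXi _ (by rw [S.op_comm_apply, kill_f h'.kill, map_zero]),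
      ← T.op_mul_apply, ← S.op_mul_apply]
    exact (htop i k _).symm
  -- the comparison operator
  set n := finrank F (sub T v)
  let b := finBasis F (sub T v)
  let L : sub T v →ₗ[F] (Fin n → F) :=
    { toFun := fun x i => R.B x (b i)
      map_add' := fun x y => funext fun i => R.add_left _ _ _
      map_smul' := fun c x => funext fun i => R.smul_left _ _ _ }
  let L' : sub T v →ₗ[F] (Fin n → F) :=
    { toFun := fun x i => R'.B (e x) (e (b i))
      map_add' := fun x y => funext fun i => by rw [map_add]; exact R'.add_left _ _ _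
      map_smul' := fun c x => funext fun i => by rw [map_smul]; exact R'.smul_left _ _ _ }
  have hL : Function.Injective L := by
    rw [← LinearMap.ker_eq_bot, Submodule.eq_bot_iff]
    intro x hx
    refine R.nd' x fun y => ?_
    rw [← b.sum_repr y, R.sum_right]
    exact Finset.sum_eq_zero fun i _ => by
      rw [R.smul_right, show R.B x (b i) = 0 from congrFun hx i, mul_zero]
  let Le : sub T v ≃ₗ[F] (Fin n → F) :=
    LinearMap.linearEquivOfInjective L hL (by rw [finrank_fin_fun])
  let Xo : End F (sub T v) := Le.symm.toLinearMap.comp L'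
  have hX : ∀ x y, R.B (Xo x) y = R'.B (e x) (e y) := by
    intro x y
    have h1 : L (Xo x) = L' x := by
      show Le (Le.symm (L' x)) = L' x
      rw [Le.apply_symm_apply]
    conv_lhs => rw [← b.sum_repr y]
    conv_rhs => rw [← b.sum_repr y]
    rw [R.sum_right, map_sum, R'.sum_right]
    exact Finset.sum_congr rfl fun i _ => by
      rw [map_smul, R.smul_right, R'.smul_right]; exact congrArg _ (congrFun h1 i)
  have hinj : ∀ {x x' : sub T v}, (∀ y, R.B x y = R.B x' y) → x = x' := fun {x x'} hxx =>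
    sub_eq_zero.1 (R.nd' _ fun y => by rw [R.sub_left, hxx, sub_self])
  set E := Xo - 1 with hEdef
  have hE : ∀ x y, R.B (E x) y = R'.B (e x) (e y) - R.B x y := fun x y => by
    rw [hEdef, LinearMap.sub_apply, Module.End.one_apply, R.sub_left, hX]
  have hEE : Adj R E E := fun x y => by
    rw [R.symm x (E y), hE, hE, map_sub, mul_sub, ← R'.symm, ← R.symm]
  have hEA : ∀ x, E (R.A x) = R.A (E x) := by
    intro x
    refine hinj fun y => ?_
    conv_rhs => rw [← R.A.apply_symm_apply y, R.iso]
    conv_lhs => rw [← R.A.apply_symm_apply y]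
    rw [hE, hE, heA, heA, R'.iso, R.iso]
  have hEA' : Commute E R.A.toLinearMap := LinearMap.ext hEA
  have hEop : ∀ q x, E (R.op q x) = R.op q (E x) := by
    intro q x
    induction q using Polynomial.induction_on generalizing x with
    | C c => rw [R.op_C_apply, R.op_C_apply, map_smul]
    | add p q hp hq => rw [R.op_add_apply, R.op_add_apply, map_add, hp, hq]
    | monomial k c ih =>
      rw [show (C c * X ^ (k + 1) : F[X]) = C c * X ^ k * X by rw [pow_succ, mul_assoc],
        R.op_mul_apply (C c * X ^ k) X x, R.op_mul_apply (C c * X ^ k) X (E x), ih, R.op_X_apply, R.op_X_apply, hEA]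
  have hEg : ∀ x, R.op D.g (E x) = 0 := by
    intro x
    refine R.nd' _ fun y => ?_
    rw [R.adj_self D.g_srp D.g0, ← hEop, hE, heop D.g, hagree, sub_self, mul_zero]
  have hEf : ∀ x, ∃ y, E x = R.op D.f y := by
    intro x
    obtain ⟨a, ha⟩ := (E x).2
    have h0 : span T v (fun i => D.g * a i) = 0 := by
      rw [← op_span, ha, ← T.restrict_op (sub_invariant v) (sub_nd h)]
      exact congrArg Subtype.val (hEg x)
    have hd := (span_eq_zero_iff h).1 h0
    have hdiv : ∀ i, D.r i ∣ a i := by
      intro i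
      have h1 : D.r i ^ D.j ∣ D.r i ^ (D.j - 1) * a i := by
        have h2 := dvd_sub (dvd_mul_of_dvd_left (hd i) (D.t i ^ (D.j - 1)))
          (dvd_mul_of_dvd_left (D.pow_t i (D.j - 1)) (a i))
        convert h2 using 1
        rw [g]; ring
      rw [show D.r i ^ D.j = D.r i ^ (D.j - 1) * D.r i by rw [← pow_succ, Nat.sub_add_cancel D.hj]] at h1
      exact (mul_dvd_mul_iff_left (pow_ne_zero _ (D.r_irr i).ne_zero)).1 h1
    choose a' ha' using hdiv
    refine ⟨⟨span T v (fun i => D.t i * a' i), _, rfl⟩, Subtype.ext ?_⟩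
    show (E x : V) = _
    rw [← ha, show (R.op D.f ⟨span T v (fun i => D.t i * a' i), _, rfl⟩ : V) =
      T.op D.f (span T v (fun i => D.t i * a' i)) from T.restrict_op _ _ _ _, op_span, span_apply, span_apply]
    refine Finset.sum_congr rfl fun i _ => T.op_eq_of_dvd ?_ (h.kill i)
    rw [ha' i, ← mul_assoc, ← sub_mul, ← neg_sub, neg_mul]
    exact (dvd_mul_of_dvd_left (D.ht i) _).neg_right
  have hpow : ∀ k x, ∃ y, (E ^ k) x = R.op (D.f ^ k) y := by
    intro k
    induction k with
    | zero => exact fun x => ⟨x, by rw [pow_zero, pow_zero, R.op_one_apply]; rfl⟩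
    | succ k ih =>
      intro x
      obtain ⟨y, hy⟩ := ih x
      obtain ⟨y', hy'⟩ := hEf y
      exact ⟨y', by rw [pow_succ' E, Module.End.mul_apply, hy, hEop, hy', ← R.op_mul_apply, ← pow_succ]⟩
  have hnil : E ^ D.j = 0 := by
    refine LinearMap.ext fun x => ?_
    obtain ⟨⟨_, a, rfl⟩, hy⟩ := hpow D.j x
    rw [hy]
    apply Subtype.ext
    rw [show (R.op (D.f ^ D.j) ⟨span T v a, a, rfl⟩ : V) = T.op (D.f ^ D.j) (span T v a) from
      T.restrict_op _ _ _ _, kill_span h.kill]
    rfl
  obtain ⟨Y, hYA, hYu, hY⟩ := exists_sqrt_op (T := R) Z Z' hsum hZ hZ' hZZ hZA hZA' D.j E hnil hEE hEA'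
    (hZc E hEA').1 (hZc E hEA').2
  obtain ⟨uY, rfl⟩ := hYu
  let Ye : sub T v ≃ₗ[F] sub T v := LinearMap.GeneralLinearGroup.toLinearEquiv uY
  refine ⟨Ye.symm.trans e, fun x y => ?_, fun x => ?_⟩
  · obtain ⟨x, rfl⟩ := Ye.surjective x
    obtain ⟨y, rfl⟩ := Ye.surjective y
    simp only [LinearEquiv.trans_apply, LinearEquiv.symm_apply_apply]
    show R'.B (e x) (e y) = R.B ((uY : End F (sub T v)) x) ((uY : End F (sub T v)) y)
    rw [hY, LinearMap.add_apply, Module.End.one_apply, R.add_left, hE, add_sub_cancel]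
  · obtain ⟨x, rfl⟩ := Ye.surjective x
    have h1 : R.A (Ye x) = Ye (R.A x) := (LinearMap.congr_fun hYA.eq x).symm
    rw [h1]
    simp only [LinearEquiv.trans_apply, LinearEquiv.symm_apply_apply]
    exact heA x

/-- Uniqueness of pieces when an element of trace one exists. -/
theorem piece_unique {W : Type u} [AddCommGroup W] [Module F W] [FiniteDimensional F W]
    {S : IForm θ η W} {w : ι → W} {z : F} (hz : z + θ z = 1) (h : D.Gens T v) (h' : D.Gens S w)
    (htop : ∀ k i p, D.top T v k i p = D.top S w k i p) :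
    IForm.Equiv' (pieceForm h) (pieceForm h') :=
  piece_unique_op h h' (z • 1) (θ z • 1) (by rw [← add_smul, hz, one_smul])
    (fun x y => by simp only [LinearMap.smul_apply, Module.End.one_apply, IForm.smul_left, IForm.smul_right, T.inv])
    (fun x y => by simp only [LinearMap.smul_apply, Module.End.one_apply, IForm.smul_left, IForm.smul_right])
    ((Commute.one_left _).smul_left _) ((Commute.one_left _).smul_left _) ((Commute.one_left _).smul_left _)
    (fun E _ => ⟨(Commute.one_right E).smul_right _, (Commute.one_right E).smul_right _⟩) htop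

end PData

end Cfsg.Agent.Lib.ClassNumber
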