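import Mathlib

/-!
Reciprocal polynomials twisted by an involution of the coefficient field, and the finite field lemma
about functionals used in the classification of isometries.
-/

set_option autoImplicit false

namespace Cfsg.Agent.Lib.ClassNumber

open Polynomial

variable {F : Type*} [Field F] (θ : F →+* F)

/-- The monic reciprocal polynomial, twisted by `θ`. -/
noncomputable def srp (r : F[X]) : F[X] := C (θ (r.coeff 0))⁻¹ * (r.map θ).reverse

variable {θ}

theorem srp_mul (r s : F[X]) : srp θ (r * s) = srp θ r * srp θ s := by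
  simp only [srp, mul_coeff_zero, map_mul, Polynomial.map_mul, reverse_mul_of_domain, mul_inv, map_mul]
  ring

theorem srp_one : srp θ (1 : F[X]) = 1 := by simp [srp, reverse]

theorem srp_pow (r : F[X]) : ∀ k : ℕ, srp θ (r ^ k) = srp θ r ^ k
  | 0 => by simp [srp_one]
  | k + 1 => by rw [pow_succ, pow_succ, srp_mul, srp_pow r k]

theorem coeff_zero_map_ne {r : F[X]} (h0 : r.coeff 0 ≠ 0) : (r.map θ).coeff 0 ≠ 0 := by
  rw [coeff_map]; exact (map_ne_zero θ).2 h0

theorem natDegree_srp {r : F[X]} (h0 : r.coeff 0 ≠ 0) : (srp θ r).natDegree = r.natDegree := by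
  have ht : (r.map θ).natTrailingDegree = 0 := natTrailingDegree_eq_zero.2 (Or.inr (coeff_zero_map_ne h0))
  rw [srp, natDegree_C_mul (inv_ne_zero ((map_ne_zero θ).2 h0)), reverse_natDegree, ht, Nat.sub_zero,
    natDegree_map]

theorem srp_coeff_zero {r : F[X]} (hm : r.Monic) : (srp θ r).coeff 0 = (θ (r.coeff 0))⁻¹ := by
  rw [srp, coeff_C_mul, coeff_zero_reverse, (hm.map θ).leadingCoeff, mul_one]

theorem srp_coeff_zero_ne {r : F[X]} (hm : r.Monic) (h0 : r.coeff 0 ≠ 0) : (srp θ r).coeff 0 ≠ 0 := by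
  rw [srp_coeff_zero hm]; exact inv_ne_zero ((map_ne_zero θ).2 h0)

theorem srp_monic {r : F[X]} (h0 : r.coeff 0 ≠ 0) : (srp θ r).Monic := by
  rw [Monic, srp, leadingCoeff_mul, leadingCoeff_C, reverse_leadingCoeff,
    trailingCoeff, natTrailingDegree_eq_zero.2 (Or.inr (coeff_zero_map_ne h0)), coeff_map,
    inv_mul_cancel₀ ((map_ne_zero θ).2 h0)]

theorem srp_srp (hθ : ∀ a, θ (θ a) = a) {r : F[X]} (hm : r.Monic) (h0 : r.coeff 0 ≠ 0) :
    srp θ (srp θ r) = r := by
  have h0' : θ (r.coeff 0) ≠ 0 := (map_ne_zero θ).2 h0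
  have h1 : (r.map θ).reverse.map θ = r.reverse := by
    apply Polynomial.ext
    intro k
    simp [coeff_reverse, coeff_map, natDegree_map, hθ]
  rw [srp, srp_coeff_zero hm, srp, Polynomial.map_mul, map_C, h1, reverse_mul_of_domain, reverse_C]
  have h2 : r.reverse.reverse = r := by
    apply Polynomial.ext
    intro k
    have ht : r.natTrailingDegree = 0 := natTrailingDegree_eq_zero.2 (Or.inr h0)
    rw [coeff_reverse, coeff_reverse, reverse_natDegree, ht, Nat.sub_zero, revAt_invol]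
  rw [h2, ← mul_assoc, ← C_mul]
  simp [hθ, h0]

theorem srp_dvd {r s : F[X]} (h : r ∣ s) : srp θ r ∣ srp θ s := by
  obtain ⟨t, rfl⟩ := h
  exact ⟨srp θ t, srp_mul r t⟩

theorem coeff_zero_ne_of_dvd {r s : F[X]} (h : r ∣ s) (h0 : s.coeff 0 ≠ 0) : r.coeff 0 ≠ 0 := by
  obtain ⟨t, rfl⟩ := h
  rw [mul_coeff_zero] at h0
  exact left_ne_zero_of_mul h0

theorem srp_irreducible (hθ : ∀ a, θ (θ a) = a) {r : F[X]} (hm : r.Monic) (hi : Irreducible r)
    (h0 : r.coeff 0 ≠ 0) : Irreducible (srp θ r) := by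
  have hm' := srp_monic (θ := θ) h0
  have h0' := srp_coeff_zero_ne (θ := θ) hm h0
  refine (hm'.irreducible_iff_natDegree).2 ⟨fun h1 => ?_, fun f g hf hg hfg => ?_⟩
  · have := natDegree_srp (θ := θ) h0
    rw [h1, natDegree_one] at this
    exact absurd this.symm hi.natDegree_pos.ne'
  · rw [← hfg, mul_coeff_zero] at h0'
    have hf0 := left_ne_zero_of_mul h0'
    have hg0 := right_ne_zero_of_mul h0'
    have h2 : srp θ f * srp θ g = r := by rw [← srp_mul, hfg, srp_srp hθ hm h0]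
    rcases (hm.irreducible_iff_natDegree.1 hi).2 _ _ (srp_monic hf0) (srp_monic hg0) h2 with h | h
    · exact Or.inl (by rwa [natDegree_srp hf0] at h)
    · exact Or.inr (by rwa [natDegree_srp hg0] at h)

section Aeval

variable {R : Type*} [Ring R] [Algebra F R]

/-- Evaluation of a polynomial at an inverse. -/
theorem aeval_inv_mul_pow {A A' : R} (h : A' * A = 1) (h' : A * A' = 1) (N : ℕ) (p : F[X])
    (hp : p.natDegree ≤ N) : aeval A' p * A ^ N = aeval A (reflect N p) := by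
  refine induction_with_natDegree_le (motive := fun p => aeval A' p * A ^ N = aeval A (reflect N p)) N
    (by simp) (fun n r _ hn => ?_) (fun f g _ _ hf hg => ?_) p hp
  · show aeval A' (C r * X ^ n) * A ^ N = aeval A (reflect N (C r * X ^ n))
    rw [reflect_C_mul_X_pow, revAt_le hn]
    simp only [map_mul, aeval_C, map_pow, aeval_X, mul_assoc]
    congr 1
    obtain ⟨d, rfl⟩ := Nat.exists_eq_add_of_le hn
    have hc : Commute A' A := h.trans h'.symm
    rw [pow_add, ← mul_assoc, ← hc.mul_pow, h, one_pow, one_mul, Nat.add_sub_cancel_left]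
  · show aeval A' (f + g) * A ^ N = aeval A (reflect N (f + g))
    rw [map_add, add_mul, hf, hg, reflect_add, map_add]

/-- The adjoint of the value of a polynomial. -/
theorem aeval_inv_map {A A' : R} (h : A' * A = 1) (h' : A * A' = 1) {r : F[X]} (h0 : r.coeff 0 ≠ 0) :
    aeval A' (r.map θ) = θ (r.coeff 0) • (aeval A (srp θ r) * A' ^ r.natDegree) := by
  have h1 := aeval_inv_mul_pow h h' r.natDegree (r.map θ) (by rw [natDegree_map])
  have h2 : A ^ r.natDegree * A' ^ r.natDegree = 1 := by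
    rw [← (show Commute A A' from h'.trans h.symm).mul_pow, h', one_pow]
  have h3 : aeval A (srp θ r) = (θ (r.coeff 0))⁻¹ • aeval A (reflect r.natDegree (r.map θ)) := by
    rw [srp, reverse, natDegree_map, map_mul, aeval_C, Algebra.smul_def]
  rw [h3, smul_mul_assoc, smul_smul, mul_inv_cancel₀ ((map_ne_zero θ).2 h0), one_smul, ← h1, mul_assoc,
    h2, mul_one]

end Aeval

/-- Multiplication by a polynomial followed by a functional. -/
noncomputable def mulFun (φ : F[X] →ₗ[F] F) (u : F[X]) : F[X] →ₗ[F] F := φ ∘ₗ LinearMap.mulRight F u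

theorem mulFun_apply (φ : F[X] →ₗ[F] F) (u p : F[X]) : mulFun φ u p = φ (p * u) := rfl

/-- A functional which kills the multiples of an irreducible polynomial and is not zero gives all such. -/
theorem exists_mul_eq {r : F[X]} (hi : Irreducible r) (hm : r.Monic) {φ ψ : F[X] →ₗ[F] F}
    (hφ : ∀ p, φ (r * p) = 0) (hφ0 : ∃ p, φ p ≠ 0) (hψ : ∀ p, ψ (r * p) = 0) :
    ∃ u : F[X], ∀ p, ψ p = φ (p * u) := by
  classical
  haveI : Fact (Irreducible r) := ⟨hi⟩
  haveI : FiniteDimensional F (AdjoinRoot r) := hm.finite_adjoinRoot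
  let b : AdjoinRoot r →ₗ[F] F :=
    (Submodule.liftQ _ φ (fun x hx => by
      obtain ⟨t, rfl⟩ := Ideal.mem_span_singleton'.1 hx
      rw [LinearMap.mem_ker, mul_comm]; exact hφ t) :
      (F[X] ⧸ (Ideal.span {r}).restrictScalars F) →ₗ[F] F) ∘ₗ
      (Submodule.Quotient.restrictScalarsEquiv F (Ideal.span {r} : Ideal F[X])).symm.toLinearMap
  let c : AdjoinRoot r →ₗ[F] F :=
    (Submodule.liftQ _ ψ (fun x hx => by
      obtain ⟨t, rfl⟩ := Ideal.mem_span_singleton'.1 hx
      rw [LinearMap.mem_ker, mul_comm]; exact hψ t) :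
      (F[X] ⧸ (Ideal.span {r}).restrictScalars F) →ₗ[F] F) ∘ₗ
      (Submodule.Quotient.restrictScalarsEquiv F (Ideal.span {r} : Ideal F[X])).symm.toLinearMap
  have hb : ∀ p, b (AdjoinRoot.mk r p) = φ p := fun p => rfl
  have hc : ∀ p, c (AdjoinRoot.mk r p) = ψ p := fun p => rfl
  let M : AdjoinRoot r →ₗ[F] (AdjoinRoot r →ₗ[F] F) :=
    (LinearMap.mul F (AdjoinRoot r)).compr₂ b
  have hM : Function.Injective M := by
    rw [← LinearMap.ker_eq_bot, Submodule.eq_bot_iff]
    intro u hu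
    by_contra hne
    obtain ⟨p, hp⟩ := hφ0
    apply hp
    rw [← hb]
    have := LinearMap.congr_fun (LinearMap.mem_ker.1 hu) (u⁻¹ * AdjoinRoot.mk r p)
    simpa [M, LinearMap.compr₂_apply, ← mul_assoc, mul_inv_cancel₀ hne] using this
  have hfr : Module.finrank F (AdjoinRoot r) = Module.finrank F (AdjoinRoot r →ₗ[F] F) := by
    rw [Module.finrank_linearMap_self]
  obtain ⟨u, hu⟩ := (LinearMap.injective_iff_surjective_of_finrank_eq_finrank hfr).1 hM c
  obtain ⟨u, rfl⟩ := AdjoinRoot.mk_surjective u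
  refine ⟨u, fun p => ?_⟩
  rw [← hc, ← hu, mul_comm p u, ← hb, map_mul]
  rfl

/-- Norms from a finite field with a non-trivial involution cover the fixed field. -/
theorem exists_norm_eq {K : Type*} [Field K] [Finite K] (σ : K →+* K) (hσ : ∀ x, σ (σ x) = x)
    (hne : ∃ x, σ x ≠ x) {u : K} (hu : σ u = u) (hu0 : u ≠ 0) : ∃ w, w ≠ 0 ∧ w * σ w = u := by
  classical
  haveI : Fintype K := Fintype.ofFinite K
  let s : Kˣ →* Kˣ := Units.map σ.toMonoidHom
  let N : Kˣ →* Kˣ := MonoidHom.id Kˣ * s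
  let D : Kˣ →* Kˣ := MonoidHom.id Kˣ / s
  have hker : N.ker = D.range := by
    apply le_antisymm
    · intro x hx
      have hx1 : (x : K) * σ x = 1 := by
        have := congrArg Units.val (MonoidHom.mem_ker.1 hx)
        simpa [N, s] using this
      obtain ⟨t, ht⟩ : ∃ t : K, t + x * σ t ≠ 0 := by
        by_contra h
        simp only [not_exists, ne_eq, not_not] at h
        have h1 : (x : K) = -1 := by
          have := h 1; rw [map_one, mul_one] at this; exact eq_neg_of_add_eq_zero_right this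
        obtain ⟨a, ha⟩ := hne
        have := h a
        rw [h1, neg_one_mul, add_neg_eq_zero] at this
        exact ha this.symm
      refine ⟨Units.mk0 _ ht, ?_⟩
      show Units.mk0 _ ht / s (Units.mk0 _ ht) = x
      rw [div_eq_iff_eq_mul]
      apply Units.ext
      show t + x * σ t = x * σ (t + x * σ t)
      rw [map_add, map_mul, hσ, mul_add, ← mul_assoc, hx1, one_mul, add_comm]
    · rintro _ ⟨y, rfl⟩
      apply MonoidHom.mem_ker.2
      show (y / s y) * s (y / s y) = 1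
      have : s (s y) = y := Units.ext (hσ y)
      rw [_root_.map_div, this, div_mul_div_cancel, div_self']
  have hsub : N.range ≤ D.ker := by
    rintro _ ⟨y, rfl⟩
    apply MonoidHom.mem_ker.2
    show (y * s y) / s (y * s y) = 1
    have : s (s y) = y := Units.ext (hσ y)
    rw [map_mul, this, mul_comm (s y) y, div_self']
  have hN := N.ker.card_eq_card_quotient_mul_card_subgroup
  have hD := D.ker.card_eq_card_quotient_mul_card_subgroup
  rw [Nat.card_congr (QuotientGroup.quotientKerEquivRange N).toEquiv] at hN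
  rw [Nat.card_congr (QuotientGroup.quotientKerEquivRange D).toEquiv, ← hker, mul_comm] at hD
  have hcard : Nat.card D.ker ≤ Nat.card N.range :=
    le_of_eq (Nat.eq_of_mul_eq_mul_right Nat.card_pos (hD.symm.trans hN))
  have heq : N.range = D.ker := Subgroup.eq_of_le_of_card_ge hsub hcard
  have hmem : Units.mk0 u hu0 ∈ D.ker := by
    apply MonoidHom.mem_ker.2
    show Units.mk0 u hu0 / s (Units.mk0 u hu0) = 1
    rw [div_eq_one]
    exact Units.ext hu.symm
  rw [← heq] at hmem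
  obtain ⟨w, hw⟩ := hmem
  exact ⟨w, w.ne_zero, congrArg Units.val hw⟩

/-- A functional on `F[X]/(r)` with given symmetry is unique up to norms, unless the involution is trivial. -/
theorem exists_norm_mul [Finite F] (hθ : ∀ a, θ (θ a) = a) {r : F[X]} (hi : Irreducible r) (hm : r.Monic)
    (h0 : r.coeff 0 ≠ 0) (hself : srp θ r = r) {φ ψ : F[X] →ₗ[F] F} (hφ : ∀ p, φ (r * p) = 0)
    (hφ0 : ∃ p, φ p ≠ 0) (hψ : ∀ p, ψ (r * p) = 0) (hψ0 : ∃ p, ψ p ≠ 0) {Xi : F[X]}
    (hXi : r ∣ X * Xi - 1) (κ : F) (D : ℕ)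
    (sφ : ∀ p, φ p = κ * θ (φ (X ^ D * (p.map θ).comp Xi)))
    (sψ : ∀ p, ψ p = κ * θ (ψ (X ^ D * (p.map θ).comp Xi)))
    (hlin : ¬ ((∀ a, θ a = a) ∧ (r = X - C 1 ∨ r = X + C 1))) :
    ∃ w : F[X], ¬ r ∣ w ∧ ∀ p, ψ p = φ (p * (w * (w.map θ).comp Xi)) := by
  classical
  haveI : Fact (Irreducible r) := ⟨hi⟩
  haveI : FiniteDimensional F (AdjoinRoot r) := hm.finite_adjoinRoot
  haveI : Finite (AdjoinRoot r) := Module.finite_of_finite F
  set a := AdjoinRoot.root r with ha
  have hmk : ∀ {p q : F[X]}, r ∣ p - q → φ p = φ q := by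
    intro p q h
    obtain ⟨t, ht⟩ := h
    rw [← sub_eq_zero, ← map_sub, ht, hφ]
  have hmkψ : ∀ {p q : F[X]}, r ∣ p - q → ψ p = ψ q := by
    intro p q h
    obtain ⟨t, ht⟩ := h
    rw [← sub_eq_zero, ← map_sub, ht, hψ]
  have hXia : a * AdjoinRoot.mk r Xi = 1 := by
    rw [ha, ← AdjoinRoot.mk_X, ← map_mul, ← (AdjoinRoot.mk r).map_one]
    exact AdjoinRoot.mk_eq_mk.2 hXi
  have hzero : (r.map θ).eval₂ (algebraMap F (AdjoinRoot r)) (AdjoinRoot.mk r Xi) = 0 := by
    rw [← aeval_def, aeval_inv_map (θ := θ) ((mul_comm _ _).trans hXia) hXia h0, hself, ha,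
      AdjoinRoot.aeval_eq, AdjoinRoot.mk_self, zero_mul, smul_zero]
  let σ : AdjoinRoot r →+* AdjoinRoot r :=
    AdjoinRoot.lift ((algebraMap F (AdjoinRoot r)).comp θ) (AdjoinRoot.mk r Xi) (by rwa [← eval₂_map])
  have hσp : ∀ p : F[X], σ (AdjoinRoot.mk r p) = AdjoinRoot.mk r ((p.map θ).comp Xi) := by
    intro p
    rw [AdjoinRoot.lift_mk, ← eval₂_map, ← aeval_def, ← AdjoinRoot.aeval_eq, ← AdjoinRoot.aeval_eq,
      aeval_comp]
  have hσa : σ a = AdjoinRoot.mk r Xi := AdjoinRoot.lift_root _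
  have hσinv : AdjoinRoot.mk r Xi = a⁻¹ := eq_inv_of_mul_eq_one_right hXia
  have hσσ : ∀ x, σ (σ x) = x := by
    have hr : ∀ c : F, σ (AdjoinRoot.of r c) = AdjoinRoot.of r (θ c) := fun c => AdjoinRoot.lift_of _
    have haa : σ (σ a) = a := by rw [hσa, hσinv, map_inv₀, hσa, hσinv, inv_inv]
    intro x
    obtain ⟨p, rfl⟩ := AdjoinRoot.mk_surjective x
    induction p using Polynomial.induction_on' with
    | add p q hp hq => simp only [map_add, hp, hq]
    | monomial k c =>
      rw [← C_mul_X_pow_eq_monomial, map_mul, map_pow, AdjoinRoot.mk_X, AdjoinRoot.mk_C]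
      simp only [map_mul, map_pow]
      rw [hr, hr, hθ, ← ha, haa]
  obtain ⟨u, hu⟩ := exists_mul_eq hi hm hφ hφ0 hψ
  have hu0 : AdjoinRoot.mk r u ≠ 0 := by
    rw [Ne, AdjoinRoot.mk_eq_zero]
    intro hd
    obtain ⟨p, hp⟩ := hψ0
    apply hp
    rw [hu, ← φ.map_zero]
    exact hmk (by rw [sub_zero]; exact dvd_mul_of_dvd_right hd p)
  have hfix : σ (AdjoinRoot.mk r u) = AdjoinRoot.mk r u := by
    by_contra hne
    set e := (u.map θ).comp Xi
    have hcop : ¬ r ∣ e - u := fun h => hne (by rw [hσp]; exact AdjoinRoot.mk_eq_mk.2 h)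
    have hkill : ∀ p, φ (p * (e - u)) = 0 := by
      intro p
      obtain ⟨p₀, hp₀⟩ : ∃ p₀ : F[X], r ∣ X ^ D * (p₀.map θ).comp Xi - p := by
        obtain ⟨y, hy⟩ := AdjoinRoot.mk_surjective (σ (a⁻¹ ^ D * AdjoinRoot.mk r p))
        refine ⟨y, AdjoinRoot.mk_eq_mk.1 ?_⟩
        rw [map_mul, map_pow, AdjoinRoot.mk_X, ← ha, ← hσp, hy, hσσ, ← mul_assoc, ← mul_pow,
          mul_inv_cancel₀ (left_ne_zero_of_mul_eq_one hXia), one_pow, one_mul]
      have hκ : κ ≠ 0 := by
        rintro rfl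
        obtain ⟨p, hp⟩ := hψ0
        exact hp (by rw [sψ, zero_mul])
      have h1 := sψ p₀
      rw [hu p₀, sφ (p₀ * u), hu (X ^ D * _)] at h1
      have h2 := θ.injective (mul_left_cancel₀ hκ h1)
      rw [Polynomial.map_mul, mul_comp, ← mul_assoc] at h2
      have e1 : φ (X ^ D * (p₀.map θ).comp Xi * e) = φ (p * e) :=
        hmk (by rw [← sub_mul]; exact dvd_mul_of_dvd_left hp₀ _)
      have e2 : φ (X ^ D * (p₀.map θ).comp Xi * u) = φ (p * u) :=
        hmk (by rw [← sub_mul]; exact dvd_mul_of_dvd_left hp₀ _)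
      rw [mul_sub, map_sub, sub_eq_zero, ← e1, ← e2]
      first | exact h2 | exact h2.symm
    obtain ⟨p, hp⟩ := hφ0
    apply hp
    obtain ⟨t, ht⟩ := AdjoinRoot.mk_surjective ((AdjoinRoot.mk r (e - u))⁻¹ * AdjoinRoot.mk r p)
    rw [← hkill t]
    refine hmk (AdjoinRoot.mk_eq_mk.1 ?_)
    rw [map_mul, ht, mul_comm _ (AdjoinRoot.mk r (e - u)), ← mul_assoc,
      mul_inv_cancel₀ (by rwa [Ne, AdjoinRoot.mk_eq_zero]), one_mul]
  have hne : ∃ x, σ x ≠ x := by
    by_contra h
    simp only [not_exists, ne_eq, not_not] at h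
    apply hlin
    refine ⟨fun c => ?_, ?_⟩
    · have := h (AdjoinRoot.of r c)
      rw [show σ (AdjoinRoot.of r c) = AdjoinRoot.of r (θ c) from AdjoinRoot.lift_of _] at this
      exact (AdjoinRoot.of r).injective this
    · have h1 := h a
      rw [hσa] at h1
      rw [h1] at hXia
      have h2 : r ∣ (X - C 1) * (X + C 1) := by
        rw [← AdjoinRoot.mk_eq_zero, map_mul, map_sub, map_add, AdjoinRoot.mk_X, map_one, map_one, ← ha]
        linear_combination hXia
      rcases hi.prime.dvd_or_dvd h2 with h3 | h3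
      · exact Or.inl (eq_of_monic_of_associated hm (monic_X_sub_C 1)
          (hi.associated_of_dvd (irreducible_X_sub_C 1) h3))
      · exact Or.inr (eq_of_monic_of_associated hm (monic_X_add_C 1)
          (hi.associated_of_dvd (by rw [← sub_neg_eq_add, ← C_neg]; exact irreducible_X_sub_C _) h3))
  obtain ⟨w, hw0, hw⟩ := exists_norm_eq σ hσσ hne hfix hu0
  obtain ⟨w, rfl⟩ := AdjoinRoot.mk_surjective w
  refine ⟨w, fun h => hw0 (AdjoinRoot.mk_eq_zero.2 h), fun p => ?_⟩
  rw [hu]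
  refine hmk ?_
  rw [← mul_sub]
  refine dvd_mul_of_dvd_right (AdjoinRoot.mk_eq_mk.1 ?_) p
  rw [map_mul, ← hσp, hw]

end Cfsg.Agent.Lib.ClassNumber
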