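import Cfsg.Agent.Lib.ClassNumber.Recip
import Cfsg.Agent.Lib.Similarity.KerDim

/-!
Spaces with a non-degenerate sesquilinear form and an isometry: basic adjointness, kernels and
orthogonal decompositions.
-/

set_option autoImplicit false

namespace Cfsg.Agent.Lib.ClassNumber

open Polynomial Module

universe u v

variable {F : Type v} [Field F]

/-- A non-degenerate `(θ, η)`-hermitian form with an isometry `A`. -/
structure IForm (θ : F →+* F) (η : F) (V : Type u) [AddCommGroup V] [Module F V] where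
  /-- the form -/
  B : V → V → F
  /-- the isometry -/
  A : V ≃ₗ[F] V
  add_left : ∀ x y z, B (x + y) z = B x z + B y z
  smul_left : ∀ (c : F) x y, B (c • x) y = c * B x y
  symm : ∀ x y, B x y = η * θ (B y x)
  nd : ∀ y, (∀ x, B x y = 0) → y = 0
  iso : ∀ x y, B (A x) (A y) = B x y
  inv : ∀ a, θ (θ a) = a

variable {θ : F →+* F} {η : F} {V : Type u} [AddCommGroup V] [Module F V] (T : IForm θ η V)

namespace IForm

/-- The value of a polynomial at the isometry. -/
noncomputable def op (p : F[X]) : End F V := aeval T.A.toLinearMap p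

/-- The value of a polynomial at the inverse of the isometry. -/
noncomputable def op' (p : F[X]) : End F V := aeval T.A.symm.toLinearMap p

theorem A_mul : T.A.toLinearMap * T.A.symm.toLinearMap = (1 : End F V) :=
  LinearMap.ext fun x => T.A.apply_symm_apply x

theorem A_mul' : T.A.symm.toLinearMap * T.A.toLinearMap = (1 : End F V) :=
  LinearMap.ext fun x => T.A.symm_apply_apply x

theorem op_mul_apply (p q : F[X]) (x : V) : T.op (p * q) x = T.op p (T.op q x) := by
  rw [op, map_mul]; rfl

theorem op_add_apply (p q : F[X]) (x : V) : T.op (p + q) x = T.op p x + T.op q x := by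
  rw [op, map_add]; rfl

theorem op_sub_apply (p q : F[X]) (x : V) : T.op (p - q) x = T.op p x - T.op q x := by
  rw [op, map_sub]; rfl

theorem op_C_apply (c : F) (x : V) : T.op (C c) x = c • x := by rw [op, aeval_C]; rfl

theorem op_one_apply (x : V) : T.op 1 x = x := by rw [op, map_one]; rfl

theorem op_X_apply (x : V) : T.op X x = T.A x := by rw [op, aeval_X]; rfl

theorem op_X_pow_apply (d : ℕ) (x : V) : T.op (X ^ d) x = (T.A.toLinearMap ^ d) x := by
  rw [op, map_pow, aeval_X]

theorem op_eq_zero_of_dvd {p q : F[X]} (h : p ∣ q) {x : V} (hx : T.op p x = 0) : T.op q x = 0 := by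
  obtain ⟨t, rfl⟩ := h
  rw [mul_comm, op_mul_apply, hx, map_zero]

theorem op_eq_of_dvd {m p q : F[X]} (h : m ∣ p - q) {x : V} (hx : T.op m x = 0) : T.op p x = T.op q x := by
  rw [← sub_eq_zero, ← op_sub_apply]
  exact T.op_eq_zero_of_dvd h hx

theorem zero_left (y : V) : T.B 0 y = 0 := by
  simpa using T.smul_left 0 0 y

theorem zero_right (x : V) : T.B x 0 = 0 := by rw [T.symm, zero_left, map_zero, mul_zero]

theorem add_right (x y z : V) : T.B x (y + z) = T.B x y + T.B x z := by
  rw [T.symm, T.add_left, map_add, mul_add, ← T.symm, ← T.symm]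

theorem smul_right (c : F) (x y : V) : T.B x (c • y) = θ c * T.B x y := by
  rw [T.symm, T.smul_left, map_mul, mul_left_comm, ← T.symm]

theorem sub_left (x y z : V) : T.B (x - y) z = T.B x z - T.B y z := by
  rw [eq_sub_iff_add_eq, ← T.add_left, sub_add_cancel]

theorem sub_right (x y z : V) : T.B x (y - z) = T.B x y - T.B x z := by
  rw [eq_sub_iff_add_eq, ← T.add_right, sub_add_cancel]

theorem sum_left {ι : Type*} (s : Finset ι) (f : ι → V) (y : V) :
    T.B (∑ i ∈ s, f i) y = ∑ i ∈ s, T.B (f i) y := by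
  classical
  induction s using Finset.induction with
  | empty => simp [zero_left]
  | @insert a s ha ih => rw [Finset.sum_insert ha, Finset.sum_insert ha, T.add_left, ih]

theorem sum_right {ι : Type*} (s : Finset ι) (x : V) (f : ι → V) :
    T.B x (∑ i ∈ s, f i) = ∑ i ∈ s, T.B x (f i) := by
  classical
  induction s using Finset.induction with
  | empty => simp [zero_right]
  | @insert a s ha ih => rw [Finset.sum_insert ha, Finset.sum_insert ha, T.add_right, ih]

theorem eq_zero_comm {x y : V} (h : T.B x y = 0) : T.B y x = 0 := by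
  rw [T.symm, h, map_zero, mul_zero]

theorem nd' (x : V) (h : ∀ y, T.B x y = 0) : x = 0 := T.nd x fun y => T.eq_zero_comm (h y)

theorem iso_pow (d : ℕ) (x y : V) : T.B ((T.A.toLinearMap ^ d) x) ((T.A.toLinearMap ^ d) y) = T.B x y := by
  induction d generalizing x y with
  | zero => rfl
  | succ d ih => rw [pow_succ]; exact (ih _ _).trans (T.iso x y)

theorem pow_symm_cancel (d : ℕ) (y : V) : (T.A.toLinearMap ^ d) ((T.A.symm.toLinearMap ^ d) y) = y := by
  rw [← Module.End.mul_apply, ← (show Commute T.A.toLinearMap T.A.symm.toLinearMap from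
    T.A_mul.trans T.A_mul'.symm).mul_pow, T.A_mul, one_pow]
  rfl

theorem adj (p : F[X]) (x y : V) : T.B (T.op p x) y = T.B x (T.op' (p.map θ) y) := by
  induction p using Polynomial.induction_on' with
  | add p q hp hq =>
    simp only [op_add_apply, T.add_left, hp, hq, Polynomial.map_add, op', map_add, LinearMap.add_apply,
      T.add_right]
  | monomial k c =>
    rw [map_monomial, op', op, aeval_monomial, aeval_monomial]
    show T.B (c • (T.A.toLinearMap ^ k) x) y = T.B x (θ c • (T.A.symm.toLinearMap ^ k) y)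
    conv_lhs => rw [← T.pow_symm_cancel k y, T.smul_left, T.iso_pow]
    rw [T.smul_right, T.inv]

theorem A_symm_apply_eq (x : V) : T.A.symm.toLinearMap x = T.A.symm x := rfl

theorem adj' (p : F[X]) (x y : V) : T.B x (T.op p y) = T.B (T.op' (p.map θ) x) y := by
  rw [T.symm, T.adj, ← T.symm]

theorem op_symm_of_kill {M Xi : F[X]} (hXi : M ∣ X * Xi - 1) {x : V} (hx : T.op M x = 0) :
    T.op Xi x = T.A.symm x := by
  apply T.A.injective
  rw [T.A.apply_symm_apply, ← T.op_X_apply, ← T.op_mul_apply, T.op_eq_of_dvd hXi hx, T.op_one_apply]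

theorem op_comm_apply (p q : F[X]) (x : V) : T.op p (T.op q x) = T.op q (T.op p x) := by
  rw [← op_mul_apply, mul_comm, op_mul_apply]

theorem op'_eq_of_kill {M Xi : F[X]} (hXi : M ∣ X * Xi - 1) (p : F[X]) :
    ∀ x : V, T.op M x = 0 → T.op' p x = T.op (p.comp Xi) x := by
  induction p using Polynomial.induction_on with
  | C c => intro x _; rw [C_comp, op', aeval_C, op_C_apply]; rfl
  | add p q hp hq =>
    intro x hx
    rw [add_comp, op', map_add, op_add_apply, ← hp x hx, ← hq x hx]; rfl
  | monomial k c ih =>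
    intro x hx
    rw [show (C c * X ^ (k + 1) : F[X]) = C c * X ^ k * X by rw [pow_succ, mul_assoc], mul_comp, X_comp,
      op_mul_apply, ← ih _ (by rw [op_comm_apply, hx, map_zero]), op', map_mul, aeval_X,
      op_symm_of_kill T hXi hx]
    rfl

/-- The twisted bar of a polynomial with respect to an inverse `Xi` of `X`. -/
noncomputable def bar (θ : F →+* F) (Xi p : F[X]) : F[X] := (p.map θ).comp Xi

theorem adj_bar {M Xi : F[X]} (hXi : M ∣ X * Xi - 1) (p : F[X]) (x : V) {y : V} (hy : T.op M y = 0) :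
    T.B (T.op p x) y = T.B x (T.op (bar θ Xi p) y) := by
  rw [T.adj, T.op'_eq_of_kill hXi _ y hy]; rfl

theorem adj_bar' {M Xi : F[X]} (hXi : M ∣ X * Xi - 1) (p : F[X]) {x : V} (hx : T.op M x = 0) (y : V) :
    T.B x (T.op p y) = T.B (T.op (bar θ Xi p) x) y := by
  rw [T.adj', T.op'_eq_of_kill hXi _ x hx]; rfl

theorem op'_map_apply {g : F[X]} (h0 : g.coeff 0 ≠ 0) (y : V) :
    T.op' (g.map θ) y = θ (g.coeff 0) • T.op (srp θ g) ((T.A.symm.toLinearMap ^ g.natDegree) y) := by
  rw [op', aeval_inv_map T.A_mul' T.A_mul h0]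
  rfl

theorem op_symm_pow_comm (p : F[X]) (d : ℕ) (y : V) :
    T.op p ((T.A.symm.toLinearMap ^ d) y) = (T.A.symm.toLinearMap ^ d) (T.op p y) := by
  have h : Commute T.A.toLinearMap T.A.symm.toLinearMap := T.A_mul.trans T.A_mul'.symm
  have h2 : Commute (T.op p) (T.A.symm.toLinearMap ^ d) := by
    refine Commute.pow_right ?_ d
    unfold op
    induction p using Polynomial.induction_on' with
    | add p q hp hq => rw [map_add]; exact hp.add_left hq
    | monomial k c =>
      rw [aeval_monomial]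
      exact (Algebra.commute_algebraMap_left c _).mul_left (h.pow_left k)
  exact LinearMap.congr_fun h2 y

/-- The fundamental adjointness of `op g` for a self-reciprocal `g`. -/
theorem adj_self {g : F[X]} (hg : srp θ g = g) (h0 : g.coeff 0 ≠ 0) (x y : V) :
    T.B (T.op g x) y = g.coeff 0 * T.B (T.op (X ^ g.natDegree) x) (T.op g y) := by
  rw [T.adj, T.op'_map_apply h0, hg, T.smul_right, T.inv]
  congr 1
  rw [T.op_symm_pow_comm, op_X_pow_apply]
  conv_rhs => rw [← T.pow_symm_cancel g.natDegree (T.op g y), T.iso_pow]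

/-- An orthogonality criterion. -/
theorem B_op_eq_zero {h : F[X]} (h0 : h.coeff 0 ≠ 0) {y : V} (hy : T.op (srp θ h) y = 0) (z : V) :
    T.B (T.op h z) y = 0 := by
  rw [T.adj, T.op'_map_apply h0, T.op_symm_pow_comm, hy, map_zero, smul_zero, T.zero_right]

theorem isCompl_ker_range [FiniteDimensional F V] {h : F[X]}
    (hh : ∀ x, T.op h (T.op h x) = 0 → T.op h x = 0) :
    IsCompl (LinearMap.ker (T.op h)) (LinearMap.range (T.op h)) := by
  have hd : Disjoint (LinearMap.ker (T.op h)) (LinearMap.range (T.op h)) := by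
    rw [Submodule.disjoint_def]
    rintro _ hx ⟨y, rfl⟩
    exact hh y hx
  refine ⟨hd, codisjoint_iff.2 (Submodule.eq_top_of_disjoint _ _ ?_ hd)⟩
  rw [← LinearMap.finrank_range_add_finrank_ker (T.op h)]
  omega

/-- On a generalised eigenspace pairing with the reciprocal one is non-degenerate. -/
theorem eq_zero_of_orth_ker [FiniteDimensional F V] {h : F[X]} (h0 : h.coeff 0 ≠ 0)
    (hh : ∀ x, T.op h (T.op h x) = 0 → T.op h x = 0) {y : V} (hy : T.op (srp θ h) y = 0)
    (hort : ∀ x, T.op h x = 0 → T.B x y = 0) : y = 0 := by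
  refine T.nd y fun x => ?_
  have hx : x ∈ LinearMap.ker (T.op h) ⊔ LinearMap.range (T.op h) := by
    rw [(T.isCompl_ker_range hh).sup_eq_top]; trivial
  obtain ⟨a, ha, b, ⟨z, rfl⟩, rfl⟩ := Submodule.mem_sup.1 hx
  rw [T.add_left, hort a ha, T.B_op_eq_zero h0 hy, add_zero]

theorem A_symm_mem [FiniteDimensional F V] {U : Submodule F V} (hU : ∀ x ∈ U, T.A x ∈ U) {x : V}
    (hx : x ∈ U) : T.A.symm x ∈ U := by
  let f : U →ₗ[F] U := T.A.toLinearMap.restrict hU
  have hinj : Function.Injective f := fun a b h =>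
    Subtype.ext (T.A.injective (congrArg Subtype.val h))
  obtain ⟨y, hy⟩ := (LinearMap.injective_iff_surjective).1 hinj ⟨x, hx⟩
  have : T.A (y : V) = x := congrArg Subtype.val hy
  rw [← this, T.A.symm_apply_apply]
  exact y.2

/-- Restriction to an invariant non-degenerate subspace. -/
noncomputable def restrict [FiniteDimensional F V] (U : Submodule F V) (hU : ∀ x ∈ U, T.A x ∈ U)
    (hnd : ∀ y ∈ U, (∀ x ∈ U, T.B x y = 0) → y = 0) : IForm θ η U where
  B x y := T.B x y
  A := LinearEquiv.ofInjectiveEndo (T.A.toLinearMap.restrict hU)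
    (fun a b h => Subtype.ext (T.A.injective (congrArg Subtype.val h)))
  add_left x y z := T.add_left _ _ _
  smul_left c x y := T.smul_left c _ _
  symm x y := T.symm _ _
  nd y h := Subtype.ext (hnd y y.2 fun x hx => h ⟨x, hx⟩)
  iso x y := T.iso _ _
  inv := T.inv

/-- The orthogonal subspace. -/
def orth (U : Submodule F V) : Submodule F V where
  carrier := {w | ∀ u ∈ U, T.B w u = 0}
  add_mem' := fun {a b} ha hb u hu => by rw [T.add_left, ha u hu, hb u hu, add_zero]
  zero_mem' := fun u _ => T.zero_left u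
  smul_mem' := fun c w hw u hu => by rw [T.smul_left, hw u hu, mul_zero]

theorem mem_orth {U : Submodule F V} {w : V} : w ∈ T.orth U ↔ ∀ u ∈ U, T.B w u = 0 := Iff.rfl

theorem orth_invariant [FiniteDimensional F V] {U : Submodule F V} (hU : ∀ x ∈ U, T.A x ∈ U) :
    ∀ w ∈ T.orth U, T.A w ∈ T.orth U := by
  intro w hw u hu
  rw [← T.A.apply_symm_apply u, T.iso]
  exact hw _ (T.A_symm_mem hU hu)

/-- Pairing with a basis of a subspace. -/
noncomputable def pairing [FiniteDimensional F V] (U : Submodule F V) :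
    V →ₗ[F] (Fin (finrank F U) → F) where
  toFun w i := T.B w (finBasis F U i)
  map_add' x y := funext fun i => T.add_left _ _ _
  map_smul' c x := funext fun i => T.smul_left _ _ _

theorem eq_zero_of_pairing [FiniteDimensional F V] {U : Submodule F V} {w : V} (h : T.pairing U w = 0)
    {u : V} (hu : u ∈ U) : T.B w u = 0 := by
  have h1 : ((⟨u, hu⟩ : U) : V) = ∑ i, (finBasis F U).repr ⟨u, hu⟩ i • ((finBasis F U i : U) : V) := by
    conv_lhs => rw [← (finBasis F U).sum_repr ⟨u, hu⟩]
    push_cast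
    rfl
  have h1' : u = ∑ i, (finBasis F U).repr ⟨u, hu⟩ i • ((finBasis F U i : U) : V) := h1
  rw [h1', T.sum_right]
  refine Finset.sum_eq_zero fun i _ => ?_
  rw [T.smul_right, show T.B w (finBasis F U i) = 0 from congrFun h i, mul_zero]

theorem isCompl_orth [FiniteDimensional F V] {U : Submodule F V}
    (hnd : ∀ y ∈ U, (∀ x ∈ U, T.B x y = 0) → y = 0) : IsCompl U (T.orth U) := by
  have hd : Disjoint U (T.orth U) := by
    rw [Submodule.disjoint_def]
    intro x hx hxo
    exact hnd x hx fun u hu => T.eq_zero_comm (hxo u hu)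
  refine ⟨hd, codisjoint_iff.2 (eq_top_iff.2 ?_)⟩
  have hker : LinearMap.ker (T.pairing U) = T.orth U := by
    ext w
    exact ⟨fun h u hu => T.eq_zero_of_pairing h hu, fun h => funext fun i => h _ (finBasis F U i).2⟩
  have h1 := LinearMap.finrank_range_add_finrank_ker (T.pairing U)
  have h2 : finrank F (LinearMap.range (T.pairing U)) ≤ finrank F U :=
    (Submodule.finrank_le _).trans (by rw [finrank_fin_fun])
  rw [hker] at h1
  have h3 := Submodule.finrank_sup_add_finrank_inf_eq U (T.orth U)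
  rw [hd.eq_bot, finrank_bot] at h3
  have h4 := Submodule.finrank_le (U ⊔ T.orth U)
  exact (Submodule.eq_top_of_finrank_eq (by omega)).ge

theorem orth_nd [FiniteDimensional F V] {U : Submodule F V}
    (hnd : ∀ y ∈ U, (∀ x ∈ U, T.B x y = 0) → y = 0) :
    ∀ y ∈ T.orth U, (∀ x ∈ T.orth U, T.B x y = 0) → y = 0 := by
  intro y hy h
  refine T.nd y fun x => ?_
  have hx : x ∈ U ⊔ T.orth U := by rw [(T.isCompl_orth hnd).sup_eq_top]; trivial
  obtain ⟨a, ha, b, hb, rfl⟩ := Submodule.mem_sup.1 hx
  rw [T.add_left, T.eq_zero_comm (hy a ha), h b hb, add_zero]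

theorem restrict_op [FiniteDimensional F V] {U : Submodule F V} (hU : ∀ x ∈ U, T.A x ∈ U)
    (hnd : ∀ y ∈ U, (∀ x ∈ U, T.B x y = 0) → y = 0) (p : F[X]) (x : U) :
    ((T.restrict U hU hnd).op p x : V) = T.op p x := by
  induction p using Polynomial.induction_on generalizing x with
  | C c => rw [op_C_apply, op_C_apply]; rfl
  | add p q hp hq => rw [op_add_apply, op_add_apply, Submodule.coe_add, hp, hq]
  | monomial k c ih =>
    have h1 : (C c * X ^ (k + 1) : F[X]) = C c * X ^ k * X := by rw [pow_succ, mul_assoc]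
    rw [h1, (T.restrict U hU hnd).op_mul_apply (C c * X ^ k) X x, T.op_mul_apply (C c * X ^ k) X x, ih,
      op_X_apply, op_X_apply]
    rfl

/-- Isometric conjugacy. -/
def Equiv' {W : Type u} [AddCommGroup W] [Module F W] (T : IForm θ η V) (S : IForm θ η W) : Prop :=
  ∃ e : V ≃ₗ[F] W, (∀ x y, S.B (e x) (e y) = T.B x y) ∧ ∀ x, e (T.A x) = S.A (e x)

theorem equiv_of_parts [FiniteDimensional F V] {W : Type u} [AddCommGroup W] [Module F W]
    [FiniteDimensional F W] {S : IForm θ η W}
    {U : Submodule F V} (hU : ∀ x ∈ U, T.A x ∈ U) (hnd : ∀ y ∈ U, (∀ x ∈ U, T.B x y = 0) → y = 0)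
    {U' : Submodule F W} (hU' : ∀ x ∈ U', S.A x ∈ U')
    (hnd' : ∀ y ∈ U', (∀ x ∈ U', S.B x y = 0) → y = 0)
    (h1 : Equiv' (T.restrict U hU hnd) (S.restrict U' hU' hnd'))
    (h2 : Equiv' (T.restrict (T.orth U) (T.orth_invariant hU) (T.orth_nd hnd))
      (S.restrict (S.orth U') (S.orth_invariant hU') (S.orth_nd hnd'))) : Equiv' T S := by
  obtain ⟨e, he, heA⟩ := h1
  obtain ⟨f, hf, hfA⟩ := h2
  let P := Submodule.prodEquivOfIsCompl _ _ (T.isCompl_orth hnd)
  let P' := Submodule.prodEquivOfIsCompl _ _ (S.isCompl_orth hnd')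
  refine ⟨P.symm.trans ((e.prodCongr f).trans P'), fun x y => ?_, fun x => ?_⟩
  · obtain ⟨⟨a, b⟩, rfl⟩ := P.surjective x
    obtain ⟨⟨c, d⟩, rfl⟩ := P.surjective y
    simp only [LinearEquiv.trans_apply, LinearEquiv.symm_apply_apply, LinearEquiv.prodCongr_apply]
    show S.B ((e a : W) + (f b : W)) ((e c : W) + (f d : W)) = T.B ((a : V) + (b : V)) ((c : V) + (d : V))
    simp only [T.add_left, T.add_right, S.add_left, S.add_right]
    rw [(f b).2 _ (e c).2, S.eq_zero_comm ((f d).2 _ (e a).2), b.2 _ c.2, T.eq_zero_comm (d.2 _ a.2)]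
    congr 1
    · congr 1
      exact he a c
    · congr 1
      exact hf b d
  · obtain ⟨⟨a, b⟩, rfl⟩ := P.surjective x
    have hA : T.A (P (a, b)) = P ((T.restrict U hU hnd).A a,
        (T.restrict (T.orth U) (T.orth_invariant hU) (T.orth_nd hnd)).A b) :=
      (map_add T.A (a : V) (b : V)).trans (show T.A (a : V) + T.A (b : V) = _ from rfl)
    rw [hA]
    simp only [LinearEquiv.trans_apply, LinearEquiv.symm_apply_apply, LinearEquiv.prodCongr_apply,
      heA, hfA]
    exact ((map_add S.A (e a : W) (f b : W)).trans (show S.A (e a : W) + S.A (f b : W) = _ from rfl)).symm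

theorem finrank_ker_add [FiniteDimensional F V] {U : Submodule F V} (hU : ∀ x ∈ U, T.A x ∈ U)
    (hnd : ∀ y ∈ U, (∀ x ∈ U, T.B x y = 0) → y = 0) (p : F[X]) :
    finrank F (LinearMap.ker (T.op p)) = finrank F (LinearMap.ker ((T.restrict U hU hnd).op p)) +
      finrank F (LinearMap.ker ((T.restrict (T.orth U) (T.orth_invariant hU) (T.orth_nd hnd)).op p)) := by
  set Q := (T.restrict U hU hnd).op p
  set R := (T.restrict (T.orth U) (T.orth_invariant hU) (T.orth_nd hnd)).op p
  let P := Submodule.prodEquivOfIsCompl _ _ (T.isCompl_orth hnd)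
  have hc : ∀ z, T.op p (P z) = P (Q.prodMap R z) := by
    rintro ⟨a, b⟩
    show T.op p ((a : V) + (b : V)) = (Q a : V) + (R b : V)
    rw [map_add, T.restrict_op, T.restrict_op]
  have hk : LinearMap.ker (T.op p) = (LinearMap.ker (Q.prodMap R)).map P.toLinearMap := by
    ext x
    obtain ⟨z, rfl⟩ := P.surjective x
    rw [LinearMap.mem_ker, hc, P.map_eq_zero_iff, Submodule.mem_map_equiv, P.symm_apply_apply,
      LinearMap.mem_ker]
  rw [hk, LinearEquiv.finrank_map_eq, LinearMap.ker_prodMap, ← Module.finrank_prod]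
  exact LinearEquiv.finrank_eq
    { toFun := fun x => (⟨x.1.1, x.2.1⟩, ⟨x.1.2, x.2.2⟩)
      map_add' := fun _ _ => rfl
      map_smul' := fun _ _ => rfl
      invFun := fun x => ⟨(x.1.1, x.2.1), x.1.2, x.2.2⟩
      left_inv := fun _ => rfl
      right_inv := fun _ => rfl }

end IForm

end Cfsg.Agent.Lib.ClassNumber
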