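import Cfsg.Agent.Lib.ClassNumber.Codes
import Cfsg.Agent.Lib.ClassNumber.Pal

/-!
The weighted count of admissible symplectic codes in odd characteristic.
-/

set_option autoImplicit false

namespace Cfsg.Agent.Lib.ClassNumber

open Polynomial Cfsg.Agent.Lib.GLClasses UniqueFactorizationMonoid
open scoped Classical

variable {F : Type*} [Field F] [Fintype F]

/-- Weight of a multiplicity: two choices for a non-empty block of even size. -/
def mwt (J a : ℕ) : ℕ := if Even J ∧ a ≠ 0 then 2 else 1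

/-- The data attached to one block size. -/
noncomputable def dat (F : Type*) [Field F] [Fintype F] (M J : ℕ) : Finset (ℕ × ℕ × F[X]) :=
  ((Finset.range (M + 1)).filter fun a => Odd J → Even a) ×ˢ
    (((Finset.range (M + 1)).filter fun a => Odd J → Even a) ×ˢ (Finset.range (M + 1)).biUnion (pal F))

/-- The size (half of the dimension) of a datum. -/
noncomputable def dsz (J : ℕ) (x : ℕ × ℕ × F[X]) : ℕ := J * (x.1 + x.2.1 + x.2.2.natDegree) / 2

/-- The weight of a datum. -/
noncomputable def dwt (J : ℕ) (x : ℕ × ℕ × F[X]) : ℕ := mwt J x.1 * mwt J x.2.1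

/-- A weighted count of tuples of data with given total size. -/
theorem gen_bound {α : Type*} {m : ℕ} (q : ℕ) (hq : 0 < q) (N : ℕ) (D : Fin (m + 1) → Finset α)
    (sz w : Fin (m + 1) → α → ℕ) (B : Fin m → ℚ)
    (h0 : ∀ s, ∑ a ∈ (D 0).filter (fun a => sz 0 a = s), w 0 a ≤ q ^ s)
    (hS : ∀ i : Fin m, ∑ a ∈ D i.succ, (w i.succ a : ℚ) * (1 / q : ℚ) ^ sz i.succ a ≤ B i) :
    (∑ x ∈ (Fintype.piFinset D).filter (fun x => ∑ j, sz j (x j) = N), ∏ j, w j (x j) : ℕ) ≤
      (q : ℚ) ^ N * ∏ i, B i := by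
  have hq' : (0 : ℚ) < q := by exact_mod_cast hq
  set R := Fintype.piFinset fun i : Fin m => D i.succ
  have h1 : (∑ x ∈ (Fintype.piFinset D).filter (fun x => ∑ j, sz j (x j) = N), ∏ j, w j (x j)) =
      ∑ p ∈ (D 0 ×ˢ R).filter (fun p => sz 0 p.1 + ∑ i : Fin m, sz i.succ (p.2 i) = N),
        w 0 p.1 * ∏ i : Fin m, w i.succ (p.2 i) := by
    refine Finset.sum_bij' (fun x _ => (x 0, fun i => x i.succ)) (fun p _ => Fin.cons p.1 p.2)
      ?_ ?_ (fun x _ => ?_) (fun p _ => by simp) (fun x _ => Fin.prod_univ_succ _)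
    · intro x hx
      simp only [Finset.mem_filter, Fintype.mem_piFinset, Finset.mem_product, R] at hx ⊢
      exact ⟨⟨hx.1 0, fun i => hx.1 i.succ⟩, by rw [← hx.2, Fin.sum_univ_succ]⟩
    · intro p hp
      simp only [Finset.mem_filter, Fintype.mem_piFinset, Finset.mem_product, R] at hp ⊢
      refine ⟨fun j => ?_, ?_⟩
      · refine Fin.cases ?_ (fun i => ?_) j
        · simpa using hp.1.1
        · simpa using hp.1.2 i
      · rw [Fin.sum_univ_succ]; simpa using hp.2
    · funext j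
      refine Fin.cases ?_ (fun i => ?_) j <;> simp
  rw [h1, Finset.sum_filter, Finset.sum_product_right]
  push_cast
  refine le_trans (Finset.sum_le_sum (g := fun r => (q : ℚ) ^ N *
    ∏ i : Fin m, ((w i.succ (r i) : ℚ) * (1 / q : ℚ) ^ sz i.succ (r i))) fun r _ => ?_) ?_
  · set T := ∑ i : Fin m, sz i.succ (r i) with hT
    rcases le_or_gt T N with hTN | hTN
    · have e : ∑ a ∈ D 0, (if sz 0 a + T = N then ((w 0 a : ℚ) * ∏ i : Fin m, (w i.succ (r i) : ℚ)) else 0) =
          ((∑ a ∈ (D 0).filter (fun a => sz 0 a = N - T), w 0 a : ℕ) : ℚ) *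
            ∏ i : Fin m, (w i.succ (r i) : ℚ) := by
        rw [Nat.cast_sum, Finset.sum_mul, Finset.sum_filter]
        exact Finset.sum_congr rfl fun a _ => by
          refine if_congr ⟨fun h => by omega, fun h => by omega⟩ rfl rfl
      rw [e, Finset.prod_mul_distrib, Finset.prod_pow_eq_pow_sum, ← hT]
      calc ((∑ a ∈ (D 0).filter (fun a => sz 0 a = N - T), w 0 a : ℕ) : ℚ) * ∏ i : Fin m, (w i.succ (r i) : ℚ)
          ≤ ((q : ℚ) ^ (N - T)) * ∏ i : Fin m, (w i.succ (r i) : ℚ) :=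
            mul_le_mul_of_nonneg_right (by exact_mod_cast h0 (N - T))
              (Finset.prod_nonneg fun i _ => Nat.cast_nonneg _)
        _ = _ := by
            rw [one_div, inv_pow, show (q : ℚ) ^ N = (q : ℚ) ^ (N - T) * (q : ℚ) ^ T by
              rw [← pow_add, Nat.sub_add_cancel hTN]]
            field_simp
    · rw [Finset.sum_eq_zero fun a _ => if_neg (by omega)]
      exact mul_nonneg (by positivity) (Finset.prod_nonneg fun i _ => by positivity)
  · rw [← Finset.mul_sum, show R = Fintype.piFinset (fun i : Fin m => D i.succ) from rfl,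
      ← Finset.prod_univ_sum (fun i : Fin m => D i.succ)
        (fun (i : Fin m) a => (w i.succ a : ℚ) * (1 / q : ℚ) ^ sz i.succ a)]
    exact mul_le_mul_of_nonneg_left
      (Finset.prod_le_prod (fun i _ => Finset.sum_nonneg fun a _ => by positivity) fun i _ => hS i)
      (by positivity)

theorem geom_le {y : ℚ} (hy : 0 ≤ y) (hy1 : y < 1) (M : ℕ) : ∑ c ∈ Finset.range M, y ^ c ≤ 1 / (1 - y) := by
  rw [le_div_iff₀ (by linarith)]
  have := geom_sum_mul y M
  nlinarith [pow_nonneg hy M]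

theorem sum_mwt_even {J : ℕ} (hJ : Even J) {z : ℚ} (hz : 0 ≤ z) (hz1 : z < 1) (M : ℕ) :
    ∑ a ∈ (Finset.range (M + 1)).filter (fun a => Odd J → Even a), (mwt J a : ℚ) * z ^ a ≤ (1 + z) / (1 - z) := by
  rw [Finset.filter_true_of_mem fun a _ h => absurd hJ (Nat.not_even_iff_odd.2 h), Finset.sum_range_succ']
  have h1 : ∀ k : ℕ, (mwt J (k + 1) : ℚ) * z ^ (k + 1) = 2 * z * z ^ k := fun k => by
    simp [mwt, hJ, pow_succ]; ring
  simp only [h1, ← Finset.mul_sum]
  have h2 := geom_le hz hz1 M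
  have h3 : (mwt J 0 : ℚ) = 1 := by simp [mwt]
  rw [h3, pow_zero, mul_one]
  have h4 : 2 * z * ∑ c ∈ Finset.range M, z ^ c ≤ 2 * z * (1 / (1 - z)) :=
    mul_le_mul_of_nonneg_left h2 (by linarith)
  have h5 : (1 + z) / (1 - z) = 2 * z * (1 / (1 - z)) + 1 := by
    field_simp [show (1 : ℚ) - z ≠ 0 by linarith]
    ring
  linarith

theorem sum_mwt_odd {J : ℕ} (hJ : Odd J) {y : ℚ} (hy : 0 ≤ y) (hy1 : y < 1) (M : ℕ) :
    ∑ a ∈ (Finset.range (M + 1)).filter (fun a => Odd J → Even a), (mwt J a : ℚ) * y ^ (a / 2) ≤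
      1 / (1 - y) := by
  have hw : ∀ a, mwt J a = 1 := fun a => by simp [mwt, Nat.not_even_iff_odd.2 hJ]
  simp only [hw, Nat.cast_one, one_mul]
  refine le_trans ?_ (geom_le hy hy1 (M + 1))
  rw [← Finset.sum_image (f := fun c => y ^ c) (g := fun a : ℕ => a / 2)]
  · refine Finset.sum_le_sum_of_subset_of_nonneg ?_ fun c _ _ => pow_nonneg hy c
    intro c hc
    obtain ⟨a, ha, rfl⟩ := Finset.mem_image.1 hc
    simp only [Finset.mem_filter, Finset.mem_range] at ha ⊢
    omega
  · intro a ha b hb h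
    simp only [Finset.coe_filter, Set.mem_setOf_eq] at ha hb
    obtain ⟨c, rfl⟩ := ha.2 hJ
    obtain ⟨d, rfl⟩ := hb.2 hJ
    simp only at h
    omega

theorem natDegree_of_mem_pal {d : ℕ} {h : F[X]} (hh : h ∈ pal F d) : h.natDegree = 2 * d := by
  obtain ⟨c, -, rfl⟩ := Finset.mem_image.1 hh
  have hp : ((X : F[X]) ^ 2 + 1).Monic := monic_X_pow_add (by
    rw [degree_one]; exact WithBot.coe_lt_coe.2 (show 0 < 2 by omega))
  have hp2 : ((X : F[X]) ^ 2 + 1).natDegree = 2 := by rw [← C_1, natDegree_X_pow_add_C]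
  rcases Nat.eq_zero_or_pos d with rfl | hd
  · simp [palPoly]
  rw [palPoly, natDegree_add_eq_left_of_natDegree_lt, hp.natDegree_pow, hp2, mul_comm]
  rw [hp.natDegree_pow, hp2]
  refine lt_of_le_of_lt (natDegree_sum_le_of_forall_le _ _ (n := 2 * d - 1) fun i _ => ?_) (by omega)
  refine natDegree_mul_le.trans ?_
  refine (Nat.add_le_add_right (natDegree_C_mul_X_pow_le _ _) _).trans ?_
  rw [hp.natDegree_pow, hp2]
  omega

theorem sum_pal (h2 : (2 : F) ≠ 0) (M : ℕ) (f : ℕ → ℚ) (hf : ∀ d, 0 ≤ f d) :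
    ∑ h ∈ (Finset.range M).biUnion (pal F), f (h.natDegree / 2) ≤
      ∑ d ∈ Finset.range M, (palNum (Fintype.card F) d : ℚ) * f d := by
  rw [Finset.sum_biUnion]
  · refine Finset.sum_le_sum fun d _ => ?_
    rw [Finset.sum_congr rfl fun h hh => by rw [natDegree_of_mem_pal hh, Nat.mul_div_cancel_left _ Nat.two_pos],
      Finset.sum_const, nsmul_eq_mul]
    exact mul_le_mul_of_nonneg_right (by exact_mod_cast card_pal h2 d) (hf d)
  · intro d _ e _ hde
    rw [Function.onFun, Finset.disjoint_left]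
    intro h h1 h3
    have := natDegree_of_mem_pal h1
    have := natDegree_of_mem_pal h3
    exact hde (by omega)

/-- The factor of a block size in the generating function. -/
def blockFactor (x : ℚ) (J : ℕ) : ℚ := (if Even J then (1 + x ^ (J / 2)) ^ 4 else 1) / (1 - x ^ (J - 1))

theorem dat_even {J : ℕ} {x : ℕ × ℕ × F[X]} {M : ℕ} (hx : x ∈ dat F M J) :
    ∃ d, x.2.2.natDegree = 2 * d ∧ (Odd J → Even x.1 ∧ Even x.2.1) := by
  simp only [dat, Finset.mem_product, Finset.mem_filter, Finset.mem_biUnion] at hx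
  obtain ⟨d, -, hd⟩ := hx.2.2
  exact ⟨d, natDegree_of_mem_pal hd, fun h => ⟨hx.1.2 h, hx.2.1.2 h⟩⟩

theorem sum_dat_le (h2 : (2 : F) ≠ 0) (hq : 3 ≤ Fintype.card F) (M J : ℕ) (hJ : 2 ≤ J) :
    ∑ x ∈ dat F M J, (dwt J x : ℚ) * (1 / Fintype.card F : ℚ) ^ dsz J x ≤
      blockFactor (1 / Fintype.card F) J := by
  set q := Fintype.card F
  set u : ℚ := 1 / (q : ℚ) with hu
  have hq' : (3 : ℚ) ≤ q := by exact_mod_cast hq
  have hu0 : 0 < u := by positivity
  have hu1 : u < 1 := by rw [hu, div_lt_one (by linarith)]; linarith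
  have hqu : (q : ℚ) * u = 1 := by rw [hu]; field_simp
  have hqy : (q : ℚ) * u ^ J = u ^ (J - 1) := by
    rw [show u ^ J = u ^ (J - 1) * u by rw [← pow_succ, Nat.sub_add_cancel (by omega)], ← mul_assoc,
      mul_comm (q : ℚ), mul_assoc, hqu, mul_one]
  have hJ1 : u ^ (J - 1) < 1 := pow_lt_one₀ hu0.le hu1 (by omega)
  have hP : ∑ h ∈ (Finset.range (M + 1)).biUnion (pal F), (u ^ J) ^ (h.natDegree / 2) ≤
      (1 - u ^ J) ^ 2 / (1 - u ^ (J - 1)) := by
    refine (sum_pal h2 (M + 1) (fun d => (u ^ J) ^ d) fun d => by positivity).trans ?_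
    rw [← hqy]
    exact sum_palNum_le hq (by positivity) (by rw [hqy]; exact hJ1) _
  have hy1 : u ^ J < 1 := pow_lt_one₀ hu0.le hu1 (by omega)
  have hP0 : 0 ≤ ∑ h ∈ (Finset.range (M + 1)).biUnion (pal F), (u ^ J) ^ (h.natDegree / 2) :=
    Finset.sum_nonneg fun h _ => by positivity
  rcases Nat.even_or_odd J with hJe | hJo
  · obtain ⟨i, rfl⟩ := hJe
    have hz1 : u ^ i < 1 := pow_lt_one₀ hu0.le hu1 (by omega)
    have e : ∀ x ∈ dat F M (i + i), (dwt (i + i) x : ℚ) * u ^ dsz (i + i) x =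
        ((mwt (i + i) x.1 : ℚ) * (u ^ i) ^ x.1) * (((mwt (i + i) x.2.1 : ℚ) * (u ^ i) ^ x.2.1) *
          (u ^ (i + i)) ^ (x.2.2.natDegree / 2)) := by
      intro x hx
      obtain ⟨d, hd, -⟩ := dat_even hx
      rw [dwt, dsz, hd, Nat.mul_div_cancel_left _ Nat.two_pos,
        show (i + i) * (x.1 + x.2.1 + 2 * d) / 2 = i * x.1 + i * x.2.1 + (i + i) * d by
          rw [show (i + i) * (x.1 + x.2.1 + 2 * d) = (i * x.1 + i * x.2.1 + (i + i) * d) * 2 by ring,
            Nat.mul_div_cancel _ Nat.two_pos]]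
      push_cast
      rw [pow_add, pow_add, pow_mul, pow_mul, pow_mul]
      ring
    rw [Finset.sum_congr rfl e, dat, Finset.sum_product]
    simp only [Finset.sum_product, ← Finset.mul_sum, ← Finset.sum_mul]
    refine (mul_le_mul (sum_mwt_even ⟨i, rfl⟩ (by positivity) hz1 M)
      (mul_le_mul (sum_mwt_even ⟨i, rfl⟩ (by positivity) hz1 M) hP hP0 ?_)
      (mul_nonneg (Finset.sum_nonneg fun a _ => by positivity) hP0) ?_).trans (le_of_eq ?_)
    · exact div_nonneg (by positivity) (by linarith)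
    · exact div_nonneg (by positivity) (by linarith)
    · rw [blockFactor, if_pos ⟨i, rfl⟩, show (i + i) / 2 = i by omega, pow_add]
      field_simp [show (1 : ℚ) - u ^ i ≠ 0 by linarith, show (1 : ℚ) - u ^ (i + i - 1) ≠ 0 by linarith]
      ring
  · have e : ∀ x ∈ dat F M J, (dwt J x : ℚ) * u ^ dsz J x =
        ((mwt J x.1 : ℚ) * (u ^ J) ^ (x.1 / 2)) * (((mwt J x.2.1 : ℚ) * (u ^ J) ^ (x.2.1 / 2)) *
          (u ^ J) ^ (x.2.2.natDegree / 2)) := by
      intro x hx
      obtain ⟨d, hd, hab⟩ := dat_even hx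
      obtain ⟨⟨a, ha⟩, ⟨b, hb⟩⟩ := hab hJo
      rw [dwt, dsz, hd, ha, hb, Nat.mul_div_cancel_left _ Nat.two_pos,
        show J * (a + a + (b + b) + 2 * d) / 2 = J * a + J * b + J * d by
          rw [show J * (a + a + (b + b) + 2 * d) = (J * a + J * b + J * d) * 2 by ring,
            Nat.mul_div_cancel _ Nat.two_pos],
        show (a + a) / 2 = a by omega, show (b + b) / 2 = b by omega]
      push_cast
      rw [pow_add, pow_add, pow_mul, pow_mul, pow_mul]
      ring
    rw [Finset.sum_congr rfl e, dat, Finset.sum_product]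
    simp only [Finset.sum_product, ← Finset.mul_sum, ← Finset.sum_mul]
    refine (mul_le_mul (sum_mwt_odd hJo (by positivity) hy1 M)
      (mul_le_mul (sum_mwt_odd hJo (by positivity) hy1 M) hP hP0 ?_)
      (mul_nonneg (Finset.sum_nonneg fun a _ => by positivity) hP0) ?_).trans (le_of_eq ?_)
    · exact div_nonneg zero_le_one (by linarith)
    · exact div_nonneg zero_le_one (by linarith)
    · rw [blockFactor, if_neg (Nat.not_even_iff_odd.2 hJo)]
      field_simp [show (1 : ℚ) - u ^ J ≠ 0 by linarith, show (1 : ℚ) - u ^ (J - 1) ≠ 0 by linarith]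

theorem sum_dat_one (h2 : (2 : F) ≠ 0) (hq : 3 ≤ Fintype.card F) (M s : ℕ) :
    ∑ x ∈ (dat F M 1).filter (fun x => dsz 1 x = s), dwt 1 x ≤ Fintype.card F ^ s := by
  have hw : ∀ x : ℕ × ℕ × F[X], dwt 1 x = 1 := fun x => by simp [dwt, mwt]
  simp only [hw, Finset.sum_const, smul_eq_mul, mul_one]
  rw [← sum_palNum_conv hq s]
  refine le_trans (Finset.card_le_card_of_injOn (fun x => (x.2.2, x.1 / 2))
    (t := (Finset.range (s + 1)).biUnion fun d => pal F d ×ˢ Finset.range (s + 1 - d)) ?_ ?_) ?_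
  · intro x hx
    rw [Finset.mem_coe, Finset.mem_filter] at hx
    obtain ⟨hx, hs⟩ := hx
    simp only [dat, Finset.mem_product, Finset.mem_filter, Finset.mem_biUnion] at hx
    obtain ⟨d, -, hd⟩ := hx.2.2
    obtain ⟨a, ha⟩ := hx.1.2 odd_one
    obtain ⟨b, hb⟩ := hx.2.1.2 odd_one
    rw [dsz, natDegree_of_mem_pal hd, ha, hb] at hs
    simp only [Finset.coe_biUnion, Set.mem_iUnion, Finset.mem_coe, Finset.mem_product, Finset.mem_range]
    exact ⟨d, by omega, hd, by omega⟩
  · intro x hx y hy hxy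
    rw [Finset.mem_coe, Finset.mem_filter] at hx hy
    obtain ⟨e1, e2⟩ := Prod.mk.inj hxy
    obtain ⟨d, hd, hp⟩ := dat_even hx.1
    obtain ⟨d', hd', hp'⟩ := dat_even hy.1
    obtain ⟨⟨a, ha⟩, ⟨b, hb⟩⟩ := hp odd_one
    obtain ⟨⟨a', ha'⟩, ⟨b', hb'⟩⟩ := hp' odd_one
    have hs := hx.2
    have hs' := hy.2
    rw [dsz] at hs hs'
    rw [← e1, hd] at hs'
    rw [hd] at hs
    exact Prod.ext (by omega) (Prod.ext (by omega) e1)
  · refine Finset.card_biUnion_le.trans (Finset.sum_le_sum fun d _ => ?_)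
    rw [Finset.card_product, Finset.card_range, mul_comm]
    exact Nat.mul_le_mul_left _ (card_pal h2 d)

/-- The datum of a polynomial of a code. -/
noncomputable def datOf (g : F[X]) : ℕ × ℕ × F[X] :=
  ((normalizedFactors g).count (X - C 1), (normalizedFactors g).count (X + C 1),
    ((normalizedFactors g).filter fun r => r ≠ X - C 1 ∧ r ≠ X + C 1).prod)

theorem factor_monic {g r : F[X]} (hr : r ∈ normalizedFactors g) : r.Monic :=
  normalize_normalized_factor r hr ▸ Polynomial.monic_normalize (irreducible_of_normalized_factor r hr).ne_zero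

theorem lin_ne (h2 : (2 : F) ≠ 0) : (X - C (1 : F)) ≠ X + C 1 := fun h => h2 (by
  have := congrArg (fun p : F[X] => p.coeff 0) h
  simp at this
  linear_combination (-1 : F) * this)

theorem datOf_prod (h2 : (2 : F) ≠ 0) {g : F[X]} (hg : g.Monic) :
    (X - C 1) ^ (datOf g).1 * ((X + C 1) ^ (datOf g).2.1 * (datOf g).2.2) = g := by
  conv_rhs => rw [← prod_factors hg, ← Multiset.filter_add_not (fun r => r = X - C 1) (normalizedFactors g)]
  rw [Multiset.prod_add, Multiset.filter_eq', Multiset.prod_replicate]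
  congr 1
  conv_rhs => rw [← Multiset.filter_add_not (fun r => r = X + C 1)
    ((normalizedFactors g).filter fun r => ¬ r = X - C 1)]
  rw [Multiset.prod_add, Multiset.filter_filter, Multiset.filter_filter]
  congr 1
  · rw [Multiset.filter_congr (q := fun r => r = X + C 1) (fun r _ =>
      ⟨fun h => h.1, fun h => ⟨h, fun e => lin_ne h2 (e.symm.trans h)⟩⟩), Multiset.filter_eq',
      Multiset.prod_replicate]
    rfl
  · exact congrArg Multiset.prod (Multiset.filter_congr fun r _ => and_comm)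

/-- The admissible symplectic codes, weighted, are at most the coefficient of the generating function. -/
theorem sum_adm_le (h2 : (2 : F) ≠ 0) (hq : 3 ≤ Fintype.card F) {m : ℕ} (N : ℕ) (hm : m + 1 = 2 * N) :
    (∑ g ∈ admCodes (RingHom.id F) (-1) (m + 1), weight (RingHom.id F) (-1) (blocks g) : ℕ) ≤
      (Fintype.card F : ℚ) ^ N * ∏ i : Fin m, blockFactor (1 / Fintype.card F) ((i : ℕ) + 2) := by
  set M := 2 * N
  let D : Fin (m + 1) → Finset (ℕ × ℕ × F[X]) := fun j => dat F M ((j : ℕ) + 1)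
  refine le_trans ?_ (gen_bound (Fintype.card F) Fintype.card_pos N D (fun j => dsz ((j : ℕ) + 1))
    (fun j => dwt ((j : ℕ) + 1)) (fun i => blockFactor (1 / Fintype.card F) ((i : ℕ) + 2))
    (fun s => sum_dat_one h2 hq M s) (fun i => ?_))
  swap
  · have := sum_dat_le h2 hq M ((i : ℕ) + 2) (by omega)
    simpa only [D, Fin.val_succ] using this
  rw [Nat.cast_le]
  let Φ : (Fin (m + 1) → F[X]) → Fin (m + 1) → ℕ × ℕ × F[X] := fun g j => datOf (g j)
  have hinj : Set.InjOn Φ (admCodes (RingHom.id F) (-1 : F) (m + 1)) := by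
    intro g hg g' hg' h
    have hc := (mem_codes.1 (Finset.mem_filter.1 hg).1).1
    have hc' := (mem_codes.1 (Finset.mem_filter.1 hg').1).1
    funext j
    rw [← datOf_prod h2 (hc j).1, ← datOf_prod h2 (hc' j).1, show datOf (g j) = datOf (g' j) from congrFun h j]
  have hspec : ∀ (r : F[X]) (J : ℕ), 1 ≤ J → (Spec (RingHom.id F) (-1 : F) (r, J) ↔
      (r = X - C 1 ∨ r = X + C 1) ∧ Even J) := by
    intro r J hJ
    unfold Spec Lin
    constructor
    · rintro ⟨⟨-, hr⟩, hp⟩
      refine ⟨hr, ?_⟩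
      by_contra ho
      obtain ⟨k, hk⟩ := Nat.not_even_iff_odd.1 ho
      rw [show J - 1 = 2 * k by omega, pow_mul, neg_one_sq, one_pow, mul_one] at hp
      exact h2 (by linear_combination (-1 : F) * hp)
    · rintro ⟨hr, k, hk⟩
      refine ⟨⟨fun a => rfl, hr⟩, ?_⟩
      rw [← pow_succ', show J - 1 + 1 = 2 * k by omega, pow_mul, neg_one_sq, one_pow]
  have hmem : ∀ g ∈ admCodes (RingHom.id F) (-1 : F) (m + 1),
      Φ g ∈ (Fintype.piFinset D).filter (fun x => ∑ j : Fin (m + 1), dsz ((j : ℕ) + 1) (x j) = N) := by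
    intro g hg
    obtain ⟨hgc, hadm⟩ := Finset.mem_filter.1 hg
    obtain ⟨hc, hwt⟩ := mem_codes.1 hgc
    have hdeg : ∀ j, (g j).natDegree = (datOf (g j)).1 + (datOf (g j)).2.1 + (datOf (g j)).2.2.natDegree := by
      intro j
      conv_lhs => rw [← datOf_prod h2 (hc j).1]
      have hm3 : (datOf (g j)).2.2.Monic := by
        have := monic_multiset_prod_of_monic
          ((normalizedFactors (g j)).filter fun r => r ≠ X - C 1 ∧ r ≠ X + C 1) id
          (fun r hr => factor_monic (Multiset.mem_filter.1 hr).1)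
        simpa [datOf] using this
      rw [((monic_X_sub_C (1 : F)).pow _).natDegree_mul (((monic_X_add_C (1 : F)).pow _).mul hm3),
        ((monic_X_add_C (1 : F)).pow _).natDegree_mul hm3, natDegree_pow, natDegree_pow, natDegree_X_sub_C,
        natDegree_X_add_C]
      ring
    have hle : ∀ j : Fin (m + 1), ((j : ℕ) + 1) * (g j).natDegree ≤ M := fun j => by
      have h := Finset.single_le_sum (f := fun j : Fin (m + 1) => ((j : ℕ) + 1) * (g j).natDegree)
        (fun _ _ => Nat.zero_le _) (Finset.mem_univ j)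
      rw [show (∑ j : Fin (m + 1), ((j : ℕ) + 1) * (g j).natDegree) = m + 1 from hwt] at h
      omega
    have hevn : ∀ j : Fin (m + 1), Odd ((j : ℕ) + 1) → Even (datOf (g j)).1 ∧ Even (datOf (g j)).2.1 := by
      intro j ho
      have hns : ∀ r, ¬ Spec (RingHom.id F) (-1 : F) (r, (j : ℕ) + 1) := fun r h =>
        Nat.not_even_iff_odd.2 ho ((hspec r _ (by omega)).1 h).2
      constructor
      · by_cases hr : X - C (1 : F) ∈ normalizedFactors (g j)
        · exact (hadm j).2 _ ⟨fun a => rfl, Or.inl rfl⟩ (hns _) hr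
        · show Even ((normalizedFactors (g j)).count (X - C 1))
          rw [Multiset.count_eq_zero.2 hr]; exact Even.zero
      · by_cases hr : X + C (1 : F) ∈ normalizedFactors (g j)
        · exact (hadm j).2 _ ⟨fun a => rfl, Or.inr rfl⟩ (hns _) hr
        · show Even ((normalizedFactors (g j)).count (X + C 1))
          rw [Multiset.count_eq_zero.2 hr]; exact Even.zero
    have hpal : ∀ j, ∃ d, (datOf (g j)).2.2.natDegree = 2 * d ∧ (datOf (g j)).2.2 ∈ pal F d := by
      intro j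
      set s := (normalizedFactors (g j)).filter fun r => r ≠ X - C 1 ∧ r ≠ X + C 1
      have hms : ∀ r ∈ s, r.Monic := fun r hr => factor_monic (Multiset.mem_filter.1 hr).1
      have hm3 : s.prod.Monic := by simpa using monic_multiset_prod_of_monic s id hms
      have hd3 : (datOf (g j)).2.2 = s.prod := rfl
      rw [hd3]
      have hdvd : s.prod ∣ g j := by
        conv_rhs => rw [← prod_factors (hc j).1]
        exact Multiset.prod_dvd_prod_of_le (Multiset.filter_le _ _)
      have he : ∀ e : F, (X - C e = X - C 1 ∨ X - C e = X + C 1) → s.prod.eval e ≠ 0 := by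
        intro e he h0
        obtain ⟨r, hr, hd⟩ := (irreducible_X_sub_C e).prime.exists_mem_multiset_dvd (dvd_iff_isRoot.2 h0)
        obtain ⟨hr1, hr2, hr3⟩ := Multiset.mem_filter.1 hr
        have := eq_of_monic_of_associated (monic_X_sub_C e) (hms r hr)
          ((irreducible_X_sub_C e).associated_of_dvd (irreducible_of_normalized_factor r hr1) hd)
        rcases he with h | h
        · exact hr2 (this.symm.trans h)
        · exact hr3 (this.symm.trans h)
      have hsrp : srp (RingHom.id F) s.prod = s.prod := by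
        set f := (X - C (1 : F)) ^ (datOf (g j)).1 * (X + C 1) ^ (datOf (g j)).2.1
        have hg : f * s.prod = g j := by rw [mul_assoc, ← hd3]; exact datOf_prod h2 (hc j).1
        have hf : srp (RingHom.id F) f = f := by
          rw [srp_mul, srp_pow, srp_pow,
            Lin.srp_eq (θ := RingHom.id F) ⟨fun a => rfl, Or.inl rfl⟩,
            Lin.srp_eq (θ := RingHom.id F) ⟨fun a => rfl, Or.inr rfl⟩]
        have h := (hadm j).1
        rw [← hg, srp_mul, hf] at h
        exact mul_left_cancel₀ ((((monic_X_sub_C (1 : F)).pow _).mul ((monic_X_add_C (1 : F)).pow _)).ne_zero) h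
      exact mem_pal h2 hm3 (coeff_zero_ne_of_dvd hdvd (hc j).2) hsrp (he 1 (Or.inl rfl))
        (he (-1) (Or.inr (by rw [C_neg, sub_neg_eq_add])))
    refine Finset.mem_filter.2 ⟨Fintype.mem_piFinset.2 fun j => ?_, ?_⟩
    · obtain ⟨d, hd, hd'⟩ := hpal j
      have hb : (datOf (g j)).1 + (datOf (g j)).2.1 + 2 * d ≤ M := by
        have := hle j
        rw [hdeg j, hd] at this
        exact (Nat.le_mul_of_pos_left _ (Nat.succ_pos _)).trans this
      simp only [D, Φ, dat, Finset.mem_product, Finset.mem_filter, Finset.mem_range, Finset.mem_biUnion]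
      exact ⟨⟨by omega, fun h => (hevn j h).1⟩, ⟨by omega, fun h => (hevn j h).2⟩, ⟨d, by omega, hd'⟩⟩
    · have h3 : ∀ j : Fin (m + 1), 2 * dsz ((j : ℕ) + 1) (Φ g j) = ((j : ℕ) + 1) * (g j).natDegree := by
        intro j
        obtain ⟨d, hd, -⟩ := hpal j
        rw [hdeg j]
        simp only [Φ, dsz]
        refine Nat.mul_div_cancel' ?_
        rcases Nat.even_or_odd ((j : ℕ) + 1) with he | ho
        · exact dvd_mul_of_dvd_left he.two_dvd _
        · rw [hd]
          obtain ⟨⟨a, ha⟩, ⟨b, hb⟩⟩ := hevn j ho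
          rw [ha, hb]
          exact dvd_mul_of_dvd_right ⟨a + b + d, by ring⟩ _
      have h4 : 2 * ∑ j : Fin (m + 1), dsz ((j : ℕ) + 1) (Φ g j) = m + 1 := by
        rw [Finset.mul_sum, Finset.sum_congr rfl fun j _ => h3 j]; exact hwt
      omega
  have hwle : ∀ g ∈ admCodes (RingHom.id F) (-1 : F) (m + 1),
      weight (RingHom.id F) (-1 : F) (blocks g) ≤ ∏ j : Fin (m + 1), dwt ((j : ℕ) + 1) (Φ g j) := by
    intro g _
    have hprod : ∀ j : Fin (m + 1), dwt ((j : ℕ) + 1) (Φ g j) = 2 ^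
        ((if Even ((j : ℕ) + 1) ∧ (datOf (g j)).1 ≠ 0 then 1 else 0) +
          (if Even ((j : ℕ) + 1) ∧ (datOf (g j)).2.1 ≠ 0 then 1 else 0)) := by
      intro j
      simp only [Φ, dwt, mwt, pow_add]
      congr 1 <;> split_ifs <;> rfl
    simp only [hprod]
    rw [Finset.prod_pow_eq_pow_sum, weight]
    refine Nat.pow_le_pow_right (by norm_num) (le_trans (Finset.card_le_card (t :=
      Finset.univ.biUnion fun j : Fin (m + 1) =>
        (if Even ((j : ℕ) + 1) ∧ (datOf (g j)).1 ≠ 0 then {((X - C 1 : F[X]), (j : ℕ) + 1)} else ∅) ∪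
        (if Even ((j : ℕ) + 1) ∧ (datOf (g j)).2.1 ≠ 0 then {((X + C 1 : F[X]), (j : ℕ) + 1)} else ∅)) ?_) ?_)
    · intro x hx
      rw [Finset.mem_filter, Multiset.mem_toFinset] at hx
      obtain ⟨j, r, hr, rfl⟩ := mem_blocks.1 hx.1
      obtain ⟨h1, he⟩ := (hspec r _ (by omega)).1 hx.2
      refine Finset.mem_biUnion.2 ⟨j, Finset.mem_univ _, Finset.mem_union.2 ?_⟩
      rcases h1 with rfl | rfl
      · left
        rw [if_pos ⟨he, (Multiset.count_pos.2 hr).ne'⟩]
        exact Finset.mem_singleton_self _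
      · right
        rw [if_pos ⟨he, (Multiset.count_pos.2 hr).ne'⟩]
        exact Finset.mem_singleton_self _
    · refine Finset.card_biUnion_le.trans (Finset.sum_le_sum fun j _ => (Finset.card_union_le _ _).trans ?_)
      split_ifs <;> simp
  calc ∑ g ∈ admCodes (RingHom.id F) (-1 : F) (m + 1), weight (RingHom.id F) (-1 : F) (blocks g)
      ≤ ∑ g ∈ admCodes (RingHom.id F) (-1 : F) (m + 1), ∏ j : Fin (m + 1), dwt ((j : ℕ) + 1) (Φ g j) :=
        Finset.sum_le_sum hwle
    _ = ∑ x ∈ (admCodes (RingHom.id F) (-1 : F) (m + 1)).image Φ, ∏ j : Fin (m + 1), dwt ((j : ℕ) + 1) (x j) := by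
        rw [Finset.sum_image hinj]
    _ ≤ _ := Finset.sum_le_sum_of_subset fun x hx => by
        obtain ⟨g, hg, rfl⟩ := Finset.mem_image.1 hx
        exact hmem g hg

end Cfsg.Agent.Lib.ClassNumber
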