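import Cfsg.Agent.Lib.ClassNumber.Classify

/-!
Unipotent pieces of alternating forms in characteristic two: the functionals `p ↦ B (p v) w`, their shifts
and their normal forms.
-/

set_option autoImplicit false

namespace Cfsg.Agent.Lib.ClassNumber

open Polynomial Module

universe u v

variable {F : Type v} [Field F]

/-- The polynomial `X - 1`. -/
noncomputable def nu (F : Type v) [Field F] : F[X] := X - C 1

theorem two_eq_zero_poly [CharP F 2] : (2 : F[X]) = 0 := by
  rw [show (2 : F[X]) = C (2 : F) from (map_ofNat C 2).symm, CharTwo.two_eq_zero, C_0]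

theorem two_eq_zero_poly' [CharP F 2] (p : F[X]) : p + p = 0 := by
  rw [← two_mul, two_eq_zero_poly, zero_mul]

/-- The functional `p ↦ B (p x) y`. -/
noncomputable def pr {V : Type u} [AddCommGroup V] [Module F V] (T : IForm (RingHom.id F) (1 : F) V) (x y : V) :
    F[X] →ₗ[F] F where
  toFun p := T.B (T.op p x) y
  map_add' p q := by rw [T.op_add_apply, T.add_left]
  map_smul' c p := by rw [smul_eq_C_mul, T.op_mul_apply, T.op_C_apply, T.smul_left]; rfl

/-- The form is alternating. -/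
def IsAlt {V : Type u} [AddCommGroup V] [Module F V] (T : IForm (RingHom.id F) (1 : F) V) : Prop :=
  ∀ x, T.B x x = 0

/-- A functional killing the multiples of `nu ^ j`. -/
def Kills (j : ℕ) (φ : F[X] →ₗ[F] F) : Prop := ∀ q, φ (nu F ^ j * q) = 0

section Functional

variable {j : ℕ} {φ : F[X] →ₗ[F] F} (hφ : Kills j φ)
include hφ

theorem kills_congr {a b : F[X]} (h : nu F ^ j ∣ a - b) : φ a = φ b := by
  obtain ⟨q, hq⟩ := h
  rw [← sub_eq_zero, ← map_sub, hq, hφ]

theorem kills_ge {e : ℕ} (he : j ≤ e) (q : F[X]) : φ (nu F ^ e * q) = 0 := by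
  rw [← Nat.add_sub_cancel' he, pow_add, mul_assoc, hφ]

theorem kills_top {e : ℕ} (he : j ≤ e + 1) (q : F[X]) : φ (nu F ^ e * q) = q.eval 1 * φ (nu F ^ e) := by
  obtain ⟨r, hr⟩ : nu F ∣ q - C (q.eval 1) := X_sub_C_dvd_sub_C_eval
  have h : q = C (q.eval 1) + nu F * r := by rw [← hr]; ring
  conv_lhs => rw [h, mul_add, map_add, ← mul_assoc, ← pow_succ, kills_ge hφ he, add_zero,
    mul_comm, ← smul_eq_C_mul, map_smul, smul_eq_mul]

end Functional

section Inverse

variable [CharP F 2] {j : ℕ} {Xi : F[X]} (hXi : nu F ^ j ∣ X * Xi - 1)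
include hXi

theorem Xi_eval (hj : 1 ≤ j) : Xi.eval 1 = 1 := by
  have h : (X * Xi - 1).eval 1 = 0 := dvd_iff_isRoot.1 ((dvd_pow_self (nu F) (by omega)).trans hXi)
  simpa [sub_eq_zero] using h

theorem Xi_pow_congr (hj : 2 ≤ j) (a : ℕ) : nu F ^ 2 ∣ Xi ^ a - (1 + (a : F[X]) * nu F) := by
  have h1 : nu F ^ 2 ∣ X * Xi - 1 := (pow_dvd_pow _ hj).trans hXi
  have h2 : nu F ^ 2 ∣ Xi - (1 + nu F) := by
    have h3 := dvd_sub (h1.mul_right (1 - nu F)) (dvd_mul_left (nu F ^ 2) (-Xi))
    convert h3 using 1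
    have h4 : (2 : F[X]) = 0 := two_eq_zero_poly
    rw [nu, C_1]
    linear_combination (1 - X) * h4
  induction a with
  | zero => simp
  | succ a ih =>
    have h5 := dvd_add (ih.mul_right Xi) ((h2.mul_left (1 + (a : F[X]) * nu F)).add
      (dvd_mul_left (nu F ^ 2) (a : F[X])))
    convert h5 using 1
    push_cast
    ring

theorem kills_second {φ : F[X] →ₗ[F] F} (hφ : Kills j φ) {e : ℕ} (he : j ≤ e + 2) (hj : 2 ≤ j) (a : ℕ) :
    φ (nu F ^ e * Xi ^ a) = φ (nu F ^ e) + (a : F) * φ (nu F ^ (e + 1)) := by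
  have h : nu F ^ j ∣ nu F ^ e * Xi ^ a - (nu F ^ e + C (a : F) * nu F ^ (e + 1)) := by
    refine (pow_dvd_pow _ he).trans ?_
    rw [pow_add, show nu F ^ e * Xi ^ a - (nu F ^ e + C (a : F) * nu F ^ (e + 1)) =
      nu F ^ e * (Xi ^ a - (1 + (a : F[X]) * nu F)) by rw [map_natCast]; ring]
    exact mul_dvd_mul_left _ (Xi_pow_congr hXi hj a)
  rw [kills_congr hφ h, map_add, ← smul_eq_C_mul, map_smul, smul_eq_mul]

theorem bar_nu (m : ℕ) : nu F ^ j ∣ IForm.bar (RingHom.id F) Xi (nu F ^ m) - nu F ^ m * Xi ^ m := by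
  rw [IForm.bar, Polynomial.map_id, pow_comp, ← mul_pow]
  refine dvd_trans ?_ (sub_dvd_pow_sub_pow _ _ m)
  have h4 : (2 : F[X]) = 0 := two_eq_zero_poly
  have e : (nu F).comp Xi - nu F * Xi = -(X * Xi - 1) := by
    rw [nu, sub_comp, X_comp, C_comp, C_1]
    linear_combination (Xi - 1) * h4
  rw [e]
  exact hXi.neg_right

end Inverse

section Space

variable {V : Type u} [AddCommGroup V] [Module F V] {T : IForm (RingHom.id F) (1 : F) V}

theorem pr_apply (x y : V) (p : F[X]) : pr T x y p = T.B (T.op p x) y := rfl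

theorem pr_comm_B (x y : V) : T.B x y = T.B y x := by rw [T.symm, RingHom.id_apply, one_mul]

theorem pr_kills {j : ℕ} {x : V} (hx : T.op (nu F ^ j) x = 0) (y : V) : Kills j (pr T x y) := fun q => by
  rw [pr_apply, mul_comm, T.op_mul_apply, hx, map_zero, T.zero_left]

variable {j : ℕ} {Xi : F[X]} (hXi : nu F ^ j ∣ X * Xi - 1)
include hXi

theorem pr_symm {x : V} (hx : T.op (nu F ^ j) x = 0) (y : V) (p : F[X]) :
    pr T y x p = pr T x y (IForm.bar (RingHom.id F) Xi p) := by
  rw [pr_apply, T.adj_bar hXi p y hx, pr_comm_B]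
  rfl

theorem pr_mul_right {x : V} (hx : T.op (nu F ^ j) x = 0) (y : V) (p q : F[X]) :
    T.B (T.op p x) (T.op q y) = pr T x y (p * IForm.bar (RingHom.id F) Xi q) := by
  rw [T.adj_bar' hXi q (by rw [T.op_comm_apply, hx, map_zero]), ← T.op_mul_apply, mul_comm]
  rfl

theorem pr_isotropic (ha : IsAlt T) {x : V} (hx : T.op (nu F ^ j) x = 0) [CharP F 2] (h : ℕ) :
    pr T x x (nu F ^ (2 * h) * Xi ^ h) = 0 := by
  have := ha (T.op (nu F ^ h) x)
  rw [pr_mul_right hXi hx, kills_congr (pr_kills hx x) (b := nu F ^ (2 * h) * Xi ^ h) (by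
    have := (bar_nu hXi h).mul_left (nu F ^ h)
    convert this using 1
    ring)] at this
  exact this

variable [CharP F 2]

theorem pr_swap {x : V} (hx : T.op (nu F ^ j) x = 0) (y : V) (i : ℕ) :
    pr T y x (nu F ^ i) = pr T x y (nu F ^ i * Xi ^ i) := by
  rw [pr_symm hXi hx]
  exact kills_congr (pr_kills hx y) (bar_nu hXi i)

theorem pr_swap_top {x : V} (hx : T.op (nu F ^ j) x = 0) (hj : 1 ≤ j) (y : V) {i : ℕ} (hi : j ≤ i + 1) :
    pr T y x (nu F ^ i) = pr T x y (nu F ^ i) := by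
  rw [pr_swap hXi hx, kills_top (pr_kills hx y) hi, eval_pow, Xi_eval hXi hj, one_pow, one_mul]

/-- The effect of a shift on a diagonal functional. -/
theorem pr_shift {x y : V} (hx : T.op (nu F ^ j) x = 0) (hy : T.op (nu F ^ j) y = 0) (l : F) (i m : ℕ) :
    pr T (x + l • T.op (nu F ^ m) y) (x + l • T.op (nu F ^ m) y) (nu F ^ i) =
      pr T x x (nu F ^ i) + l * (pr T x y (nu F ^ (i + m) * Xi ^ m) +
        pr T x y (nu F ^ (i + m) * Xi ^ (i + m))) + l * l * pr T y y (nu F ^ (i + 2 * m) * Xi ^ m) := by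
  have e1 : T.B (T.op (nu F ^ i) x) (T.op (nu F ^ m) y) = pr T x y (nu F ^ (i + m) * Xi ^ m) := by
    rw [pr_mul_right hXi hx]
    refine kills_congr (pr_kills hx y) ?_
    have := (bar_nu hXi m).mul_left (nu F ^ i)
    convert this using 1
    ring
  have e2 : T.B (T.op (nu F ^ i) (T.op (nu F ^ m) y)) x = pr T x y (nu F ^ (i + m) * Xi ^ (i + m)) := by
    rw [← T.op_mul_apply, ← pow_add]
    exact pr_swap hXi hx y (i + m)
  have e3 : T.B (T.op (nu F ^ i) (T.op (nu F ^ m) y)) (T.op (nu F ^ m) y) =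
      pr T y y (nu F ^ (i + 2 * m) * Xi ^ m) := by
    rw [← T.op_mul_apply, ← pow_add, pr_mul_right hXi hy]
    refine kills_congr (pr_kills hy y) ?_
    have := (bar_nu hXi m).mul_left (nu F ^ (i + m))
    convert this using 1
    ring
  rw [pr_apply, map_add, map_smul, T.add_left, T.add_right, T.add_right, T.smul_left, T.smul_right,
    T.smul_left, T.smul_right, e1, e2, e3, RingHom.id_apply, ← pr_apply x x]
  ring

/-- Diagonal functionals are unchanged above a shift. -/
theorem pr_shift_high {x y : V} (hx : T.op (nu F ^ j) x = 0) (hy : T.op (nu F ^ j) y = 0) (hj : 1 ≤ j) (l : F)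
    {i m : ℕ} (h1 : j ≤ i + m + 1) (h2 : j ≤ i + 2 * m) :
    pr T (x + l • T.op (nu F ^ m) y) (x + l • T.op (nu F ^ m) y) (nu F ^ i) = pr T x x (nu F ^ i) := by
  rw [pr_shift hXi hx hy, kills_ge (pr_kills hy y) h2, kills_top (pr_kills hx y) h1,
    kills_top (pr_kills hx y) h1, eval_pow, eval_pow, Xi_eval hXi hj, one_pow, one_pow, one_mul,
    CharTwo.add_self_eq_zero, mul_zero, mul_zero, add_zero, add_zero]

/-- The first level moved by a shift. -/
theorem pr_shift_step {x y : V} (hx : T.op (nu F ^ j) x = 0) (hy : T.op (nu F ^ j) y = 0) (l : F)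
    {i m : ℕ} (h1 : i + m + 2 = j) (hi : Odd i) :
    pr T (x + l • T.op (nu F ^ m) y) (x + l • T.op (nu F ^ m) y) (nu F ^ i) =
      pr T x x (nu F ^ i) + l * pr T x y (nu F ^ (j - 1)) + l * l * pr T y y (nu F ^ (i + 2 * m) * Xi ^ m) := by
  rw [pr_shift hXi hx hy, kills_second hXi (pr_kills hx y) (le_of_eq h1.symm) (by omega) m,
    kills_second hXi (pr_kills hx y) (le_of_eq h1.symm) (by omega) (i + m),
    show i + m + 1 = j - 1 by omega]
  obtain ⟨k, rfl⟩ := hi
  push_cast
  rw [show (2 : F) = 0 from CharTwo.two_eq_zero]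
  have h : ∀ a : F, a + a = 0 := CharTwo.add_self_eq_zero
  linear_combination l * h (pr T x y (nu F ^ (2 * k + 1 + m))) +
    l * h ((m : F) * pr T x y (nu F ^ (j - 1)))

/-- The effect of a shift of the second vector on a mixed functional. -/
theorem pr_shift_right {x y z : V} (hx : T.op (nu F ^ j) x = 0) (l : F) (i m : ℕ) :
    pr T x (z + l • T.op (nu F ^ m) y) (nu F ^ i) =
      pr T x z (nu F ^ i) + l * pr T x y (nu F ^ (i + m) * Xi ^ m) := by
  rw [pr_apply, T.add_right, T.smul_right, RingHom.id_apply, pr_mul_right hXi hx, ← pr_apply x z]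
  congr 2
  refine kills_congr (pr_kills hx y) ?_
  have := (bar_nu hXi m).mul_left (nu F ^ i)
  convert this using 1
  ring

omit hXi [CharP F 2] in
theorem pr_shift_left {x y z : V} (l : F) (i m : ℕ) :
    pr T (x + l • T.op (nu F ^ m) y) z (nu F ^ i) =
      pr T x z (nu F ^ i) + l * pr T y z (nu F ^ (i + m)) := by
  rw [pr_apply, map_add, map_smul, T.add_left, T.smul_left, ← T.op_mul_apply, ← pow_add]
  rfl

omit hXi [CharP F 2] in
theorem kill_shift {x y : V} (hx : T.op (nu F ^ j) x = 0) (hy : T.op (nu F ^ j) y = 0) (l : F) (m : ℕ) :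
    T.op (nu F ^ j) (x + l • T.op (nu F ^ m) y) = 0 := by
  rw [map_add, map_smul, T.op_comm_apply, hx, hy, map_zero, smul_zero, add_zero]

end Space

/-- Functionals of alternating pieces are determined by their values at odd exponents. -/
theorem diag_ext [CharP F 2] {j : ℕ} {Xi : F[X]} (hXi : nu F ^ j ∣ X * Xi - 1) (hj : 1 ≤ j)
    {φ ψ : F[X] →ₗ[F] F} (hφ : Kills j φ) (hψ : Kills j ψ)
    (h1 : ∀ h, φ (nu F ^ (2 * h) * Xi ^ h) = 0) (h2 : ∀ h, ψ (nu F ^ (2 * h) * Xi ^ h) = 0)
    (hodd : ∀ i, Odd i → φ (nu F ^ i) = ψ (nu F ^ i)) : φ = ψ := by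
  have key : ∀ d i, j ≤ i + d → ∀ q, φ (nu F ^ i * q) = ψ (nu F ^ i * q) := by
    intro d
    induction d with
    | zero => intro i hi q; rw [kills_ge hφ (show j ≤ i by omega), kills_ge hψ (show j ≤ i by omega)]
    | succ d ih =>
      intro i hi q
      have hrec : ∀ q, φ (nu F ^ (i + 1) * q) = ψ (nu F ^ (i + 1) * q) := ih (i + 1) (by omega)
      have hsplit : ∀ q : F[X], ∃ r, nu F ^ i * q = q.eval 1 • nu F ^ i + nu F ^ (i + 1) * r := fun q => by
        obtain ⟨r, hr⟩ : nu F ∣ q - C (q.eval 1) := X_sub_C_dvd_sub_C_eval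
        refine ⟨r, ?_⟩
        rw [smul_eq_C_mul, pow_succ, mul_assoc, ← hr]
        ring
      have hbase : φ (nu F ^ i) = ψ (nu F ^ i) := by
        obtain ⟨h, rfl | rfl⟩ := Nat.even_or_odd' i
        · obtain ⟨r, hr⟩ := hsplit (Xi ^ h)
          have a := h1 h
          have b := h2 h
          rw [hr, map_add, map_smul, smul_eq_mul, eval_pow, Xi_eval hXi hj, one_pow, one_mul] at a b
          have c := hrec r
          linear_combination a - b - c
        · exact hodd _ ⟨h, rfl⟩
      obtain ⟨r, hr⟩ := hsplit q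
      rw [hr, map_add, map_add, map_smul, map_smul, hbase, hrec]
  refine LinearMap.ext fun q => ?_
  have := key j 0 (by omega) q
  rwa [pow_zero, one_mul] at this

section Normal

variable {V : Type u} [AddCommGroup V] [Module F V] {T : IForm (RingHom.id F) (1 : F) V}

/-- A normalised pair: hyperbolic top, prescribed values at the exponent `j - 2` for odd `j`. -/
structure PairNF (T : IForm (RingHom.id F) (1 : F) V) (j : ℕ) (a b : F) (x y : V) : Prop where
  killx : T.op (nu F ^ j) x = 0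
  killy : T.op (nu F ^ j) y = 0
  gtop : pr T x y (nu F ^ (j - 1)) = 1
  glow : ∀ i, i + 1 < j → pr T x y (nu F ^ i) = 0
  topx : pr T x x (nu F ^ (j - 1)) = 0
  topy : pr T y y (nu F ^ (j - 1)) = 0
  oddx : ∀ i, Odd i → i + 1 < j → pr T x x (nu F ^ i) = if i + 2 = j then a else 0
  oddy : ∀ i, Odd i → i + 1 < j → pr T y y (nu F ^ i) = if i + 2 = j then b else 0

/-- A normalised single vector with non-zero top, with a bit at the exponent `j - 3`. -/
structure SingleNF (T : IForm (RingHom.id F) (1 : F) V) (j : ℕ) (d : F) (x : V) : Prop where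
  kill : T.op (nu F ^ j) x = 0
  top : pr T x x (nu F ^ (j - 1)) = 1
  odd : ∀ i, Odd i → i + 1 < j → pr T x x (nu F ^ i) = if i + 3 = j then d else 0

variable [CharP F 2] {j : ℕ} {Xi : F[X]} (hXi : nu F ^ j ∣ X * Xi - 1) (hj : 1 ≤ j)
include hXi hj

/-- Cleaning a pair below the top levels. -/
theorem pair_normal {x y : V} (hx : T.op (nu F ^ j) x = 0) (hy : T.op (nu F ^ j) y = 0)
    (hg : pr T x y (nu F ^ (j - 1)) = 1) (htx : pr T x x (nu F ^ (j - 1)) = 0)
    (hty : pr T y y (nu F ^ (j - 1)) = 0) {a b : F}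
    (ha : ∀ i, Odd i → i + 2 = j → pr T x x (nu F ^ i) = a)
    (hb : ∀ i, Odd i → i + 2 = j → pr T y y (nu F ^ i) = b) : ∃ x' y', PairNF T j a b x' y' := by
  have key : ∀ d, ∀ x y, T.op (nu F ^ j) x = 0 → T.op (nu F ^ j) y = 0 → pr T x y (nu F ^ (j - 1)) = 1 →
      pr T x x (nu F ^ (j - 1)) = 0 → pr T y y (nu F ^ (j - 1)) = 0 →
      (∀ i, Odd i → i + 2 = j → pr T x x (nu F ^ i) = a) → (∀ i, Odd i → i + 2 = j → pr T y y (nu F ^ i) = b) →
      (∀ i, d ≤ i → i + 1 < j → pr T x y (nu F ^ i) = 0) →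
      (∀ i, d ≤ i → Odd i → i + 2 < j → pr T x x (nu F ^ i) = 0 ∧ pr T y y (nu F ^ i) = 0) →
      ∃ x' y', PairNF T j a b x' y' := by
    intro d
    induction d with
    | zero =>
      intro x y hx hy hg htx hty ha hb hgl hc
      refine ⟨x, y, ⟨hx, hy, hg, fun i hi => hgl i (Nat.zero_le _) hi, htx, hty, fun i ho hi => ?_,
        fun i ho hi => ?_⟩⟩
      · split_ifs with h
        · exact ha i ho h
        · exact (hc i (Nat.zero_le _) ho (by omega)).1
      · split_ifs with h
        · exact hb i ho h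
        · exact (hc i (Nat.zero_le _) ho (by omega)).2
    | succ d ih =>
      intro x y hx hy hg htx hty ha hb hgl hc
      by_cases hd : d + 1 < j
      swap
      · exact ih x y hx hy hg htx hty ha hb (fun i hi hij => absurd hij (by omega))
          (fun i hi _ hij => absurd hij (by omega))
      obtain ⟨x₁, y₁, hx₁, hy₁, hg₁, hhx, hhy, hgl₁, hc₁⟩ : ∃ x₁ y₁ : V,
          T.op (nu F ^ j) x₁ = 0 ∧ T.op (nu F ^ j) y₁ = 0 ∧ pr T x₁ y₁ (nu F ^ (j - 1)) = 1 ∧
          (∀ i, d < i ∨ j ≤ i + 2 → pr T x₁ x₁ (nu F ^ i) = pr T x x (nu F ^ i)) ∧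
          (∀ i, d < i ∨ j ≤ i + 2 → pr T y₁ y₁ (nu F ^ i) = pr T y y (nu F ^ i)) ∧
          (∀ i, d < i → i + 1 < j → pr T x₁ y₁ (nu F ^ i) = 0) ∧
          (Odd d → d + 2 < j → pr T x₁ x₁ (nu F ^ d) = 0 ∧ pr T y₁ y₁ (nu F ^ d) = 0) := by
        by_cases hod : Odd d ∧ d + 2 < j
        swap
        · exact ⟨x, y, hx, hy, hg, fun _ _ => rfl, fun _ _ => rfl, fun i hi hij => hgl i hi hij,
            fun h h' => absurd ⟨h, h'⟩ hod⟩
        obtain ⟨hod, hd2⟩ := hod
        obtain ⟨m, hm⟩ : ∃ m, d + m + 2 = j := ⟨j - 2 - d, by omega⟩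
        have hquad : ∀ z, T.op (nu F ^ j) z = 0 → pr T z z (nu F ^ (j - 1)) = 0 →
            pr T z z (nu F ^ (d + 2 * m) * Xi ^ m) = 0 := fun z hz h => by
          rcases Nat.lt_or_ge (d + 2 * m) j with hlt | hge
          · rw [show d + 2 * m = j - 1 by omega, kills_top (pr_kills hz z) (by omega), h, mul_zero]
          · exact kills_ge (pr_kills hz z) hge _
        set l := pr T x x (nu F ^ d)
        set x₁ := x + l • T.op (nu F ^ m) y with hx₁def
        have hx₁ : T.op (nu F ^ j) x₁ = 0 := kill_shift hx hy l m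
        have hgi : ∀ i, d < i → pr T x₁ y (nu F ^ i) = pr T x y (nu F ^ i) := fun i hi => by
          rw [hx₁def, pr_shift_left]
          rcases Nat.lt_or_ge (i + m) j with hlt | hge
          · rw [show i + m = j - 1 by omega, hty, mul_zero, add_zero]
          · rw [← mul_one (nu F ^ (i + m)), kills_ge (pr_kills hy y) hge, mul_zero, add_zero]
        have hhx : ∀ i, d < i → pr T x₁ x₁ (nu F ^ i) = pr T x x (nu F ^ i) := fun i hi =>
          pr_shift_high hXi hx hy hj l (by omega) (by omega)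
        have hx0 : pr T x₁ x₁ (nu F ^ d) = 0 := by
          rw [hx₁def, pr_shift_step hXi hx hy l hm hod, hg, hquad y hy hty, mul_one, mul_zero, add_zero,
            CharTwo.add_self_eq_zero]
        set r := pr T y y (nu F ^ d)
        set y₁ := y + r • T.op (nu F ^ m) x₁ with hy₁def
        have hgyx : pr T y x₁ (nu F ^ (j - 1)) = 1 := by
          rw [pr_swap_top hXi hx₁ hj y (by omega), hgi (j - 1) (by omega), hg]
        have htx₁ : pr T x₁ x₁ (nu F ^ (j - 1)) = 0 := by rw [hhx (j - 1) (by omega), htx]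
        refine ⟨x₁, y₁, hx₁, kill_shift hy hx₁ r m, ?_, fun i hi => hhx i (by omega),
          fun i hi => pr_shift_high hXi hy hx₁ hj r (by omega) (by omega), fun i hi hij => ?_, fun _ _ => ⟨hx0, ?_⟩⟩
        · rw [hy₁def, pr_shift_right hXi hx₁, hgi (j - 1) (by omega), hg,
            kills_ge (pr_kills hx₁ x₁) (by omega), mul_zero, add_zero]
        · rw [hy₁def, pr_shift_right hXi hx₁, hgi i hi, hgl i (by omega) hij]
          rcases Nat.lt_or_ge (i + m) j with hlt | hge
          · rw [show i + m = j - 1 by omega, kills_top (pr_kills hx₁ x₁) (by omega), htx₁, mul_zero, mul_zero,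
              add_zero]
          · rw [kills_ge (pr_kills hx₁ x₁) hge, mul_zero, add_zero]
        · rw [hy₁def, pr_shift_step hXi hy hx₁ r hm hod, hgyx, hquad x₁ hx₁ htx₁, mul_one, mul_zero, add_zero,
            CharTwo.add_self_eq_zero]
      obtain ⟨m, hm⟩ : ∃ m, d + m + 1 = j := ⟨j - 1 - d, by omega⟩
      set s := pr T x₁ y₁ (nu F ^ d)
      set y₂ := y₁ + s • T.op (nu F ^ m) y₁ with hy₂def
      have hyy : ∀ i, d ≤ i → pr T y₂ y₂ (nu F ^ i) = pr T y₁ y₁ (nu F ^ i) := fun i hi =>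
        pr_shift_high hXi hy₁ hy₁ hj s (by omega) (by omega)
      have hgg : ∀ i, d < i → pr T x₁ y₂ (nu F ^ i) = pr T x₁ y₁ (nu F ^ i) := fun i hi => by
        rw [hy₂def, pr_shift_right hXi hx₁, kills_ge (pr_kills hx₁ y₁) (by omega), mul_zero, add_zero]
      refine ih x₁ y₂ hx₁ (kill_shift hy₁ hy₁ s m) ?_ ?_ ?_ (fun i hi hij => ?_) (fun i hi hij => ?_)
        (fun i hi hij => ?_) (fun i hi ho hij => ?_)
      · rw [hgg _ (by omega), hg₁]
      · rw [hhx _ (by omega), htx]
      · rw [hyy _ (by omega), hhy _ (by omega), hty]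
      · rw [hhx i (Or.inr (by omega)), ha i hi hij]
      · rw [hyy i (by omega), hhy i (Or.inr (by omega)), hb i hi hij]
      · rcases Nat.lt_or_ge d i with h | h
        · rw [hgg i h, hgl₁ i h hij]
        · obtain rfl : i = d := by omega
          rw [hy₂def, pr_shift_right hXi hx₁, kills_top (pr_kills hx₁ y₁) (by omega), eval_pow, Xi_eval hXi hj,
            one_pow, one_mul, show i + m = j - 1 by omega, hg₁, mul_one, CharTwo.add_self_eq_zero]
      · rcases Nat.lt_or_ge d i with h | h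
        · exact ⟨by rw [hhx i (Or.inl h)]; exact (hc i h ho hij).1,
            by rw [hyy i hi, hhy i (Or.inl h)]; exact (hc i h ho hij).2⟩
        · obtain rfl : i = d := by omega
          exact ⟨(hc₁ ho hij).1, by rw [hyy i le_rfl]; exact (hc₁ ho hij).2⟩
  exact key j x y hx hy hg htx hty ha hb (fun i hi hij => absurd hij (by omega))
    (fun i hi _ hij => absurd hij (by omega))

/-- Cleaning a single vector below the bit. -/
theorem single_normal {x : V} (hx : T.op (nu F ^ j) x = 0) (ht : pr T x x (nu F ^ (j - 1)) = 1)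
    {c : F} (he : Even j) (hd : ∀ i, Odd i → i + 3 = j → pr T x x (nu F ^ i) = c) :
    ∃ x', SingleNF T j c x' := by
  have key : ∀ d, ∀ x, T.op (nu F ^ j) x = 0 → pr T x x (nu F ^ (j - 1)) = 1 →
      (∀ i, Odd i → i + 3 = j → pr T x x (nu F ^ i) = c) →
      (∀ i, d ≤ i → Odd i → i + 3 < j → pr T x x (nu F ^ i) = 0) → ∃ x', SingleNF T j c x' := by
    intro d
    induction d with
    | zero =>
      intro x hx ht hd hc
      refine ⟨x, ⟨hx, ht, fun i ho hi => ?_⟩⟩
      split_ifs with h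
      · exact hd i ho h
      · refine hc i (Nat.zero_le _) ho ?_
        obtain ⟨a, rfl⟩ := ho
        obtain ⟨b, rfl⟩ := he
        omega
    | succ d ih =>
      intro x hx ht hd hc
      by_cases hod : Odd d ∧ d + 3 < j
      swap
      · exact ih x hx ht hd fun i hi ho hij => by
          rcases Nat.lt_or_ge d i with h | h
          · exact hc i h ho hij
          · obtain rfl : i = d := by omega
            exact absurd ⟨ho, hij⟩ hod
      obtain ⟨hod, hd3⟩ := hod
      obtain ⟨m, hm⟩ : ∃ m, d + m + 2 = j := ⟨j - 2 - d, by omega⟩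
      set l := pr T x x (nu F ^ d)
      set x₁ := x + l • T.op (nu F ^ m) x with hx₁def
      have hhx : ∀ i, d < i → pr T x₁ x₁ (nu F ^ i) = pr T x x (nu F ^ i) := fun i hi =>
        pr_shift_high hXi hx hx hj l (by omega) (by omega)
      refine ih x₁ (kill_shift hx hx l m) (by rw [hhx _ (by omega), ht]) (fun i ho hij => ?_)
        (fun i hi ho hij => ?_)
      · rw [hhx i (by omega), hd i ho hij]
      · rcases Nat.lt_or_ge d i with h | h
        · rw [hhx i h]; exact hc i h ho hij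
        · obtain rfl : i = d := by omega
          rw [hx₁def, pr_shift_step hXi hx hx l hm hod, ht,
            kills_ge (pr_kills hx x) (show j ≤ i + 2 * m by omega), mul_zero, mul_one, add_zero,
            CharTwo.add_self_eq_zero]
  exact key j x hx ht hd fun i hi _ hij => absurd hij (by omega)

end Normal

end Cfsg.Agent.Lib.ClassNumber
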