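import Cfsg.Agent.Lib.ClassNumber.TwoNumeric
import Cfsg.Agent.Lib.ClassNumber.SympCount
import Cfsg.Agent.Lib.GLClasses.SLCount

/-!
The weighted count of codes of symplectic isometries in characteristic two.
-/

set_option autoImplicit false

namespace Cfsg.Agent.Lib.ClassNumber

open Polynomial Module Cfsg.Agent.Lib.GLClasses UniqueFactorizationMonoid
open scoped Classical

universe u v

/-- The multiplicities as a function on block sizes. -/
def extTuple {M : ℕ} (a : Fin M → ℕ) (J : ℕ) : ℕ := if h : 1 ≤ J ∧ J ≤ M then a ⟨J - 1, by omega⟩ else 0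

theorem extTuple_snoc_le {M : ℕ} (a : Fin M → ℕ) (v J : ℕ) (h1 : 1 ≤ J) (h2 : J ≤ M) :
    extTuple (Fin.snoc a v : Fin (M + 1) → ℕ) J = extTuple a J := by
  rw [extTuple, extTuple, dif_pos ⟨h1, by omega⟩, dif_pos ⟨h1, h2⟩]
  rw [show (⟨J - 1, by omega⟩ : Fin (M + 1)) = Fin.castSucc ⟨J - 1, by omega⟩ from rfl, Fin.snoc_castSucc]

theorem extTuple_snoc_last {M : ℕ} (a : Fin M → ℕ) (v : ℕ) :
    extTuple (Fin.snoc a v : Fin (M + 1) → ℕ) (M + 1) = v := by
  rw [extTuple, dif_pos ⟨by omega, le_rfl⟩]
  rw [show (⟨M + 1 - 1, by omega⟩ : Fin (M + 1)) = Fin.last M from rfl, Fin.snoc_last]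

/-- The possible multiplicities at one size. -/
def urange (B J : ℕ) : Finset ℕ := (Finset.range (B + 1)).filter fun v => Odd J → Even v

/-- Half the dimension taken by the multiplicity. -/
def hdim (J v : ℕ) : ℕ := if Even J then J / 2 * v else J * (v / 2)

/-- The total half dimension. -/
def hsum {M : ℕ} (a : Fin M → ℕ) : ℕ := ∑ j : Fin M, hdim ((j : ℕ) + 1) (a j)

theorem two_hdim {J v : ℕ} (h : Odd J → Even v) : 2 * hdim J v = J * v := by
  rcases Nat.even_or_odd J with he | ho
  · rw [hdim, if_pos he, ← mul_assoc, Nat.mul_div_cancel' he.two_dvd]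
  · rw [hdim, if_neg (Nat.not_even_iff_odd.2 ho), mul_left_comm, Nat.mul_div_cancel' (h ho).two_dvd]

/-- The multiplicity tuples. -/
def utuples (B M : ℕ) : Finset (Fin M → ℕ) := Fintype.piFinset fun j : Fin M => urange B ((j : ℕ) + 1)

theorem geom_pos_le {y : ℚ} (hy : 0 ≤ y) (hy1 : y < 1) (B : ℕ) :
    ∑ v ∈ (Finset.range (B + 1)).filter (fun v => v ≠ 0), y ^ v ≤ y / (1 - y) := by
  suffices H : ∀ B, ∑ v ∈ (Finset.range (B + 1)).filter (fun v => v ≠ 0), y ^ v = y / (1 - y) * (1 - y ^ B) by
    rw [H]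
    exact mul_le_of_le_one_right (div_nonneg hy (by linarith)) (by linarith [pow_nonneg hy B])
  intro B
  induction B with
  | zero => simp [Finset.sum_filter]
  | succ B ih =>
    rw [Finset.sum_filter, Finset.sum_range_succ, ← Finset.sum_filter, ih, if_pos (Nat.succ_ne_zero B), pow_succ]
    field_simp [show (1 : ℚ) - y ≠ 0 by linarith]
    ring

theorem geom_even_le {y : ℚ} (hy : 0 ≤ y) (hy1 : y < 1) (B : ℕ) :
    ∑ v ∈ (Finset.range (B + 1)).filter (fun v => v ≠ 0 ∧ Even v), y ^ (v / 2) ≤ y / (1 - y) := by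
  suffices H : ∀ B, ∑ v ∈ (Finset.range (B + 1)).filter (fun v => v ≠ 0 ∧ Even v), y ^ (v / 2) =
      y / (1 - y) * (1 - y ^ (B / 2)) by
    rw [H]
    exact mul_le_of_le_one_right (div_nonneg hy (by linarith)) (by linarith [pow_nonneg hy (B / 2)])
  intro B
  induction B with
  | zero => simp [Finset.sum_filter]
  | succ B ih =>
    rw [Finset.sum_filter, Finset.sum_range_succ, ← Finset.sum_filter, ih]
    rcases Nat.even_or_odd (B + 1) with he | ho
    · rw [if_pos ⟨Nat.succ_ne_zero B, he⟩, show (B + 1) / 2 = B / 2 + 1 by obtain ⟨c, hc⟩ := he; omega, pow_succ]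
      field_simp [show (1 : ℚ) - y ≠ 0 by linarith]
      ring
    · rw [if_neg fun h => Nat.not_even_iff_odd.2 ho h.2, show (B + 1) / 2 = B / 2 by obtain ⟨c, hc⟩ := ho; omega,
        add_zero]

theorem sum_urange {J : ℕ} (B : ℕ) (f : ℕ → ℚ) :
    ∑ v ∈ urange B J, f v = f 0 + ∑ v ∈ (urange B J).filter (fun v => v ≠ 0), f v := by
  have h0 : (0 : ℕ) ∈ urange B J := by simp [urange]
  rw [← Finset.add_sum_erase _ _ h0, Finset.filter_ne']

/-- The weighted sums of labels are bounded by the generating function. -/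
theorem sum_st_le (B : ℕ) : ∀ M : ℕ,
    ∑ a ∈ utuples B M, ((st (extTuple a) M).1 : ℚ) * (1 / 2) ^ hsum a ≤ (gq M).1 ∧
      ∑ a ∈ utuples B M, ((st (extTuple a) M).2 : ℚ) * (1 / 2) ^ hsum a ≤ (gq M).2 := by
  intro M
  induction M with
  | zero => simp [utuples, st, gq, hsum]
  | succ M ih =>
    obtain ⟨i1, i2⟩ := ih
    set SgT := ∑ a ∈ utuples B M, ((st (extTuple a) M).1 : ℚ) * (1 / 2) ^ hsum a with hSgT
    set SgA := ∑ a ∈ utuples B M, ((st (extTuple a) M).2 : ℚ) * (1 / 2) ^ hsum a with hSgA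
    have hT0 : 0 ≤ SgT := Finset.sum_nonneg fun a _ => by positivity
    have hA0 : 0 ≤ SgA := Finset.sum_nonneg fun a _ => by positivity
    have hsplit : ∀ φ : ℕ × ℕ → ℕ, ∑ a ∈ utuples B (M + 1), (φ (st (extTuple a) (M + 1)) : ℚ) * (1 / 2) ^ hsum a =
        ∑ v ∈ urange B (M + 1), (1 / 2) ^ hdim (M + 1) v *
          ∑ a ∈ utuples B M, (φ (stStep (M + 1) v (st (extTuple a) M)) : ℚ) * (1 / 2) ^ hsum a := by
      intro φ
      simp only [Finset.mul_sum]
      rw [← Finset.sum_product']
      refine Finset.sum_bij' (fun a _ => (a (Fin.last M), Fin.init a)) (fun p _ => Fin.snoc p.2 p.1)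
        ?_ ?_ (fun a _ => Fin.snoc_init_self a) (fun p _ => by simp) (fun a ha => ?_)
      · intro a ha
        simp only [utuples, Fintype.mem_piFinset, Finset.mem_product] at ha ⊢
        exact ⟨by simpa using ha (Fin.last M), fun j => by simpa [Fin.init] using ha j.castSucc⟩
      · intro p hp
        simp only [utuples, Fintype.mem_piFinset, Finset.mem_product] at hp ⊢
        refine fun j => ?_
        refine Fin.lastCases ?_ (fun i => ?_) j
        · simpa using hp.1
        · simpa using hp.2 i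
      · conv_lhs => rw [← Fin.snoc_init_self a]
        rw [st, extTuple_snoc_last, st_congr (a := extTuple (Fin.snoc (Fin.init a) (a (Fin.last M)) : Fin (M + 1) → ℕ))
          (b := extTuple (Fin.init a)) (fun J h1 h2 => extTuple_snoc_le _ _ J h1 h2), hsum, Fin.sum_univ_castSucc]
        simp only [Fin.snoc_castSucc, Fin.snoc_last, Fin.val_castSucc, Fin.val_last]
        rw [pow_add, hsum]
        ring
    have lin : ∀ (φ : ℕ × ℕ → ℕ) (v : ℕ) (c d : ℕ),
        (∀ p, φ (stStep (M + 1) v p) = c * p.1 + d * p.2) →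
        ∑ a ∈ utuples B M, (φ (stStep (M + 1) v (st (extTuple a) M)) : ℚ) * (1 / 2) ^ hsum a = c * SgT + d * SgA := by
      intro φ v c d h
      rw [hSgT, hSgA, Finset.mul_sum, Finset.mul_sum, ← Finset.sum_add_distrib]
      exact Finset.sum_congr rfl fun a _ => by rw [h]; push_cast; ring
    rw [hsplit Prod.fst, hsplit Prod.snd, sum_urange, sum_urange]
    simp only [show hdim (M + 1) 0 = 0 by simp [hdim], pow_zero, one_mul]
    rcases Nat.eq_zero_or_pos M with rfl | hM
    · -- size one
      have h1 : ∀ v, ∀ p, (stStep (0 + 1) v p) = p := fun v p => by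
        rw [stStep]; split_ifs <;> simp_all
      rw [lin Prod.fst 0 1 0 (fun p => by rw [h1]; ring), lin Prod.snd 0 0 1 (fun p => by rw [h1]; ring)]
      simp only [h1, ← hSgT, ← hSgA, ← Finset.sum_mul]
      have hg : ∑ v ∈ (urange B (0 + 1)).filter (fun v => v ≠ 0), (1 / 2 : ℚ) ^ hdim (0 + 1) v ≤ 1 := by
        refine le_trans (le_of_eq ?_) ((geom_even_le (y := 1 / 2) (by norm_num) (by norm_num) B).trans (by norm_num))
        rw [urange, Finset.filter_filter]
        refine Finset.sum_congr (Finset.filter_congr fun v _ => ?_) fun v _ => by simp [hdim]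
        simp [and_comm]
      have e : gq (0 + 1) = (2 * (gq 0).1, 2 * (gq 0).2) := by simp [gq]
      rw [e]
      push_cast
      constructor <;> nlinarith
    have hne : M + 1 ≠ 1 := by omega
    rcases Nat.even_or_odd (M + 1) with he | ho
    · obtain ⟨k, hk⟩ := he
      have hk' : (M + 1) / 2 = k := by omega
      have hnod : ¬ Odd (M + 1) := Nat.not_odd_iff_even.2 ⟨k, hk⟩
      have hd : ∀ v, (1 / 2 : ℚ) ^ hdim (M + 1) v = ((1 / 2) ^ k) ^ v := fun v => by
        rw [hdim, if_pos ⟨k, hk⟩, hk', pow_mul]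
      have hz := half_pow_lt (k := k) (by omega)
      have hz0 := half_pow_pos k
      set z : ℚ := (1 / 2) ^ k
      set c : ℕ := if M + 1 = 2 then 0 else 1 with hc
      have hcA : ∀ A : ℕ, (if M + 1 = 2 then 0 else A) = c * A := fun A => by rw [hc]; split_ifs <;> simp
      have s0 : ∀ p, stStep (M + 1) 0 p = (p.1, p.1) := fun p => by rw [stStep, if_pos rfl, if_neg hnod]
      have s1 : ∀ v, v ≠ 0 → ∀ p : ℕ × ℕ, stStep (M + 1) v p =
          ((if Even v then 2 else 1) * p.1 + c * p.2, (if Even v then 1 else 0) * p.1) := fun v hv p => by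
        rw [stStep, if_neg hv, if_neg hne, if_neg hnod, hcA]
        rcases Nat.even_or_odd v with h | h
        · rw [if_neg (Nat.not_odd_iff_even.2 h), if_pos h, if_pos h]; simp; ring
        · rw [if_pos h, if_neg (Nat.not_even_iff_odd.2 h), if_neg (Nat.not_even_iff_odd.2 h)]; simp
      rw [lin Prod.fst 0 1 0 (fun p => by rw [s0]; ring), lin Prod.snd 0 1 0 (fun p => by rw [s0]; ring),
        Finset.sum_congr rfl fun v hv => by
          rw [lin Prod.fst v (if Even v then 2 else 1) c (fun p => by rw [s1 v (Finset.mem_filter.1 hv).2])],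
        Finset.sum_congr (s₁ := (urange B (M + 1)).filter (fun v => v ≠ 0))
          (f := fun v => (1 / 2 : ℚ) ^ hdim (M + 1) v *
            ∑ a ∈ utuples B M, ((stStep (M + 1) v (st (extTuple a) M)).2 : ℚ) * (1 / 2) ^ hsum a) rfl
          fun v hv => by
            rw [lin Prod.snd v (if Even v then 1 else 0) 0
              (fun p => by rw [s1 v (Finset.mem_filter.1 hv).2]; ring)]]
      have hU : (urange B (M + 1)).filter (fun v => v ≠ 0) = (Finset.range (B + 1)).filter (fun v => v ≠ 0) := by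
        rw [urange, Finset.filter_filter]
        exact Finset.filter_congr fun v _ => ⟨And.right, fun h => ⟨fun ho => absurd ho hnod, h⟩⟩
      rw [hU]
      simp only [hd]
      set S := ∑ v ∈ (Finset.range (B + 1)).filter (fun v => v ≠ 0), z ^ v with hS
      set E := ∑ v ∈ (Finset.range (B + 1)).filter (fun v => v ≠ 0 ∧ Even v), z ^ v with hE
      have hEle : E ≤ z ^ 2 / (1 - z ^ 2) := by
        refine le_trans (le_of_eq ?_) (geom_even_le (y := z ^ 2) (by positivity) (by nlinarith) B)
        refine Finset.sum_congr rfl fun v hv => ?_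
        conv_rhs => rw [← pow_mul, Nat.mul_div_cancel' (Finset.mem_filter.1 hv).2.2.two_dvd]
      have hSle := geom_pos_le hz0.le hz B
      have hE0 : 0 ≤ E := Finset.sum_nonneg fun v _ => by positivity
      have hS0 : 0 ≤ S := Finset.sum_nonneg fun v _ => by positivity
      have e1 : ∑ v ∈ (Finset.range (B + 1)).filter (fun v => v ≠ 0),
          z ^ v * (((if Even v then 2 else 1 : ℕ) : ℚ) * SgT + (c : ℚ) * SgA) = S * (SgT + c * SgA) + E * SgT := by
        rw [hS, hE, ← Finset.filter_filter, Finset.sum_filter Even, Finset.sum_mul, Finset.sum_mul,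
          ← Finset.sum_add_distrib]
        exact Finset.sum_congr rfl fun v _ => by split_ifs <;> push_cast <;> ring
      have e2 : ∑ v ∈ (Finset.range (B + 1)).filter (fun v => v ≠ 0),
          z ^ v * (((if Even v then 1 else 0 : ℕ) : ℚ) * SgT + ((0 : ℕ) : ℚ) * SgA) = E * SgT := by
        rw [hE, ← Finset.filter_filter, Finset.sum_filter Even, Finset.sum_mul]
        exact Finset.sum_congr rfl fun v _ => by split_ifs <;> push_cast <;> ring
      rw [e1, e2, gq, if_neg (by omega : ¬ M = 0), if_neg hnod, hk']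
      have hc' : (if M + 1 = 2 then (0 : ℚ) else (gq M).2) = (c : ℚ) * (gq M).2 := by
        rw [hc]; split_ifs <;> simp
      rw [hc']
      dsimp only
      push_cast
      have hcn : (0 : ℚ) ≤ c := Nat.cast_nonneg c
      have hEE := mul_le_mul hEle i1 hT0 (hE0.trans hEle)
      have hSS := mul_le_mul hSle (add_le_add i1 (mul_le_mul_of_nonneg_left i2 hcn)) (by positivity)
        (hS0.trans hSle)
      constructor <;> nlinarith
    · have hd : ∀ v, (1 / 2 : ℚ) ^ hdim (M + 1) v = ((1 / 2) ^ (M + 1)) ^ (v / 2) := fun v => by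
        rw [hdim, if_neg (Nat.not_even_iff_odd.2 ho), pow_mul]
      have hz := half_pow_lt (k := M + 1) (by omega)
      have hz0 := half_pow_pos (M + 1)
      set y : ℚ := (1 / 2) ^ (M + 1)
      have s0 : ∀ p, stStep (M + 1) 0 p = p := fun p => by rw [stStep, if_pos rfl, if_pos ho]
      have s1 : ∀ v, v ≠ 0 → ∀ p : ℕ × ℕ, stStep (M + 1) v p = (p.1 + p.2, 0) := fun v hv p => by
        rw [stStep, if_neg hv, if_neg hne, if_pos ho]
      rw [lin Prod.fst 0 1 0 (fun p => by rw [s0]; ring), lin Prod.snd 0 0 1 (fun p => by rw [s0]; ring),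
        Finset.sum_congr rfl fun v hv => by
          rw [lin Prod.fst v 1 1 (fun p => by rw [s1 v (Finset.mem_filter.1 hv).2]; ring)],
        Finset.sum_congr (s₁ := (urange B (M + 1)).filter (fun v => v ≠ 0))
          (f := fun v => (1 / 2 : ℚ) ^ hdim (M + 1) v *
            ∑ a ∈ utuples B M, ((stStep (M + 1) v (st (extTuple a) M)).2 : ℚ) * (1 / 2) ^ hsum a) rfl
          fun v hv => by
            rw [lin Prod.snd v 0 0 (fun p => by rw [s1 v (Finset.mem_filter.1 hv).2]; ring)]]
      simp only [hd, ← Finset.sum_mul]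
      set S := ∑ v ∈ (urange B (M + 1)).filter (fun v => v ≠ 0), y ^ (v / 2) with hS
      have hSle : S ≤ y / (1 - y) := by
        refine le_trans (le_of_eq ?_) (geom_even_le hz0.le hz B)
        rw [hS, urange, Finset.filter_filter]
        refine Finset.sum_congr (Finset.filter_congr fun v _ => ?_) fun v _ => rfl
        exact ⟨fun h => ⟨h.2, h.1 ho⟩, fun h => ⟨fun _ => h.2, h.1⟩⟩
      have hS0 : 0 ≤ S := Finset.sum_nonneg fun v _ => by positivity
      rw [gq, if_neg (by omega : ¬ M = 0), if_pos ho]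
      dsimp only
      push_cast
      have hSS := mul_le_mul hSle (add_le_add i1 i2) (by positivity) (hS0.trans hSle)
      constructor <;> nlinarith

section Halves

variable {F : Type v} [Field F] [CharP F 2]

/-- The palindrome of a polynomial. -/
noncomputable def hom2 (f : F[X]) : F[X] :=
  ∑ i ∈ Finset.range (f.natDegree + 1), C (f.coeff i) * X ^ (f.natDegree - i) * (X ^ 2 + 1) ^ i

theorem exists_half {h : F[X]} (hm : h.Monic) (h0 : h.coeff 0 ≠ 0) (hs : srp (RingHom.id F) h = h)
    (h1 : h.eval 1 ≠ 0) :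
    ∃ f : F[X], f.Monic ∧ f.coeff 0 ≠ 0 ∧ h.natDegree = 2 * f.natDegree ∧ hom2 f = h := by
  have hrev : h.reverse = C (h.coeff 0) * h := by
    conv_rhs => arg 2; rw [← hs, srp_id]
    rw [← mul_assoc, ← C_mul, mul_inv_cancel₀ h0, C_1, one_mul]
  have e1 : h.coeff 0 = 1 := by
    have h5 := congrArg (eval 1) hrev
    haveI : Invertible (1 : F) := invertibleOne
    have e := eval₂_reverse_mul_pow (RingHom.id F) (1 : F) h
    rw [invOf_one, one_pow, mul_one, eval₂_id, eval₂_id] at e
    rw [e, eval_mul, eval_C] at h5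
    exact (mul_eq_right₀ h1).1 h5.symm
  rw [e1, C_1, one_mul] at hrev
  have hsym0 : ∀ k ≤ h.natDegree, h.coeff k = h.coeff (h.natDegree - k) := fun k hk => by
    conv_lhs => rw [← hrev, coeff_reverse, revAt_le hk]
  obtain ⟨d, hd⟩ : Even h.natDegree := by
    rw [← Nat.not_odd_iff_even]
    intro ho
    apply h1
    rw [eval_eq_sum_range]
    simp only [one_pow, mul_one]
    refine Finset.sum_involution (fun k _ => h.natDegree - k) (fun k hk => ?_) (fun k hk _ => ?_)
      (fun k hk => ?_) (fun k hk => ?_)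
    · rw [Finset.mem_range] at hk
      rw [← hsym0 k (by omega), CharTwo.add_self_eq_zero]
    · rw [Finset.mem_range] at hk
      obtain ⟨c, hc⟩ := ho
      omega
    · rw [Finset.mem_range]; omega
    · rw [Finset.mem_range] at hk; omega
  have hd' : h.natDegree = 2 * d := by omega
  obtain ⟨c, hc⟩ := exists_pal_coeffs d h hd'.le fun k hk => by
    rw [← hd'] at hk ⊢; exact hsym0 k hk
  have hcd : c d = 1 := by
    rw [← e1, coeff_zero_eq_eval_zero, hc]
    simp only [eval_finsetSum, eval_mul, eval_pow, eval_add, eval_X, eval_one, eval_C]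
    rw [Finset.sum_range_succ, Finset.sum_eq_zero fun i hi => ?_]
    · simp
    · rw [Finset.mem_range] at hi
      rw [zero_pow (by omega : d - i ≠ 0)]
      ring
  set f : F[X] := ∑ i ∈ Finset.range (d + 1), C (c i) * X ^ i with hf
  have hcoef : ∀ i, f.coeff i = if i ≤ d then c i else 0 := fun i => by
    rw [hf, finsetSum_coeff]
    simp [coeff_X_pow, Nat.lt_succ_iff]
  have hfd : f.natDegree = d := natDegree_eq_of_le_of_coeff_ne_zero
    (natDegree_le_iff_coeff_eq_zero.2 fun N hN => by rw [hcoef, if_neg (by omega)])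
    (by rw [hcoef, if_pos le_rfl, hcd]; exact one_ne_zero)
  refine ⟨f, by rw [Monic, leadingCoeff, hfd, hcoef, if_pos le_rfl, hcd], ?_, by rw [hfd, hd'], ?_⟩
  · rw [hcoef, if_pos (Nat.zero_le d)]
    intro hc0
    apply h1
    rw [hc]
    simp only [eval_finsetSum, eval_mul, eval_pow, eval_add, eval_X, eval_one, eval_C, one_pow, mul_one]
    refine Finset.sum_eq_zero fun i _ => ?_
    rcases Nat.eq_zero_or_pos i with rfl | hi
    · rw [hc0, zero_mul]
    · rw [CharTwo.add_self_eq_zero, zero_pow hi.ne', mul_zero]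
  · rw [hom2, hfd, hc]
    exact Finset.sum_congr rfl fun i hi => by
      rw [Finset.mem_range] at hi
      rw [hcoef, if_pos (by omega)]

variable [Fintype F]

/-- The codes which can occur for symplectic isometries in characteristic two. -/
def AdmTwo {n : ℕ} (g : Fin n → F[X]) : Prop :=
  ∀ j, srp (RingHom.id F) (g j) = g j ∧ (Odd ((j : ℕ) + 1) → Even ((normalizedFactors (g j)).count (nu F)))

omit [CharP F 2] in
theorem card_codes_le_pow (n m : ℕ) : (codes F n m).card ≤ Fintype.card F ^ m := by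
  rcases Nat.eq_zero_or_pos m with rfl | hm
  · refine (Finset.card_le_one.2 fun g hg g' hg' => _root_.funext fun j => ?_).trans (Nat.one_le_pow _ _ Fintype.card_pos)
    obtain ⟨h1, h2⟩ := mem_codes.1 hg
    obtain ⟨h1', h2'⟩ := mem_codes.1 hg'
    simp only [wt, Finset.sum_eq_zero_iff, Finset.mem_univ, forall_const, mul_eq_zero] at h2 h2'
    rw [(h1 j).1.natDegree_eq_zero.1 ((h2 j).resolve_left (by omega)),
      (h1' j).1.natDegree_eq_zero.1 ((h2' j).resolve_left (by omega))]
  · exact (card_codes n m).trans ((num_le _ _ _ Fintype.card_pos hm).trans (Nat.sub_le _ _))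

omit [Fintype F] in
theorem uc_blocks {n : ℕ} (g : Fin n → F[X]) (j : Fin n) :
    uc (blocks g) ((j : ℕ) + 1) = (normalizedFactors (g j)).count (nu F) := count_blocks g (nu F) j

/-- The weighted count of codes. -/
theorem sum_admTwo_le (n : ℕ) :
    5 * (∑ g ∈ (codes F (2 * n) (2 * n)).filter AdmTwo, (st (uc (blocks g)) (2 * n)).1) ≤
      76 * Fintype.card F ^ n := by
  set q := Fintype.card F
  set M := 2 * n with hM
  set A := (utuples M M).filter (fun a => hsum a ≤ n)
  let Ψ : (Σ _ : Fin M → ℕ, Fin M → F[X]) → Fin M → F[X] := fun p j => nu F ^ p.1 j * hom2 (p.2 j)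
  have hcov : ∀ g ∈ (codes F M M).filter AdmTwo, ∃ p ∈ A.sigma fun a => codes F M (n - hsum a),
      Ψ p = g ∧ (st (uc (blocks g)) M).1 = (st (extTuple p.1) M).1 := by
    intro g hg
    obtain ⟨hgc, hadm⟩ := Finset.mem_filter.1 hg
    obtain ⟨hc, hwt⟩ := mem_codes.1 hgc
    set a : Fin M → ℕ := fun j => (normalizedFactors (g j)).count (nu F)
    have hh : ∀ j, ∃ f : F[X], f.Monic ∧ f.coeff 0 ≠ 0 ∧ (g j).natDegree = a j + 2 * f.natDegree ∧
        nu F ^ a j * hom2 f = g j := by
      intro j
      set s := (normalizedFactors (g j)).filter fun r => r ≠ nu F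
      have hms : ∀ r ∈ s, r.Monic := fun r hr => factor_monic (Multiset.mem_filter.1 hr).1
      have hm : s.prod.Monic := by simpa using monic_multiset_prod_of_monic s id hms
      have hg' : nu F ^ a j * s.prod = g j := by
        conv_rhs => rw [← prod_factors (hc j).1, ← Multiset.filter_add_not (fun r => r = nu F) (normalizedFactors (g j))]
        rw [Multiset.prod_add, Multiset.filter_eq', Multiset.prod_replicate]
      have hdvd : s.prod ∣ g j := ⟨nu F ^ a j, by rw [mul_comm]; exact hg'.symm⟩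
      have h1 : s.prod.eval 1 ≠ 0 := fun h0 => by
        obtain ⟨r, hr, hd⟩ := (nu_irreducible (F := F)).prime.exists_mem_multiset_dvd (dvd_iff_isRoot.2 h0)
        obtain ⟨hr1, hr2⟩ := Multiset.mem_filter.1 hr
        exact hr2 (eq_of_monic_of_associated (hms r hr) nu_monic
          (nu_irreducible.associated_of_dvd (irreducible_of_normalized_factor r hr1) hd).symm)
      have hs : srp (RingHom.id F) s.prod = s.prod := by
        have h := (hadm j).1
        rw [← hg', srp_mul, srp_pow, srp_nu] at h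
        exact mul_left_cancel₀ (pow_ne_zero _ nu_irreducible.ne_zero) h
      obtain ⟨f, f1, f2, f3, f4⟩ := exists_half hm (coeff_zero_ne_of_dvd hdvd (hc j).2) hs h1
      refine ⟨f, f1, f2, ?_, by rw [f4, hg']⟩
      conv_lhs => rw [← hg']
      rw [(nu_monic.pow _).natDegree_mul hm, natDegree_pow, f3, nu, natDegree_X_sub_C, mul_one]
    choose f f1 f2 f3 f4 using hh
    have hpar : ∀ j : Fin M, Odd ((j : ℕ) + 1) → Even (a j) := fun j => (hadm j).2
    have hsz : 2 * hsum a + 2 * wt f = M := by
      rw [hsum, wt, Finset.mul_sum, Finset.mul_sum, ← Finset.sum_add_distrib]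
      refine (Finset.sum_congr rfl fun j _ => ?_).trans hwt
      rw [two_hdim (hpar j), f3]
      ring
    have hle : ∀ j, a j ≤ M := fun j => by
      have h := Finset.single_le_sum (f := fun j : Fin M => ((j : ℕ) + 1) * (g j).natDegree)
        (fun _ _ => Nat.zero_le _) (Finset.mem_univ j)
      rw [show (∑ j : Fin M, ((j : ℕ) + 1) * (g j).natDegree) = M from hwt] at h
      have := (Nat.le_mul_of_pos_left _ (Nat.succ_pos (j : ℕ))).trans h
      have := f3 j
      omega
    refine ⟨⟨a, f⟩, Finset.mem_sigma.2 ⟨Finset.mem_filter.2 ⟨?_, show hsum a ≤ n by omega⟩,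
      mem_codes.2 ⟨fun j => ⟨f1 j, f2 j⟩, show wt f = n - hsum a by omega⟩⟩, _root_.funext f4, ?_⟩
    · simp only [utuples, Fintype.mem_piFinset, urange, Finset.mem_filter, Finset.mem_range]
      exact fun j => ⟨by have := hle j; omega, hpar j⟩
    · rw [st_congr fun J h1 h2 => ?_]
      rw [extTuple, dif_pos ⟨h1, h2⟩]
      have := uc_blocks g ⟨J - 1, by omega⟩
      rwa [show (J - 1) + 1 = J by omega] at this
  choose! p hp hpΨ hpw using hcov
  have h1 : ∑ g ∈ (codes F M M).filter AdmTwo, (st (uc (blocks g)) M).1 ≤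
      ∑ a ∈ A, (st (extTuple a) M).1 * q ^ (n - hsum a) := by
    calc ∑ g ∈ (codes F M M).filter AdmTwo, (st (uc (blocks g)) M).1
        = ∑ g ∈ (codes F M M).filter AdmTwo, (st (extTuple (p g).1) M).1 := Finset.sum_congr rfl hpw
      _ = ∑ x ∈ ((codes F M M).filter AdmTwo).image p, (st (extTuple x.1) M).1 :=
          (Finset.sum_image (f := fun x => (st (extTuple x.1) M).1) fun g hg g' hg' e => (hpΨ g hg).symm.trans ((congrArg Ψ e).trans (hpΨ g' hg'))).symm
      _ ≤ ∑ x ∈ A.sigma fun a => codes F M (n - hsum a), (st (extTuple x.1) M).1 :=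
          Finset.sum_le_sum_of_subset fun x hx => by
            obtain ⟨g, hg, rfl⟩ := Finset.mem_image.1 hx
            exact hp g hg
      _ = ∑ a ∈ A, (codes F M (n - hsum a)).card * (st (extTuple a) M).1 := by
          rw [Finset.sum_sigma]
          exact Finset.sum_congr rfl fun a _ => by simp only [Finset.sum_const, smul_eq_mul]
      _ ≤ _ := Finset.sum_le_sum fun a _ => by
          rw [mul_comm]; exact Nat.mul_le_mul_left _ (card_codes_le_pow M _)
  have hq : (2 : ℚ) ≤ q := by exact_mod_cast Fintype.one_lt_card (α := F)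
  have h2 : ((∑ g ∈ (codes F M M).filter AdmTwo, (st (uc (blocks g)) M).1 : ℕ) : ℚ) ≤
      (q : ℚ) ^ n * (gq M).1 := by
    refine ((Nat.cast_le (α := ℚ)).2 h1).trans ?_
    push_cast
    refine le_trans (Finset.sum_le_sum (g := fun a => (q : ℚ) ^ n *
      (((st (extTuple a) M).1 : ℚ) * (1 / 2) ^ hsum a)) fun a ha => ?_) ?_
    · have hle := (Finset.mem_filter.1 ha).2
      rw [← Nat.add_sub_cancel' hle, pow_add, Nat.add_sub_cancel_left, mul_assoc,
        mul_comm ((q : ℚ) ^ (n - hsum a)), mul_assoc, mul_left_comm ((q : ℚ) ^ hsum a), ← mul_assoc _ _ ((q : ℚ) ^ _),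
        ← mul_pow]
      refine mul_le_mul_of_nonneg_left ?_ (Nat.cast_nonneg _)
      exact le_mul_of_one_le_left (by positivity) (one_le_pow₀ (by linarith))
    · rw [← Finset.mul_sum]
      refine mul_le_mul_of_nonneg_left ((Finset.sum_le_sum_of_subset_of_nonneg (Finset.filter_subset _ _)
        fun a _ _ => by positivity).trans (sum_st_le M M).1) (by positivity)
  have h3 : ((5 * ∑ g ∈ (codes F M M).filter AdmTwo, (st (uc (blocks g)) M).1 : ℕ) : ℚ) ≤
      ((76 * q ^ n : ℕ) : ℚ) := by
    rw [Nat.cast_mul]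
    push_cast at h2 ⊢
    nlinarith [gq_le M, pow_nonneg (show (0 : ℚ) ≤ q by positivity) n]
  exact_mod_cast h3

end Halves

end Cfsg.Agent.Lib.ClassNumber
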