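import Cfsg.Agent.Lib.ClassNumber.TwoSteps

/-!
The labels of alternating spaces with isometry in characteristic two.
-/

set_option autoImplicit false

namespace Cfsg.Agent.Lib.ClassNumber

open Polynomial Module
open scoped Classical

universe u v

/-- The label recursion at one block size: all labels and those with vanishing diagonal. -/
def stStep (J a : ℕ) (p : ℕ × ℕ) : ℕ × ℕ :=
  if a = 0 then (if Odd J then p else (p.1, p.1))
  else if J = 1 then p
  else if Odd J then (p.1 + p.2, 0)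
  else if Odd a then (p.1 + (if J = 2 then 0 else p.2), 0)
  else (p.1 + (p.1 + (if J = 2 then 0 else p.2)), p.1)

/-- The number of labels for the multiplicities `a`. -/
def st (a : ℕ → ℕ) : ℕ → ℕ × ℕ
  | 0 => (1, 1)
  | J + 1 => stStep (J + 1) (a (J + 1)) (st a J)

theorem st_congr {a b : ℕ → ℕ} : ∀ {M : ℕ}, (∀ J, 1 ≤ J → J ≤ M → a J = b J) → st a M = st b M
  | 0, _ => rfl
  | M + 1, h => by
    rw [st, st, st_congr fun J h1 h2 => h J h1 (by omega), h (M + 1) (by omega) le_rfl]

theorem st_zero {a : ℕ → ℕ} : ∀ {M : ℕ}, (∀ J, 1 ≤ J → J ≤ M → a J = 0) → st a M = (1, 1)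
  | 0, _ => rfl
  | M + 1, h => by
    rw [st, st_zero fun J h1 h2 => h J h1 (by omega), h (M + 1) (by omega) le_rfl, stStep, if_pos rfl]
    split_ifs <;> rfl

theorem st_pred {a : ℕ → ℕ} {j : ℕ} (hj : 1 ≤ j) : st a j = stStep j (a j) (st a (j - 1)) := by
  obtain ⟨i, rfl⟩ : ∃ i, j = i + 1 := ⟨j - 1, by omega⟩
  rfl

theorem st_lift {a : ℕ → ℕ} {j M : ℕ} (hM : j ≤ M) (h0 : ∀ J, j < J → J ≤ M → a J = 0) :
    (st a M).1 = (st a j).1 ∧ ((M = j ∨ (M = j + 1 ∧ Even j)) → st a M = st a j) ∧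
      (¬ (M = j ∨ (M = j + 1 ∧ Even j)) → (st a M).2 = (st a j).1) := by
  induction M, hM using Nat.le_induction with
  | base => exact ⟨rfl, fun _ => rfl, fun h => absurd (Or.inl rfl) h⟩
  | succ M hM ih =>
    obtain ⟨h1, h2, h3⟩ := ih fun J a b => h0 J a (by omega)
    have e : st a (M + 1) = if Odd (M + 1) then st a M else ((st a M).1, (st a M).1) := by
      rw [st, h0 (M + 1) (by omega) le_rfl, stStep, if_pos rfl]
    by_cases ho : Odd (M + 1)
    · rw [if_pos ho] at e
      rw [e]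
      refine ⟨h1, fun h => h2 ?_, fun h => h3 ?_⟩
      · rcases h with h | ⟨h, -⟩
        · omega
        · exact Or.inl (by omega)
      · rintro (rfl | ⟨rfl, he⟩)
        · exact h (Or.inr ⟨rfl, by rwa [Nat.odd_add_one, Nat.not_odd_iff_even] at ho⟩)
        · rw [Nat.odd_add_one, Nat.not_odd_iff_even, Nat.even_add_one] at ho
          exact ho he
    · rw [if_neg ho] at e
      rw [e]
      refine ⟨h1, fun h => ?_, fun _ => h1⟩
      rcases h with h | ⟨h, he⟩
      · omega
      · exact absurd (show Odd (M + 1) by rw [h]; exact he.add_one) ho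

variable {F : Type v} [Field F]

/-- The multiplicities of the unipotent blocks. -/
noncomputable def uc (μ : Multiset (F[X] × ℕ)) (J : ℕ) : ℕ := μ.count (nu F, J)

/-- Unipotent blocks have size at most `M`. -/
def UBound (μ : Multiset (F[X] × ℕ)) (M : ℕ) : Prop := ∀ J, M < J → uc μ J = 0

/-- The symmetries of the blocks. -/
def SymB (μ : Multiset (F[X] × ℕ)) : Prop :=
  (∀ x ∈ μ, μ.count (srp (RingHom.id F) x.1, x.2) = μ.count x) ∧ ∀ J, Odd J → Even (uc μ J)

theorem symB_zero : SymB (0 : Multiset (F[X] × ℕ)) :=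
  ⟨fun x h => absurd h (Multiset.notMem_zero _), fun J _ => by simp [uc]⟩

theorem symB_step {μ ν : Multiset (F[X] × ℕ)} (hg : Good μ) (hle : ν ≤ μ)
    (hν : ∀ x : F[X] × ℕ, x.1.Monic → x.1.coeff 0 ≠ 0 → ν.count (srp (RingHom.id F) x.1, x.2) = ν.count x)
    (hν2 : ∀ J, Odd J → Even (uc ν J)) (h : SymB (μ - ν)) : SymB μ := by
  have hsub : ∀ y, μ.count y = ν.count y + (μ - ν).count y := fun y => by
    rw [← Multiset.count_add, add_comm, Multiset.sub_add_cancel hle]
  refine ⟨fun x hx => ?_, fun J hJ => ?_⟩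
  · obtain ⟨-, hxm, hx0, -⟩ := hg x hx
    rw [hsub, hsub x, hν x hxm hx0]
    congr 1
    by_cases h' : x ∈ μ - ν
    · exact h.1 x h'
    · rw [Multiset.count_eq_zero.2 h', Multiset.count_eq_zero]
      intro h''
      have := h.1 _ h''
      dsimp only at this
      rw [srp_srp (fun _ => rfl) hxm hx0] at this
      exact h' (Multiset.count_pos.1 (this.symm ▸ Multiset.count_pos.2 h''))
  · rw [uc, hsub]
    exact (hν2 J hJ).add (h.2 J hJ)

theorem nu_count_symm {ν : Multiset (F[X] × ℕ)} {j : ℕ} (hν : ∀ x ∈ ν, x = (nu F, j)) (x : F[X] × ℕ)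
    (hxm : x.1.Monic) (hx0 : x.1.coeff 0 ≠ 0) : ν.count (srp (RingHom.id F) x.1, x.2) = ν.count x := by
  by_cases hs : srp (RingHom.id F) x.1 = x.1
  · rw [hs]
  · rw [Multiset.count_eq_zero.2 fun h => hs ?_, Multiset.count_eq_zero.2 fun h => hs ?_]
    · obtain rfl := hν _ h
      exact srp_nu
    · obtain ⟨e, -⟩ := Prod.mk.inj (hν _ h)
      have h2 : x.1 = nu F := by rw [← srp_srp (θ := RingHom.id F) (fun _ => rfl) hxm hx0, e, srp_nu]
      rw [h2, srp_nu]

theorem uc_sub (μ ν : Multiset (F[X] × ℕ)) (J : ℕ) : uc (μ - ν) J = uc μ J - uc ν J :=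
  Multiset.count_sub _ _ _

theorem uc_single (j J : ℕ) : uc ({(nu F, j)} : Multiset (F[X] × ℕ)) J = if J = j then 1 else 0 := by
  rw [uc, Multiset.count_singleton]
  simp

theorem uc_add (μ ν : Multiset (F[X] × ℕ)) (J : ℕ) : uc (μ + ν) J = uc μ J + uc ν J :=
  Multiset.count_add _ _ _

/-- Labels with the required counts. -/
def Lab (μ : Multiset (F[X] × ℕ)) : Prop :=
  ∃ (α : Type) (_ : Fintype α) (L : Trip.{u} (RingHom.id F) (1 : F) → α),
    (∀ T S, Ok T μ → Ok S μ → L T = L S → IForm.Equiv' T.form S.form) ∧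
    (∀ T : Trip.{u} (RingHom.id F) (1 : F), Ok T μ → SymB μ) ∧
    ∀ M, UBound μ M → Fintype.card α ≤ (st (uc μ) M).1 ∧
      ∃ S : Finset α, S.card ≤ (st (uc μ) M).2 ∧ ∀ T, Ok T μ → AltTop M T.form → L T ∈ S

theorem lab_of_top {μ : Multiset (F[X] × ℕ)} {j : ℕ} (hmem : (nu F, j) ∈ μ) (hmax : ∀ x ∈ μ, x.2 ≤ j)
    {α : Type} [Fintype α] (L : Trip.{u} (RingHom.id F) (1 : F) → α)
    (hL : ∀ T S, Ok T μ → Ok S μ → L T = L S → IForm.Equiv' T.form S.form)
    (hs : ∀ T : Trip.{u} (RingHom.id F) (1 : F), Ok T μ → SymB μ)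
    (hc : Fintype.card α ≤ (st (uc μ) j).1)
    (hS : ∃ S : Finset α, S.card ≤ (st (uc μ) j).2 ∧ ∀ T, Ok T μ → AltTop j T.form → L T ∈ S) :
    Lab.{u} μ := by
  refine ⟨α, inferInstance, L, hL, hs, fun M hM => ?_⟩
  have hjM : j ≤ M := by
    by_contra h
    exact (Multiset.count_pos.2 hmem).ne' (hM j (by omega))
  obtain ⟨h1, h2, h3⟩ := st_lift hjM fun J hJ _ => Multiset.count_eq_zero.2
    (fun h => absurd (hmax (nu F, J) h) (Nat.not_le.2 hJ))
  refine ⟨h1 ▸ hc, ?_⟩
  by_cases hh : M = j ∨ (M = j + 1 ∧ Even j)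
  · obtain ⟨S, hS1, hS2⟩ := hS
    refine ⟨S, (h2 hh).symm ▸ hS1, fun T hT ha => hS2 T hT fun m hm a b => ?_⟩
    refine ha m hm (by omega) ?_
    rcases hh with rfl | ⟨rfl, he⟩
    · exact b
    · obtain ⟨c, rfl⟩ := hm
      obtain ⟨d, rfl⟩ := he
      omega
  · exact ⟨Finset.univ, by rw [Finset.card_univ]; exact hc.trans (h3 hh).ge, fun T _ _ => Finset.mem_univ _⟩

section Glue

variable {ι : Type} [Fintype ι] {D : PData (RingHom.id F) ι} [CharP F 2]

/-- Gluing when the piece has no fixed vector. -/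
theorem equiv_glue_op (hf : ¬ nu F ∣ D.f) {T S : Trip.{u} (RingHom.id F) (1 : F)} {v : ι → T.V} {w : ι → S.V}
    (h : D.Gens T.form v) (h' : D.Gens S.form w)
    (hu : ∃ u : ι → F[X], D.Gens S.form (fun i => S.form.op (u i) (w i)) ∧
      ∀ k i p, D.top T.form v k i p = D.top S.form (fun i => S.form.op (u i) (w i)) k i p)
    (hrest : IForm.Equiv' (restTrip h).form (restTrip h').form) : IForm.Equiv' T.form S.form := by
  obtain ⟨u, hu', htop⟩ := hu
  set R := PData.pieceForm h with hR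
  obtain ⟨a, b, hab⟩ := (nu_irreducible.coprime_iff_not_dvd.2 hf).pow_right (n := D.j)
  have hkill : ∀ x, R.op (D.f ^ D.j) x = 0 := by
    rintro ⟨_, c, rfl⟩
    apply Subtype.ext
    show ((T.form.restrict _ _ _).op (D.f ^ D.j) _ : T.V) = 0
    rw [IForm.restrict_op, PData.kill_span h.kill]
  have hinv : ∀ x, R.op (nu F) (R.op a x) = x := fun x => by
    rw [← R.op_mul_apply]
    conv_rhs => rw [← R.op_one_apply x, ← hab, R.op_add_apply, R.op_mul_apply b, hkill, map_zero, add_zero]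
    rw [mul_comm]
  have hZ' : ∀ x, R.op (nu F) x = R.A x + x := fun x => by
    rw [nu, CharTwo.sub_eq_add, R.op_add_apply, R.op_X_apply, R.op_C_apply, one_smul]
  let Z' : End F (PData.sub T.form v) := R.op a
  let Z : End F (PData.sub T.form v) := R.A.toLinearMap * R.op a
  have hsum : Z + Z' = 1 := LinearMap.ext fun x => by
    show R.A (R.op a x) + R.op a x = x
    rw [← hZ', hinv]
  have hsub : ∀ x, ∃ y, x = R.A y + y ∧ Z' x = y ∧ Z x = R.A y := fun x =>
    ⟨R.op a x, by rw [← hZ', hinv], rfl, rfl⟩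
  have hadj : ∀ x y, R.B (Z x) y = R.B x (Z' y) ∧ R.B (Z' x) y = R.B x (Z y) := by
    intro x y
    obtain ⟨x', rfl, hx1, hx2⟩ := hsub x
    obtain ⟨y', rfl, hy1, hy2⟩ := hsub y
    rw [hx1, hx2, hy1, hy2, R.add_left, R.add_right, R.add_left, R.add_right, R.iso]
    exact ⟨add_comm _ _, add_comm _ _⟩
  have hcomm : ∀ E : End F (PData.sub T.form v), Commute E R.A.toLinearMap → Commute E Z ∧ Commute E Z' := by
    intro E hE
    have key : ∀ p : F[X], Commute E (aeval R.A.toLinearMap p) := fun p => by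
      induction p using Polynomial.induction_on' with
      | add p q hp hq => rw [map_add]; exact hp.add_right hq
      | monomial k c =>
        rw [aeval_monomial]
        exact (Algebra.commute_algebraMap_right c _).mul_right (hE.pow_right k)
    have : Commute E (R.op a) := key a
    exact ⟨hE.mul_right this, this⟩
  have hA' : Commute Z' R.A.toLinearMap := ((hcomm _ (Commute.refl _)).2).symm
  have h2 := PData.piece_unique_op h hu' Z Z' hsum (fun x y => (hadj x y).1) (fun x y => (hadj x y).2)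
    ((hA'.symm).mul_left (Commute.refl _)) ((Commute.refl _).mul_left hA') hA' hcomm htop
  refine IForm.equiv_of_parts T.form (PData.sub_invariant v) (PData.sub_nd h)
    (PData.sub_invariant (T := S.form) (fun i => S.form.op (u i) (w i))) (PData.sub_nd hu') h2 ?_
  have key : ∀ (U U' : Submodule F S.V), U = U' → ∀ (a : ∀ x ∈ U, S.form.A x ∈ U)
      (b : ∀ y ∈ U, (∀ x ∈ U, S.form.B x y = 0) → y = 0) (a' : ∀ x ∈ U', S.form.A x ∈ U')
      (b' : ∀ y ∈ U', (∀ x ∈ U', S.form.B x y = 0) → y = 0),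
      IForm.Equiv' (S.form.restrict U a b) (S.form.restrict U' a' b') := by
    rintro U U' rfl a b a' b'
    exact equiv_refl _
  exact equiv_trans hrest (key (S.form.orth (PData.sub S.form w)) _
    (congrArg S.form.orth (sub_eq_of_gens h' hu').symm)
    (S.form.orth_invariant (PData.sub_invariant w)) (S.form.orth_nd (PData.sub_nd h'))
    (S.form.orth_invariant (PData.sub_invariant (T := S.form) (fun i => S.form.op (u i) (w i))))
    (S.form.orth_nd (PData.sub_nd hu')))

end Glue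

theorem ubound_sub {μ ν : Multiset (F[X] × ℕ)} {M : ℕ} (h : UBound μ M) : UBound (μ - ν) M := fun J hJ => by
  rw [uc_sub, h J hJ, Nat.zero_sub]

theorem ubound_top {μ : Multiset (F[X] × ℕ)} {j : ℕ} (hmax : ∀ x ∈ μ, x.2 ≤ j) : UBound μ j := fun _ hJ =>
  Multiset.count_eq_zero.2 fun h => absurd (hmax _ h) (Nat.not_le.2 hJ)

variable [Finite F] [CharP F 2]

theorem not_lin {r : F[X]} (hr : r ≠ nu F) : ¬ Lin (RingHom.id F) r := fun h => hr <| h.2.elim id fun e => by
  rw [e, nu, CharTwo.sub_eq_add]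

/-- A step at a non-unipotent block. -/
theorem lab_pass {μ : Multiset (F[X] × ℕ)} {ι : Type} [Fintype ι] (D : PData (RingHom.id F) ι)
    (hg : Good μ) (hmax : ∀ x ∈ μ, x.2 ≤ D.j) (hnu : ∀ J, uc (pieceBlocks D) J = 0) (hf : ¬ nu F ∣ D.f)
    (hgens : ∀ T : Trip.{u} (RingHom.id F) (1 : F), Ok T μ → ∃ v, D.Gens T.form v)
    (hmatch : ∀ (T S : Trip.{u} (RingHom.id F) (1 : F)) (v : ι → T.V) (w : ι → S.V), D.Gens T.form v →
      D.Gens S.form w → ∃ u : ι → F[X], D.Gens S.form (fun i => S.form.op (u i) (w i)) ∧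
        ∀ k i p, D.top T.form v k i p = D.top S.form (fun i => S.form.op (u i) (w i)) k i p)
    (hsym : ∀ x : F[X] × ℕ, x.1.Monic → x.1.coeff 0 ≠ 0 →
      (pieceBlocks D).count (srp (RingHom.id F) x.1, x.2) = (pieceBlocks D).count x)
    (hrec : Lab.{u} (μ - pieceBlocks D)) : Lab.{u} μ := by
  obtain ⟨α, _, L, hL, hsy, hcnt⟩ := hrec
  have huc : ∀ J, uc (μ - pieceBlocks D) J = uc μ J := fun J => by rw [uc_sub, hnu, Nat.sub_zero]
  refine ⟨α, inferInstance, fun T => if h : Ok T μ then L (restTrip (hgens T h).choose_spec) else L T,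
    fun T S hT hS hTS => ?_, fun T hT => ?_, fun M hM => ?_⟩
  · simp only [dif_pos hT, dif_pos hS] at hTS
    have hv := (hgens T hT).choose_spec
    have hw := (hgens S hS).choose_spec
    exact equiv_glue_op hf hv hw (hmatch T S _ _ hv hw)
      (hL _ _ (ok_rest hT hmax hv).2 (ok_rest hS hmax hw).2 hTS)
  · obtain ⟨hle, hR⟩ := ok_rest hT hmax (hgens T hT).choose_spec
    exact symB_step hg hle hsym (fun J _ => by rw [hnu]; exact Even.zero) (hsy _ hR)
  · obtain ⟨h1, S, h2, h3⟩ := hcnt M (ubound_sub hM)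
    rw [st_congr (a := uc (μ - pieceBlocks D)) (b := uc μ) fun J _ _ => huc J] at h1 h2
    refine ⟨h1, S, h2, fun T hT ha => ?_⟩
    simp only [dif_pos hT]
    exact h3 _ (ok_rest hT hmax _).2 (rest_altTop _ ha)

section Unipotent

variable {μ : Multiset (F[X] × ℕ)} {j : ℕ} (hg : Good μ) (hmem : (nu F, j) ∈ μ) (hmax : ∀ x ∈ μ, x.2 ≤ j)
  (hrec : ∀ ν : Multiset (F[X] × ℕ), Multiset.card ν < Multiset.card μ → Good ν → Lab.{u} ν)

omit [Finite F] [CharP F 2] in
theorem card_sub_lt {μ ν : Multiset (F[X] × ℕ)} {x : F[X] × ℕ} (hx : x ∈ μ) (hx' : x ∈ ν) :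
    Multiset.card (μ - ν) < Multiset.card μ := by
  refine Multiset.card_lt_card (lt_of_le_of_ne (Multiset.sub_le_self _ _) fun e => ?_)
  have := congrArg (Multiset.count x) e
  rw [Multiset.count_sub] at this
  have := Multiset.count_pos.2 hx
  have := Multiset.count_pos.2 hx'
  omega

omit [Finite F] [CharP F 2] in
theorem uc_two (μ : Multiset (F[X] × ℕ)) (j J : ℕ) :
    uc (μ - ({(nu F, j)} + {(nu F, j)})) J = uc μ J - if J = j then 2 else 0 := by
  rw [uc_sub, uc_add, uc_single]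
  split_ifs <;> rfl

omit [Finite F] [CharP F 2] in
theorem st_below (μ : Multiset (F[X] × ℕ)) (j : ℕ) (ν : Multiset (F[X] × ℕ))
    (hν : ∀ J, J ≠ j → uc ν J = 0) : st (uc (μ - ν)) (j - 1) = st (uc μ) (j - 1) :=
  st_congr fun J h1 h2 => by rw [uc_sub, hν J (by omega), Nat.sub_zero]

omit [CharP F 2] [Finite F] in
theorem two_mem (x : F[X] × ℕ) : ∀ y ∈ ({x} + {x} : Multiset (F[X] × ℕ)), y = x := by
  simp

include hg hmem hmax hrec

theorem lab_odd (ho : Odd j) : Lab.{u} μ := by
  have hj : 1 ≤ j := (hg _ hmem).2.2.2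
  obtain ⟨-, D, hD, hπ⟩ := exists_ushape (F := F) hj
  obtain ⟨δ, hδ⟩ := exists_as (F := F)
  have hxs : (nu F, j) ∈ ({(nu F, j)} + {(nu F, j)} : Multiset (F[X] × ℕ)) := by simp
  obtain ⟨α, _, L, hL, hsy, hcnt⟩ := hrec _ (card_sub_lt hmem hxs) (good_sub hg)
  set ν : Multiset (F[X] × ℕ) := μ - ({(nu F, j)} + {(nu F, j)}) with hν
  obtain ⟨h1, S, h2, h3⟩ := hcnt j (ubound_sub (ubound_top hmax))
  have hbelow : st (uc ν) (j - 1) = st (uc μ) (j - 1) := st_below μ j _ fun J hJ => by
    rw [uc_add, uc_single, if_neg hJ]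
  have hj' : uc ν j = uc μ j - 2 := by rw [hν, uc_two, if_pos rfl]
  rw [st_pred hj, hbelow, hj'] at h1 h2
  have hpos : uc μ j ≠ 0 := (Multiset.count_pos.2 hmem).ne'
  set p := st (uc μ) (j - 1) with hp
  set S' : Finset α := if j = 1 then ∅ else S with hS'
  have hbd : Fintype.card α + S'.card ≤ (st (uc μ) j).1 := by
    rw [st_pred hj, ← hp]
    simp only [stStep, if_neg hpos, if_pos ho] at h1 h2 ⊢
    by_cases hj1 : j = 1
    · simp only [hS', if_pos hj1, Finset.card_empty] at h1 ⊢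
      split_ifs at h1 <;> simp_all
    · simp only [hS', if_neg hj1] at h1 h2 ⊢
      split_ifs at h1 h2 with h0
      · exact Nat.add_le_add h1 h2
      · simp only at h1 h2 ⊢
        omega
  have hok : ∀ {T : Trip.{u} (RingHom.id F) (1 : F)} (hT : Ok T μ) {a b : F} {x y : T.V}
      (h : PairNF T.form j a b x y), Ok (restTrip (pairGens hD hπ h)) ν := fun {T} hT {a b x y} h =>
    by
      have := (ok_rest hT (by rwa [hD.hj]) (pairGens hD hπ h)).2
      rwa [blocks_pair hD] at this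
  have hinr : ∀ {T : Trip.{u} (RingHom.id F) (1 : F)} (hT : Ok T μ)
      (h0 : ¬ ∃ x y, PairNF T.form j 0 0 x y),
      ∃ x y, ∃ h : PairNF T.form j 1 δ x y, L (restTrip (pairGens hD hπ h)) ∈ S' := by
    intro T hT h0
    obtain ⟨x, y, h⟩ := (exists_pair_odd hg hT hmax hj ho hmem hδ).resolve_left h0
    refine ⟨x, y, h, ?_⟩
    have hj1 : j ≠ 1 := fun e => h0 ⟨x, y, h.killx, h.killy, h.gtop, h.glow, h.topx, h.topy,
      fun i _ hi => absurd hi (by omega), fun i _ hi => absurd hi (by omega)⟩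
    rw [hS', if_neg hj1]
    exact h3 _ (hok hT h) (rest_pair_altTop hT hmax hj ho h0 h _)
  let Lf : Trip.{u} (RingHom.id F) (1 : F) → α ⊕ {a // a ∈ S'} := fun T =>
    if hT : Ok T μ then
      if h0 : ∃ x y, PairNF T.form j 0 0 x y then
        Sum.inl (L (restTrip (pairGens hD hπ h0.choose_spec.choose_spec)))
      else Sum.inr ⟨_, (hinr hT h0).choose_spec.choose_spec.choose_spec⟩
    else Sum.inl (L T)
  refine lab_of_top hmem hmax Lf (fun T U hT hU hTU => ?_) (fun T hT => ?_) ?_ ?_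
  · simp only [Lf, dif_pos hT, dif_pos hU] at hTU
    have glue : ∀ {a b : F} {x y : T.V} {x' y' : U.V} (h : PairNF T.form j a b x y)
        (h' : PairNF U.form j a b x' y'),
        L (restTrip (pairGens hD hπ h)) = L (restTrip (pairGens hD hπ h')) → IForm.Equiv' T.form U.form :=
      fun {a b x y x' y'} h h' e => glue_of_pr (pairGens hD hπ h) (pairGens hD hπ h')
        (fun k i p => pairNF_pr hD.hXi hj hT.2 hU.2 h h' k i p) (hL _ _ (hok hT h) (hok hU h') e)
    split_ifs at hTU with ha hb hb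
    · exact glue ha.choose_spec.choose_spec hb.choose_spec.choose_spec (Sum.inl.inj hTU)
    · exact glue (hinr hT ha).choose_spec.choose_spec.choose (hinr hU hb).choose_spec.choose_spec.choose
        (congrArg Subtype.val (Sum.inr.inj hTU))
  · rcases exists_pair_odd hg hT hmax hj ho hmem hδ with ⟨x, y, h⟩ | ⟨x, y, h⟩
    all_goals
      refine symB_step hg (blocks_pair hD ▸ (ok_rest hT (by rwa [hD.hj]) (pairGens hD hπ h)).1)
        (nu_count_symm (two_mem _)) (fun J _ => ?_) (hsy _ (hok hT h))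
      rw [uc_add]
      exact ⟨_, rfl⟩
  · rw [Fintype.card_sum, Fintype.card_coe]
    exact hbd
  · by_cases hj1 : j = 1
    · refine ⟨Finset.univ, ?_, fun T _ _ => Finset.mem_univ _⟩
      rw [Finset.card_univ, Fintype.card_sum, Fintype.card_coe]
      refine hbd.trans (le_of_eq ?_)
      rw [st_pred hj, stStep, if_neg hpos, if_pos hj1, hj1]
      rfl
    · refine ⟨∅, Nat.zero_le _, fun T hT ha => ?_⟩
      rcases exists_pair_odd hg hT hmax hj ho hmem hδ with ⟨x, y, h⟩ | ⟨x, y, h⟩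
      · exact absurd ha (odd_pair_not_alt hT (by obtain ⟨c, rfl⟩ := ho; omega) ho (Or.inr ⟨rfl, rfl⟩) h)
      · exact absurd ha (odd_pair_not_alt hT (by obtain ⟨c, rfl⟩ := ho; omega) ho (Or.inl one_ne_zero) h)

theorem lab_even_many (he : Even j) (hc : 3 ≤ μ.count (nu F, j)) : Lab.{u} μ := by
  have hj : 1 ≤ j := (hg _ hmem).2.2.2
  obtain ⟨-, D, hD, hπ⟩ := exists_ushape (F := F) hj
  have hxs : (nu F, j) ∈ ({(nu F, j)} + {(nu F, j)} : Multiset (F[X] × ℕ)) := by simp
  obtain ⟨α, _, L, hL, hsy, hcnt⟩ := hrec _ (card_sub_lt hmem hxs) (good_sub hg)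
  set ν : Multiset (F[X] × ℕ) := μ - ({(nu F, j)} + {(nu F, j)}) with hν
  obtain ⟨h1, S, h2, h3⟩ := hcnt j (ubound_sub (ubound_top hmax))
  have hbelow : st (uc ν) (j - 1) = st (uc μ) (j - 1) := st_below μ j _ fun J hJ => by
    rw [uc_add, uc_single, if_neg hJ]
  have hj' : uc ν j = uc μ j - 2 := by rw [hν, uc_two, if_pos rfl]
  have hst : st (uc ν) j = st (uc μ) j := by
    have hc' : 3 ≤ uc μ j := hc
    have ho : Odd (uc μ j - 2) ↔ Odd (uc μ j) := by rw [Nat.odd_iff, Nat.odd_iff]; omega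
    rw [st_pred hj, st_pred hj, hbelow, hj', stStep, stStep, if_neg (show uc μ j - 2 ≠ 0 by omega),
      if_neg (show uc μ j ≠ 0 by omega)]
    simp only [ho]
  rw [hst] at h1 h2
  have hok : ∀ {T : Trip.{u} (RingHom.id F) (1 : F)} (hT : Ok T μ) {a b : F} {x y : T.V}
      (h : PairNF T.form j a b x y), Ok (restTrip (pairGens hD hπ h)) ν := fun {T} hT {a b x y} h =>
    by
      have := (ok_rest hT (by rwa [hD.hj]) (pairGens hD hπ h)).2
      rwa [blocks_pair hD] at this
  have hex : ∀ T : Trip.{u} (RingHom.id F) (1 : F), Ok T μ → ∃ x y, PairNF T.form j 0 0 x y :=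
    fun T hT => exists_pair00 hg hT hmax hj he hc
  refine lab_of_top hmem hmax
    (fun T => if hT : Ok T μ then L (restTrip (pairGens hD hπ (hex T hT).choose_spec.choose_spec)) else L T)
    (fun T U hT hU hTU => ?_) (fun T hT => ?_) h1 ⟨S, h2, fun T hT ha => ?_⟩
  · simp only [dif_pos hT, dif_pos hU] at hTU
    exact glue_of_pr (pairGens hD hπ (hex T hT).choose_spec.choose_spec)
      (pairGens hD hπ (hex U hU).choose_spec.choose_spec)
      (fun k i p => pairNF_pr hD.hXi hj hT.2 hU.2 (hex T hT).choose_spec.choose_spec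
        (hex U hU).choose_spec.choose_spec k i p)
      (hL _ _ (hok hT (hex T hT).choose_spec.choose_spec) (hok hU (hex U hU).choose_spec.choose_spec) hTU)
  · obtain ⟨x, y, h⟩ := hex T hT
    exact symB_step hg (blocks_pair hD ▸ (ok_rest hT (by rwa [hD.hj]) (pairGens hD hπ h)).1)
      (nu_count_symm (two_mem _)) (fun J _ => by rw [uc_add]; exact ⟨_, rfl⟩) (hsy _ (hok hT h))
  · rw [dif_pos hT]
    exact h3 _ (hok hT (hex T hT).choose_spec.choose_spec) (rest_altTop _ ha)

theorem lab_even_one (he : Even j) (hc : μ.count (nu F, j) = 1) : Lab.{u} μ := by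
  have hj : 1 ≤ j := (hg _ hmem).2.2.2
  obtain ⟨⟨D, hD⟩, -⟩ := exists_ushape (F := F) hj
  obtain ⟨δ, hδ⟩ := exists_as (F := F)
  obtain ⟨α, _, L, hL, hsy, hcnt⟩ := hrec _ (card_sub_lt hmem (Multiset.mem_singleton_self _)) (good_sub hg)
  set ν : Multiset (F[X] × ℕ) := μ - {(nu F, j)} with hν
  have hub : UBound ν (j - 1) := fun J hJ => by
    rw [hν, uc_sub, uc_single]
    by_cases h : J = j
    · rw [if_pos h, h, uc, hc]
    · rw [ubound_top hmax J (by omega), Nat.zero_sub]
  obtain ⟨h1, S, h2, h3⟩ := hcnt (j - 1) hub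
  rw [st_below μ j _ fun J hJ => by rw [uc_single, if_neg hJ]] at h1 h2
  set p := st (uc μ) (j - 1) with hp
  set S' : Finset α := if j = 2 then ∅ else S with hS'
  have hst : (st (uc μ) j).1 = p.1 + if j = 2 then 0 else p.2 := by
    rw [st_pred hj, ← hp, stStep, if_neg (show uc μ j ≠ 0 by rw [uc, hc]; omega),
      if_neg (show j ≠ 1 by obtain ⟨b, rfl⟩ := he; omega), if_neg (Nat.not_odd_iff_even.2 he),
      if_pos (show Odd (uc μ j) by rw [uc, hc]; exact odd_one)]
  have hok : ∀ {T : Trip.{u} (RingHom.id F) (1 : F)} (hT : Ok T μ) {d : F} {x : T.V}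
      (h : SingleNF T.form j d x),
      Ok (restTrip (singleGens hD h.kill (by rw [h.top]; exact one_ne_zero))) ν := fun {T} hT {d x} h => by
    have := (ok_rest hT (by rwa [hD.hj]) (singleGens hD h.kill (by rw [h.top]; exact one_ne_zero))).2
    rwa [blocks_single hD] at this
  have hform : ∀ T : Trip.{u} (RingHom.id F) (1 : F), Ok T μ →
      (∃ x, SingleNF T.form j 0 x) ∨ ∃ x, SingleNF T.form j δ x := fun T hT => by
    obtain ⟨v, hv, hne⟩ := single_of_count hg hT hmax hj he hc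
    exact single_form hD.hXi hj he hδ hv hne
  have hinr : ∀ {T : Trip.{u} (RingHom.id F) (1 : F)} (hT : Ok T μ)
      (h0 : ¬ ∃ x, SingleNF T.form j 0 x), ∃ x, ∃ h : SingleNF T.form j δ x,
        L (restTrip (singleGens hD h.kill (by rw [h.top]; exact one_ne_zero))) ∈ S' := by
    intro T hT h0
    obtain ⟨x, h⟩ := (hform T hT).resolve_left h0
    refine ⟨x, h, ?_⟩
    have hj2 : j ≠ 2 := fun e => h0 ⟨x, h.kill, h.top, fun i hi hij => by
      rw [h.odd i hi hij, if_neg (by omega), if_neg (by omega)]⟩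
    rw [hS', if_neg hj2]
    exact h3 _ (hok hT h) (rest_single_altTop hT hmax hj he h0 h _)
  let Lf : Trip.{u} (RingHom.id F) (1 : F) → α ⊕ {a // a ∈ S'} := fun T =>
    if hT : Ok T μ then
      if h0 : ∃ x, SingleNF T.form j 0 x then
        Sum.inl (L (restTrip (singleGens hD h0.choose_spec.kill (by rw [h0.choose_spec.top]; exact one_ne_zero))))
      else Sum.inr ⟨_, (hinr hT h0).choose_spec.choose_spec⟩
    else Sum.inl (L T)
  refine lab_of_top hmem hmax Lf (fun T U hT hU hTU => ?_) (fun T hT => ?_) ?_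
    ⟨∅, Nat.zero_le _, fun T hT ha => ?_⟩
  · simp only [Lf, dif_pos hT, dif_pos hU] at hTU
    have glue : ∀ {d : F} {x : T.V} {x' : U.V} (h : SingleNF T.form j d x) (h' : SingleNF U.form j d x'),
        L (restTrip (singleGens hD h.kill (by rw [h.top]; exact one_ne_zero))) =
          L (restTrip (singleGens hD h'.kill (by rw [h'.top]; exact one_ne_zero))) →
        IForm.Equiv' T.form U.form :=
      fun {d x x'} h h' e => glue_of_pr _ _
        (fun _ _ p => singleNF_pr hD.hXi hj hT.2 hU.2 h h' p) (hL _ _ (hok hT h) (hok hU h') e)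
    split_ifs at hTU with ha hb hb
    · exact glue ha.choose_spec hb.choose_spec (Sum.inl.inj hTU)
    · exact glue (hinr hT ha).choose_spec.choose (hinr hU hb).choose_spec.choose
        (congrArg Subtype.val (Sum.inr.inj hTU))
  · obtain ⟨v, hv, hne⟩ := single_of_count hg hT hmax hj he hc
    have hG := singleGens hD hv hne
    refine symB_step hg (blocks_single hD ▸ (ok_rest hT (by rwa [hD.hj]) hG).1)
      (nu_count_symm fun x hx => Multiset.mem_singleton.1 hx) (fun J hJ => ?_)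
      (hsy _ (blocks_single hD ▸ (ok_rest hT (by rwa [hD.hj]) hG).2))
    rw [uc_single, if_neg (by rintro rfl; exact Nat.not_even_iff_odd.2 hJ he)]
    exact Even.zero
  · rw [Fintype.card_sum, Fintype.card_coe, hst]
    refine Nat.add_le_add h1 ?_
    rw [hS']
    split_ifs
    · exact le_of_eq Finset.card_empty
    · exact h2
  · exfalso
    obtain ⟨v, hv, hne⟩ := single_of_count hg hT hmax hj he hc
    obtain ⟨b, rfl⟩ := he
    exact hne (altTop_apply hT hmax ha ⟨b - 1, by omega⟩ (by omega) (by omega) hv (by omega))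

theorem lab_even_two (he : Even j) (hc : μ.count (nu F, j) = 2) : Lab.{u} μ := by
  have hj : 1 ≤ j := (hg _ hmem).2.2.2
  obtain ⟨⟨D, hD⟩, D₂, hD₂, hπ⟩ := exists_ushape (F := F) hj
  obtain ⟨δ, hδ⟩ := exists_as (F := F)
  have hxs : (nu F, j) ∈ ({(nu F, j)} + {(nu F, j)} : Multiset (F[X] × ℕ)) := by simp
  obtain ⟨α, _, L, hL, hsy, hcnt⟩ := hrec _ (card_sub_lt hmem hxs) (good_sub hg)
  obtain ⟨β, _, L₁, hL₁, hsy₁, hcnt₁⟩ :=
    hrec _ (card_sub_lt hmem (Multiset.mem_singleton_self _)) (good_sub hg)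
  have hub : UBound (μ - ({(nu F, j)} + {(nu F, j)})) (j - 1) := fun J hJ => by
    rw [uc_two]
    by_cases h : J = j
    · rw [if_pos h, h, uc, hc]
    · rw [ubound_top hmax J (by omega), Nat.zero_sub]
  obtain ⟨h1, -⟩ := hcnt (j - 1) hub
  obtain ⟨g1, -⟩ := hcnt₁ j (ubound_sub (ubound_top hmax))
  rw [st_below μ j _ fun J hJ => by rw [uc_add, uc_single, if_neg hJ]] at h1
  rw [st_pred hj, st_below μ j _ fun J hJ => by rw [uc_single, if_neg hJ], uc_sub, uc_single, if_pos rfl,
    show uc μ j = 2 from hc] at g1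
  have hj1 : j ≠ 1 := by obtain ⟨b, rfl⟩ := he; omega
  simp only [stStep, if_neg (show (2 - 1 : ℕ) ≠ 0 by omega), if_neg hj1, if_neg (Nat.not_odd_iff_even.2 he),
    if_pos (show Odd (2 - 1) by decide)] at g1
  have hst : st (uc μ) j = ((st (uc μ) (j - 1)).1 +
      ((st (uc μ) (j - 1)).1 + if j = 2 then 0 else (st (uc μ) (j - 1)).2), (st (uc μ) (j - 1)).1) := by
    rw [st_pred hj, stStep, show uc μ j = 2 from hc, if_neg (show (2 : ℕ) ≠ 0 by omega), if_neg hj1,
      if_neg (Nat.not_odd_iff_even.2 he), if_neg (show ¬ Odd (2 : ℕ) by decide)]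
  have hok : ∀ {T : Trip.{u} (RingHom.id F) (1 : F)} (hT : Ok T μ) {a b : F} {x y : T.V}
      (h : PairNF T.form j a b x y),
      Ok (restTrip (pairGens hD₂ hπ h)) (μ - ({(nu F, j)} + {(nu F, j)})) := fun {T} hT {a b x y} h =>
    blocks_pair hD₂ ▸ (ok_rest hT (by rwa [hD₂.hj]) (pairGens hD₂ hπ h)).2
  have hok₁ : ∀ {T : Trip.{u} (RingHom.id F) (1 : F)} (hT : Ok T μ) {d : F} {x : T.V}
      (h : SingleNF T.form j d x),
      Ok (restTrip (singleGens hD h.kill (by rw [h.top]; exact one_ne_zero))) (μ - {(nu F, j)}) :=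
    fun {T} hT {d x} h => blocks_single hD ▸ (ok_rest hT (by rwa [hD.hj]) _).2
  let Lf : Trip.{u} (RingHom.id F) (1 : F) → α ⊕ β := fun T =>
    if hT : Ok T μ then
      if ha : AltTop j T.form then
        Sum.inl (L (restTrip (pairGens hD₂ hπ (pair_of_altTop hg hT hmax hj he hmem ha).choose_spec.choose_spec)))
      else Sum.inr (L₁ (restTrip (singleGens hD (exists_single0 hg hT hmax hj he hc ha hδ).choose_spec.kill
        (by rw [(exists_single0 hg hT hmax hj he hc ha hδ).choose_spec.top]; exact one_ne_zero))))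
    else Sum.inl (L T)
  refine lab_of_top hmem hmax Lf (fun T U hT hU hTU => ?_) (fun T hT => ?_) ?_
    ⟨Finset.univ.map Function.Embedding.inl, ?_, fun T hT ha => ?_⟩
  · simp only [Lf, dif_pos hT, dif_pos hU] at hTU
    split_ifs at hTU with ha hb hb
    · have h := (pair_of_altTop hg hT hmax hj he hmem ha).choose_spec.choose_spec
      have h' := (pair_of_altTop hg hU hmax hj he hmem hb).choose_spec.choose_spec
      exact glue_of_pr (pairGens hD₂ hπ h) (pairGens hD₂ hπ h')
        (fun k i p => pairNF_pr hD₂.hXi hj hT.2 hU.2 h h' k i p)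
        (hL _ _ (hok hT h) (hok hU h') (Sum.inl.inj hTU))
    · have h := (exists_single0 hg hT hmax hj he hc ha hδ).choose_spec
      have h' := (exists_single0 hg hU hmax hj he hc hb hδ).choose_spec
      exact glue_of_pr (singleGens hD h.kill (by rw [h.top]; exact one_ne_zero))
        (singleGens hD h'.kill (by rw [h'.top]; exact one_ne_zero))
        (fun _ _ p => singleNF_pr hD.hXi hj hT.2 hU.2 h h' p)
        (hL₁ _ _ (hok₁ hT h) (hok₁ hU h') (Sum.inr.inj hTU))
  · by_cases ha : AltTop j T.form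
    · obtain ⟨x, y, h⟩ := pair_of_altTop hg hT hmax hj he hmem ha
      exact symB_step hg (blocks_pair hD₂ ▸ (ok_rest hT (by rwa [hD₂.hj]) (pairGens hD₂ hπ h)).1)
        (nu_count_symm (two_mem _)) (fun J _ => by rw [uc_add]; exact ⟨_, rfl⟩) (hsy _ (hok hT h))
    · obtain ⟨x, h⟩ := exists_single0 hg hT hmax hj he hc ha hδ
      refine symB_step hg (Multiset.singleton_le.2 hmem) (nu_count_symm fun x hx => Multiset.mem_singleton.1 hx)
        (fun J hJ => ?_) (hsy₁ _ (hok₁ hT h))
      rw [uc_single, if_neg (by rintro rfl; exact Nat.not_even_iff_odd.2 hJ he)]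
      exact Even.zero
  · rw [Fintype.card_sum, hst]
    exact Nat.add_le_add h1 g1
  · rw [Finset.card_map, Finset.card_univ, hst]
    exact h1
  · simp only [Lf, dif_pos hT, dif_pos ha, Finset.mem_map, Finset.mem_univ, true_and]
    exact ⟨_, rfl⟩

end Unipotent

/-- Labels of alternating spaces with isometry in characteristic two. -/
theorem exists_label_two : ∀ μ : Multiset (F[X] × ℕ), Good μ → Lab.{u} μ := by
  intro μ
  induction hn : Multiset.card μ using Nat.strong_induction_on generalizing μ with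
  | _ n ih =>
  intro hg
  have hrec : ∀ ν : Multiset (F[X] × ℕ), Multiset.card ν < Multiset.card μ → Good ν → Lab.{u} ν :=
    fun ν hlt => ih _ (hn ▸ hlt) ν rfl
  rcases Multiset.empty_or_exists_mem μ with rfl | ⟨x₀, hx₀⟩
  · refine ⟨Unit, inferInstance, fun _ => (), fun T S hT hS _ => ?_, fun _ _ => symB_zero, fun M _ => ?_⟩
    · have h1 := subsingleton_of_typed_zero hT.1
      have h2 := subsingleton_of_typed_zero hS.1
      refine ⟨{ toFun := fun _ => 0
                map_add' := fun _ _ => (add_zero (0 : S.V)).symm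
                map_smul' := fun c _ => (smul_zero c).symm
                invFun := fun _ => 0
                left_inv := fun x => (h1 x).symm
                right_inv := fun x => (h2 x).symm }, fun x y => ?_, fun x => (h2 _).trans (h2 _).symm⟩
      rw [h1 x, T.form.zero_left]
      exact S.form.zero_left _
    · rw [st_zero fun J _ _ => by simp [uc]]
      exact ⟨by simp, Finset.univ, by simp, fun T _ _ => Finset.mem_univ _⟩
  obtain ⟨⟨r, j⟩, hmem, hmax⟩ := Multiset.exists_max_image (fun x : F[X] × ℕ => x.2) (s := μ)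
    (fun h => by rw [h] at hx₀; exact Multiset.notMem_zero _ hx₀)
  replace hmax : ∀ x ∈ μ, x.2 ≤ j := hmax
  by_cases hnu : (nu F, j) ∈ μ
  · rcases Nat.even_or_odd j with he | ho
    · rcases Nat.lt_or_ge (μ.count (nu F, j)) 3 with h | h
      · have := Multiset.count_pos.2 hnu
        rcases (show μ.count (nu F, j) = 1 ∨ μ.count (nu F, j) = 2 by omega) with h' | h'
        · exact lab_even_one hg hnu hmax hrec he h'
        · exact lab_even_two hg hnu hmax hrec he h'
      · exact lab_even_many hg hnu hmax hrec he h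
    · exact lab_odd hg hnu hmax hrec ho
  obtain ⟨hi, hm, h0, hj⟩ := hg _ hmem
  dsimp only at hi hm h0 hj
  have hr : r ≠ nu F := fun e => hnu (e ▸ hmem)
  have hl := not_lin hr
  have hr' : srp (RingHom.id F) r ≠ nu F := fun e => hr (by
    rw [← srp_srp (θ := RingHom.id F) (fun _ => rfl) hm h0, e, srp_nu])
  have hndvd : ∀ s : F[X], Irreducible s → s.Monic → s ≠ nu F → ¬ nu F ∣ s := fun s hs hsm hne h =>
    hne (eq_of_monic_of_associated hsm nu_monic (nu_irreducible.associated_of_dvd hs h).symm)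
  obtain ⟨hU, hB⟩ := exists_pdata (θ := RingHom.id F) (fun _ => rfl) hi hm h0 hj
  by_cases hs : srp (RingHom.id F) r = r
  · obtain ⟨D, hDj, hDr, hDf⟩ := hU hs
    have hpb : pieceBlocks D = {(r, j)} := by simp [pieceBlocks, hDr, hDj]
    refine lab_pass D hg (by rwa [hDj]) (fun J => ?_) (by rw [hDf]; exact hndvd r hi hm hr) (fun T hT => ?_)
      (fun T S v w h h' => match_unit_norm h h' (by rw [hDr]; exact hl)) (fun x hxm hx0 => ?_)
      (hrec _ (hpb ▸ card_sub_lt hmem (Multiset.mem_singleton_self _)) (good_sub hg))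
    · rw [hpb, uc, Multiset.count_singleton, if_neg]
      exact fun e => hr (Prod.mk.inj e).1.symm
    · obtain ⟨y, hy, hy'⟩ := exists_top_vector hg hT.1 hmem hmax
      subst hDr
      exact exists_gens_unit_op (bounded_of_typed hT.1 hmax) D (fun h => absurd h hl) hDj hDf
        (fun h => absurd h hl) hy hy'
    · rw [hpb, Multiset.count_singleton, Multiset.count_singleton]
      obtain ⟨p, J⟩ := x
      dsimp only at hxm hx0 ⊢
      refine if_congr ⟨fun e => ?_, fun e => ?_⟩ rfl rfl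
      · obtain ⟨e1, rfl⟩ := Prod.mk.inj e
        rw [← srp_srp (θ := RingHom.id F) (fun _ => rfl) hxm hx0, e1, hs]
      · obtain ⟨rfl, rfl⟩ := Prod.mk.inj e
        rw [hs]
  · obtain ⟨D, hDj, hπ, h1, h2, hf1, hf2⟩ := hB
    have hc : ¬ Cyclic (RingHom.id F) (1 : F) (r, j) := fun h => hs h.1
    have hcnt : ∀ x : F[X] × ℕ, (pieceBlocks D).count x =
        (if x = (r, j) then 1 else 0) + (if x = (srp (RingHom.id F) r, j) then 1 else 0) := by
      intro x
      rw [pieceBlocks, Fintype.univ_bool]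
      simp [h1, h2, hDj, Multiset.count_cons, Multiset.count_singleton]
    have hin : (r, j) ∈ pieceBlocks D := Multiset.count_pos.1 (by rw [hcnt, if_pos rfl]; omega)
    refine lab_pass D hg (by rwa [hDj]) (fun J => ?_) ?_
      (fun T hT => gens_pair hg hT.1 hmem hmax D hDj hπ h1 h2 hf1 hf2 hc)
      (fun T S v w h h' => match_bool hπ h h') (fun x hxm hx0 => ?_)
      (hrec _ (card_sub_lt hmem hin) (good_sub hg))
    · rw [uc, hcnt, if_neg, if_neg]
      · exact fun e => hr' (Prod.mk.inj e).1.symm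
      · exact fun e => hr (Prod.mk.inj e).1.symm
    · rw [hf2 hs]
      exact fun h => (nu_irreducible.prime.dvd_or_dvd h).elim (hndvd r hi hm hr)
        (hndvd _ (srp_irreducible (fun _ => rfl) hm hi h0) (srp_monic h0) hr')
    · obtain ⟨p, J⟩ := x
      dsimp only at hxm hx0 ⊢
      rw [hcnt, hcnt, add_comm]
      congr 1 <;> refine if_congr ⟨fun e => ?_, fun e => ?_⟩ rfl rfl
      · obtain ⟨e1, rfl⟩ := Prod.mk.inj e
        rw [← srp_srp (θ := RingHom.id F) (fun _ => rfl) hxm hx0, e1, srp_srp (fun _ => rfl) hm h0]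
      · obtain ⟨rfl, rfl⟩ := Prod.mk.inj e; rfl
      · obtain ⟨e1, rfl⟩ := Prod.mk.inj e
        rw [← srp_srp (θ := RingHom.id F) (fun _ => rfl) hxm hx0, e1]
      · obtain ⟨rfl, rfl⟩ := Prod.mk.inj e
        rw [srp_srp (fun _ => rfl) hm h0]

end Cfsg.Agent.Lib.ClassNumber
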