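import Cfsg.Agent.Lib.ClassNumber.TwoCount
import Cfsg.Agent.Lib.ClassNumber.SympMain

/-!
Class numbers of symplectic groups in characteristic two.
-/

set_option autoImplicit false

namespace Cfsg.Agent.Lib.ClassNumber

open Polynomial Module Matrix Cfsg.Agent.Lib.GLClasses UniqueFactorizationMonoid
open scoped Classical Matrix

universe u v

variable {F : Type v} [Field F] [Fintype F] [CharP F 2]

theorem admTwo_of_typed {n : ℕ} {g : Fin n → F[X]} (hg : IsCode g) (h : SymB (blocks g)) : AdmTwo g := by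
  intro j
  refine ⟨?_, fun ho => ?_⟩
  · have hmap : (normalizedFactors (g j)).map (srp (RingHom.id F)) = normalizedFactors (g j) := by
      refine map_eq_self_of_count (srp (RingHom.id F)) _ (fun r hr => ?_) (fun r hr => ?_)
      · have h := good_blocks hg (r, (j : ℕ) + 1) (mem_blocks_of_factor g j r hr)
        exact srp_srp (fun _ => rfl) h.2.1 h.2.2.1
      · rw [← count_blocks g (srp (RingHom.id F) r) j, ← count_blocks g r j]
        exact h.1 (r, (j : ℕ) + 1) (mem_blocks_of_factor g j r hr)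
    have h := srp_multiset_prod (θ := RingHom.id F) (normalizedFactors (g j))
    rwa [hmap, prod_factors (hg j).1] at h
  · have := h.2 _ ho
    rwa [uc_blocks] at this

/-- Isometry groups of alternating forms have at most as many classes as there are labelled codes. -/
theorem card_conjClasses_two {V : Type u} [AddCommGroup V] [Module F V] [FiniteDimensional F V] {n : ℕ}
    (hn : finrank F V = n) (T₀ : IForm (RingHom.id F) (1 : F) V) (ha : IsAlt T₀) {G : Type*} [Group G] [Finite G]
    (ρ : G → (V ≃ₗ[F] V)) (hρ : ∀ a b x, ρ (a * b) x = ρ a (ρ b x)) (hinj : Function.Injective ρ)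
    (hiso : ∀ a x y, T₀.B (ρ a x) (ρ a y) = T₀.B x y)
    (hsurj : ∀ A : V ≃ₗ[F] V, (∀ x y, T₀.B (A x) (A y) = T₀.B x y) → ∃ a, ρ a = A) :
    Nat.card (ConjClasses G) ≤ ∑ g ∈ (codes F n n).filter AdmTwo, (st (uc (blocks g)) n).1 := by
  let tr : G → Trip.{u} (RingHom.id F) (1 : F) := fun a =>
    { V := V, form := { T₀ with A := ρ a, iso := hiso a } }
  set Adm2 := (codes F n n).filter AdmTwo
  have hcode : ∀ a, ∃ g ∈ Adm2, Ok (tr a) (blocks g) := fun a => by
    obtain ⟨g, hg, hT⟩ := exists_typed hn (tr a).form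
    have hgood := good_blocks (mem_codes.1 hg).1
    obtain ⟨α, _, L, -, hsym, -⟩ := exists_label_two.{u} (blocks g) hgood
    exact ⟨g, Finset.mem_filter.2 ⟨hg, admTwo_of_typed (mem_codes.1 hg).1 (hsym _ ⟨hT, ha⟩)⟩, hT, ha⟩
  choose code hcode hT using hcode
  have hub : ∀ g : Fin n → F[X], UBound (blocks g) n := fun g J hJ => by
    rw [uc, Multiset.count_eq_zero, mem_blocks]
    rintro ⟨j, r, -, e⟩
    have := (Prod.mk.inj e).2
    omega
  have hlab : ∀ g : (Adm2 : Finset _), ∃ (α : Type) (_ : Fintype α),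
      Fintype.card α ≤ (st (uc (blocks g.1)) n).1 ∧
      ∃ L : Trip.{u} (RingHom.id F) (1 : F) → α, ∀ T S : Trip.{u} (RingHom.id F) (1 : F), Ok T (blocks g.1) →
        Ok S (blocks g.1) → L T = L S → IForm.Equiv' T.form S.form := fun g => by
    obtain ⟨α, i, L, hL, -, hc⟩ := exists_label_two.{u} (blocks g.1)
      (good_blocks (mem_codes.1 (Finset.mem_filter.1 g.2).1).1)
    exact ⟨α, i, (hc n (hub g.1)).1, L, hL⟩
  choose α hα hcard L hL using hlab
  let Φ : ConjClasses G → Σ g : (Adm2 : Finset _), α g := fun c =>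
    ⟨⟨code c.out, hcode c.out⟩, L ⟨code c.out, hcode c.out⟩ (tr c.out)⟩
  have hΦ : Function.Injective Φ := by
    intro c d h
    have hsig : ∀ (s t : Σ g : (Adm2 : Finset _), α g), s = t →
        ∀ T S : Trip.{u} (RingHom.id F) (1 : F), Ok T (blocks s.1.1) → Ok S (blocks t.1.1) →
        s.2 = L s.1 T → t.2 = L t.1 S → IForm.Equiv' T.form S.form := by
      rintro s t rfl T S h1 h2 h3 h4
      exact hL s.1 T S h1 h2 (h3.symm.trans h4)
    obtain ⟨e, he, heA⟩ := hsig _ _ h (tr c.out) (tr d.out) (hT _) (hT _) rfl rfl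
    obtain ⟨z, hz⟩ := hsurj e he
    rw [← Quotient.out_eq c, ← Quotient.out_eq d]
    refine ConjClasses.mk_eq_mk_iff_isConj.2 (isConj_iff.2 ⟨z, ?_⟩)
    rw [mul_inv_eq_iff_eq_mul]
    refine hinj (LinearEquiv.ext fun x => ?_)
    rw [hρ, hρ, hz]
    exact heA x
  refine (Nat.card_le_card_of_injective _ hΦ).trans ?_
  letI : ∀ g, Fintype (α g) := hα
  rw [Nat.card_eq_fintype_card, Fintype.card_sigma]
  exact (Finset.sum_le_sum fun g _ => hcard g).trans_eq
    (Finset.sum_coe_sort _ (fun g => (st (uc (blocks g)) n).1))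

/-- The symplectic form in characteristic two. -/
noncomputable def sympTwo (n : ℕ) (F : Type v) [Field F] [CharP F 2] :
    IForm (RingHom.id F) (1 : F) (Fin n ⊕ Fin n → F) where
  B := (sympIForm n F).B
  A := LinearEquiv.refl F _
  add_left := (sympIForm n F).add_left
  smul_left := (sympIForm n F).smul_left
  symm x y := ((sympIForm n F).symm x y).trans (congrArg (fun c => c * _) (CharTwo.neg_eq (1 : F)))
  nd := (sympIForm n F).nd
  iso x y := rfl
  inv a := rfl

theorem symp_upper_two (n : ℕ) :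
    5 * Nat.card (ConjClasses (Matrix.symplecticGroup (Fin n) F)) ≤ 76 * Fintype.card F ^ n := by
  let ρ : Matrix.symplecticGroup (Fin n) F → ((Fin n ⊕ Fin n → F) ≃ₗ[F] (Fin n ⊕ Fin n → F)) := fun a =>
    LinearEquiv.ofLinear (Matrix.toLin' (a : Matrix (Fin n ⊕ Fin n) (Fin n ⊕ Fin n) F))
      (Matrix.toLin' ((a⁻¹ : Matrix.symplecticGroup (Fin n) F) : Matrix (Fin n ⊕ Fin n) (Fin n ⊕ Fin n) F))
      (by rw [← Matrix.toLin'_mul, ← Submonoid.coe_mul, mul_inv_cancel, Submonoid.coe_one, Matrix.toLin'_one])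
      (by rw [← Matrix.toLin'_mul, ← Submonoid.coe_mul, inv_mul_cancel, Submonoid.coe_one, Matrix.toLin'_one])
  have hρ : ∀ a x, ρ a x = (a : Matrix (Fin n ⊕ Fin n) (Fin n ⊕ Fin n) F) *ᵥ x := fun a x => rfl
  have h := card_conjClasses_two (n := 2 * n)
    (by rw [Module.finrank_fintype_fun_eq_card, Fintype.card_sum, Fintype.card_fin]; omega)
    (sympTwo n F) (fun x => Cfsg.Agent.Lib.Similarity.sympMap_alt (m := n) (F := F) x) ρ
    (fun a b x => by rw [hρ, hρ, hρ, Submonoid.coe_mul, Matrix.mulVec_mulVec])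
    (fun a b hab => Subtype.ext (Matrix.toLin'.injective
      (LinearMap.ext fun x => LinearEquiv.congr_fun hab x)))
    (fun a x y => (Cfsg.Agent.Lib.Similarity.mem_symplecticGroup_iff _).1 a.2 x y)
    (fun A hA => ⟨⟨LinearMap.toMatrix' A.toLinearMap,
      (Cfsg.Agent.Lib.Similarity.mem_symplecticGroup_iff _).2 fun x y => by
        rw [LinearMap.toMatrix'_mulVec, LinearMap.toMatrix'_mulVec]; exact hA x y⟩,
      LinearEquiv.ext fun x => by rw [hρ, LinearMap.toMatrix'_mulVec]; rfl⟩)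
  exact (Nat.mul_le_mul_left 5 h).trans (sum_admTwo_le n)

end Cfsg.Agent.Lib.ClassNumber
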