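import Cfsg.Agent.Lib.ClassNumber.TwoLabel

/-!
The generating function of the unipotent labels at one half.
-/

set_option autoImplicit false

namespace Cfsg.Agent.Lib.ClassNumber

/-- Bounds for the weighted sums of all labels and of those with vanishing diagonal. -/
def gq : ℕ → ℚ × ℚ
  | 0 => (1, 1)
  | J + 1 =>
    if J = 0 then (2 * (gq J).1, 2 * (gq J).2)
    else if Odd (J + 1) then
      ((gq J).1 + ((gq J).1 + (gq J).2) * ((1 / 2) ^ (J + 1) / (1 - (1 / 2) ^ (J + 1))), (gq J).2)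
    else
      ((gq J).1 * (1 + ((1 / 2) ^ ((J + 1) / 2)) ^ 2 / (1 - ((1 / 2) ^ ((J + 1) / 2)) ^ 2)) +
          ((gq J).1 + (if J + 1 = 2 then 0 else (gq J).2)) *
            ((1 / 2) ^ ((J + 1) / 2) / (1 - (1 / 2) ^ ((J + 1) / 2))),
        (gq J).1 * (1 + ((1 / 2) ^ ((J + 1) / 2)) ^ 2 / (1 - ((1 / 2) ^ ((J + 1) / 2)) ^ 2)))

theorem half_pow_pos (k : ℕ) : 0 < (1 / 2 : ℚ) ^ k := by positivity

theorem half_pow_lt {k : ℕ} (hk : 0 < k) : (1 / 2 : ℚ) ^ k < 1 := pow_lt_one₀ (by norm_num) (by norm_num) hk.ne'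

theorem gq_invariant : ∀ J, 0 ≤ (gq J).2 ∧ (gq J).2 ≤ (gq J).1 := by
  intro J
  induction J with
  | zero => simp [gq]
  | succ J ih =>
    obtain ⟨h0, h1⟩ := ih
    rw [gq]
    split_ifs with a b c
    · exact ⟨by dsimp only; linarith, by dsimp only; linarith⟩
    · have hy := half_pow_lt (k := J + 1) (by omega)
      have : 0 ≤ (1 / 2 : ℚ) ^ (J + 1) / (1 - (1 / 2) ^ (J + 1)) :=
        div_nonneg (half_pow_pos _).le (by linarith)
      refine ⟨h0, ?_⟩
      dsimp only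
      nlinarith
    all_goals
      have hk : 0 < (J + 1) / 2 := by omega
      have hz := half_pow_lt hk
      have hz0 := half_pow_pos ((J + 1) / 2)
      have he : 0 ≤ ((1 / 2 : ℚ) ^ ((J + 1) / 2)) ^ 2 / (1 - ((1 / 2) ^ ((J + 1) / 2)) ^ 2) :=
        div_nonneg (by positivity) (by nlinarith)
      have : 0 ≤ (1 / 2 : ℚ) ^ ((J + 1) / 2) / (1 - (1 / 2) ^ ((J + 1) / 2)) := div_nonneg hz0.le (by linarith)
      constructor <;> dsimp only <;> nlinarith

theorem gq_mono (J : ℕ) : (gq J).1 ≤ (gq (J + 1)).1 := by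
  obtain ⟨h0, h1⟩ := gq_invariant J
  conv_rhs => rw [gq]
  split_ifs with a b c
  · dsimp only; linarith
  · have hy := half_pow_lt (k := J + 1) (by omega)
    have : 0 ≤ (1 / 2 : ℚ) ^ (J + 1) / (1 - (1 / 2) ^ (J + 1)) := div_nonneg (half_pow_pos _).le (by linarith)
    dsimp only
    nlinarith
  all_goals
    have hk : 0 < (J + 1) / 2 := by omega
    have hz := half_pow_lt hk
    have hz0 := half_pow_pos ((J + 1) / 2)
    have he : 0 ≤ ((1 / 2 : ℚ) ^ ((J + 1) / 2)) ^ 2 / (1 - ((1 / 2) ^ ((J + 1) / 2)) ^ 2) :=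
      div_nonneg (by positivity) (by nlinarith)
    have : 0 ≤ (1 / 2 : ℚ) ^ ((J + 1) / 2) / (1 - (1 / 2) ^ ((J + 1) / 2)) := div_nonneg hz0.le (by linarith)
    dsimp only
    nlinarith

theorem gq_tail (i : ℕ) : (gq (28 + 2 * i)).1 * (1 - 8 / 32768 * (1 - (1 / 2) ^ i)) ≤ (gq 28).1 := by
  induction i with
  | zero => simp
  | succ i ih =>
    set u : ℚ := (1 / 2) ^ (15 + i) with hu
    have hu' : u = 1 / 32768 * (1 / 2) ^ i := by rw [hu, pow_add]; norm_num
    have hu0 : 0 < u := half_pow_pos _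
    have hu1 : u ≤ 1 / 32768 := by
      rw [hu']; exact mul_le_of_le_one_right (by norm_num) (pow_le_one₀ (by norm_num) (by norm_num))
    obtain ⟨a0, a1⟩ := gq_invariant (28 + 2 * i)
    obtain ⟨b0, b1⟩ := gq_invariant (28 + 2 * i + 1)
    have s1 : (gq (28 + 2 * i + 1)).1 ≤ (gq (28 + 2 * i)).1 * (1 + u / 100) := by
      rw [gq, if_neg (by omega), if_pos ⟨14 + i, by omega⟩]
      dsimp only
      set y : ℚ := (1 / 2) ^ (28 + 2 * i + 1)
      have hy : y = u * ((1 / 2) ^ (14 + i)) := by rw [hu, ← pow_add]; simp only [y]; congr 1; omega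
      have hs : (1 / 2 : ℚ) ^ (14 + i) ≤ 1 / 1000 :=
        (pow_le_pow_of_le_one (by norm_num) (by norm_num) (show 10 ≤ 14 + i by omega)).trans (by norm_num)
      have hy0 : 0 ≤ y := (half_pow_pos _).le
      have hy1 : y ≤ u / 1000 := by rw [hy]; nlinarith
      have hd : y / (1 - y) ≤ u / 500 := by rw [div_le_iff₀ (by linarith)]; nlinarith
      have hd0 : 0 ≤ y / (1 - y) := div_nonneg hy0 (by linarith)
      nlinarith
    have s2 : (gq (28 + 2 * i + 1 + 1)).1 ≤ (gq (28 + 2 * i + 1)).1 * (1 + 3 * u) := by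
      rw [gq, if_neg (by omega), if_neg (Nat.not_odd_iff_even.2 ⟨15 + i, by omega⟩), if_neg (by omega),
        show (28 + 2 * i + 1 + 1) / 2 = 15 + i by omega, ← hu]
      dsimp only
      have he : u ^ 2 / (1 - u ^ 2) ≤ u / 4 := by rw [div_le_iff₀ (by nlinarith)]; nlinarith
      have hz : u / (1 - u) ≤ 5 / 4 * u := by rw [div_le_iff₀ (by linarith)]; nlinarith
      have : 0 ≤ u / (1 - u) := div_nonneg hu0.le (by linarith)
      nlinarith
    have hT : 0 ≤ (gq (28 + 2 * i)).1 := a0.trans a1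
    have s3 : (gq (28 + 2 * (i + 1))).1 ≤ (gq (28 + 2 * i)).1 * (1 + 4 * u) := by
      rw [show 28 + 2 * (i + 1) = 28 + 2 * i + 1 + 1 by omega]
      refine s2.trans ?_
      calc (gq (28 + 2 * i + 1)).1 * (1 + 3 * u)
          ≤ (gq (28 + 2 * i)).1 * (1 + u / 100) * (1 + 3 * u) :=
            mul_le_mul_of_nonneg_right s1 (by linarith)
        _ ≤ _ := by nlinarith [mul_nonneg hT hu0.le, mul_nonneg (mul_nonneg hT hu0.le) hu0.le]
    set s : ℚ := 8 / 32768 * (1 - (1 / 2) ^ i) with hs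
    have hs' : 8 / 32768 * (1 - (1 / 2 : ℚ) ^ (i + 1)) = s + 4 * u := by rw [hs, hu', pow_succ]; ring
    have hs0 : 0 ≤ s := by
      have : (1 / 2 : ℚ) ^ i ≤ 1 := pow_le_one₀ (by norm_num) (by norm_num)
      rw [hs]; nlinarith
    have hs1 : s + 4 * u ≤ 1 := by
      rw [← hs']
      nlinarith [half_pow_pos (i + 1)]
    rw [hs']
    refine le_trans (mul_le_mul_of_nonneg_right s3 (by linarith)) (le_trans ?_ ih)
    nlinarith [mul_nonneg (mul_nonneg hT hu0.le) hs0, mul_nonneg (mul_nonneg hT hu0.le) hu0.le]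

theorem gq_le (M : ℕ) : 5 * (gq M).1 ≤ 76 := by
  have h : (gq M).1 ≤ (gq (28 + 2 * M)).1 := monotone_nat_of_le_succ (f := fun J => (gq J).1) gq_mono (by omega)
  have h28 : 5 * (gq 28).1 ≤ 76 * (1 - 8 / 32768) := by
    norm_num [gq, Nat.odd_iff]
  have h2 := gq_tail M
  have h3 : 0 ≤ (gq (28 + 2 * M)).1 := (gq_invariant _).1.trans (gq_invariant _).2
  have h4 := half_pow_pos M
  nlinarith

end Cfsg.Agent.Lib.ClassNumber
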