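import Cfsg.Agent.Lib.ClassNumber.TwoBase

/-!
Existence, absorption and uniqueness of normalised unipotent pieces in characteristic two.
-/

set_option autoImplicit false

namespace Cfsg.Agent.Lib.ClassNumber

open Polynomial Module

universe u v

variable {F : Type v} [Field F]

/-- The shape of a unipotent piece. -/
structure UShape {ι : Type} (D : PData (RingHom.id F) ι) (j : ℕ) : Prop where
  hj : D.j = j
  hf : D.f = nu F
  hr : ∀ i, D.r i = nu F

theorem exists_ushape {j : ℕ} (hj : 1 ≤ j) :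
    (∃ D : PData (RingHom.id F) Unit, UShape D j) ∧
      ∃ D : PData (RingHom.id F) Bool, UShape D j ∧ D.π = not := by
  have hs : srp (RingHom.id F) (nu F) = nu F := Lin.srp_eq ⟨fun a => rfl, Or.inl rfl⟩
  obtain ⟨hU, D, hDj, hπ, h1, h2, hf, -⟩ := exists_pdata (θ := RingHom.id F) (fun _ => rfl) (r := nu F)
    (irreducible_X_sub_C 1) (monic_X_sub_C 1) (by simp [nu]) hj
  obtain ⟨E, hEj, hEr, hEf⟩ := hU hs
  exact ⟨⟨E, hEj, hEf, fun _ => hEr⟩, D, ⟨hDj, hf hs, fun i => by cases i <;> simp [h1, h2, hs]⟩, hπ⟩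

theorem UShape.hXi {ι : Type} {D : PData (RingHom.id F) ι} {j : ℕ} (hD : UShape D j) :
    nu F ^ j ∣ X * D.Xi - 1 := by
  rw [← hD.hj, ← hD.hf]; exact D.hXi

theorem UShape.pos {ι : Type} {D : PData (RingHom.id F) ι} {j : ℕ} (hD : UShape D j) : 1 ≤ j := hD.hj ▸ D.hj

/-- Equal values on powers give equal functionals. -/
theorem kills_ext {j : ℕ} {φ ψ : F[X] →ₗ[F] F} (hφ : Kills j φ) (hψ : Kills j ψ)
    (h : ∀ i, i < j → φ (nu F ^ i) = ψ (nu F ^ i)) : φ = ψ := by
  have key : ∀ d i, j ≤ i + d → ∀ q, φ (nu F ^ i * q) = ψ (nu F ^ i * q) := by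
    intro d
    induction d with
    | zero => intro i hi q; rw [kills_ge hφ (show j ≤ i by omega), kills_ge hψ (show j ≤ i by omega)]
    | succ d ih =>
      intro i hi q
      by_cases hij : j ≤ i
      · rw [kills_ge hφ hij, kills_ge hψ hij]
      obtain ⟨r, hr⟩ : nu F ∣ q - C (q.eval 1) := X_sub_C_dvd_sub_C_eval
      have e : nu F ^ i * q = q.eval 1 • nu F ^ i + nu F ^ (i + 1) * r := by
        rw [smul_eq_C_mul, pow_succ, mul_assoc, ← hr]; ring
      rw [e, map_add, map_add, map_smul, map_smul, ih (i + 1) (by omega) r, h i (by omega)]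
  refine LinearMap.ext fun q => ?_
  have := key j 0 (by omega) q
  rwa [pow_zero, one_mul] at this

theorem exists_sq [Finite F] [CharP F 2] (a : F) : ∃ t : F, t * t = a := by
  obtain ⟨t, ht⟩ := FiniteField.isSquare_of_char_two (ringChar.eq F 2) a
  exact ⟨t, ht.symm⟩

/-- A representative of the Artin–Schreier cokernel. -/
theorem exists_as [Finite F] [CharP F 2] :
    ∃ δ : F, ∀ a, ∃ x : F, x + x * x = a ∨ x + x * x = a + δ := by
  haveI := Fintype.ofFinite F
  let f : F →+ F :=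
    { toFun := fun x => x + x * x
      map_zero' := by simp
      map_add' := fun x y => by linear_combination CharTwo.add_self_eq_zero (x * y) }
  have hker : Nat.card f.ker = 2 := by
    rw [Nat.card_eq_two_iff]
    refine ⟨⟨0, f.map_zero⟩, ⟨1, ?_⟩, fun h => zero_ne_one (congrArg Subtype.val h), ?_⟩
    · show (1 : F) + 1 * 1 = 0
      rw [mul_one, CharTwo.add_self_eq_zero]
    · ext ⟨x, hx⟩
      simp only [Set.mem_insert_iff, Set.mem_singleton_iff, Set.mem_univ, iff_true, Subtype.mk.injEq]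
      have h : x * (1 + x) = 0 := by
        have : x + x * x = 0 := hx
        linear_combination this
      rcases mul_eq_zero.1 h with h | h
      · exact Or.inl (Subtype.ext h)
      · exact Or.inr (show x = 1 by linear_combination h - CharTwo.add_self_eq_zero (1 : F))
  have hidx : f.range.index = 2 := by
    have h1 := f.range.card_mul_index
    have h3 := f.ker.card_mul_index
    rw [AddSubgroup.index_ker] at h3
    rw [hker] at h3
    have hpos : 0 < Nat.card f.range := Nat.card_pos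
    refine Nat.eq_of_mul_eq_mul_left hpos ?_
    rw [h1, ← h3, mul_comm]
  obtain ⟨δ, hδ⟩ : ∃ δ, δ ∉ f.range := by
    by_contra h
    push Not at h
    rw [(AddSubgroup.eq_top_iff' f.range).2 h, AddSubgroup.index_top] at hidx
    exact absurd hidx (by norm_num)
  refine ⟨δ, fun a => ?_⟩
  by_cases h : a ∈ f.range
  · obtain ⟨x, hx⟩ := h; exact ⟨x, Or.inl hx⟩
  · obtain ⟨x, hx⟩ : a + δ ∈ f.range :=
      (AddSubgroup.add_mem_iff_of_index_two hidx).2 (iff_of_false h hδ)
    exact ⟨x, Or.inr hx⟩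

section Space

variable {V : Type u} [AddCommGroup V] [Module F V] {T : IForm (RingHom.id F) (1 : F) V}
  {j : ℕ} {Xi : F[X]} [CharP F 2] (hXi : nu F ^ j ∣ X * Xi - 1) (hj : 1 ≤ j)

omit [CharP F 2] in
theorem pr_smul (a b : F) (x y : V) (p : F[X]) : pr T (a • x) (b • y) p = a * b * pr T x y p := by
  rw [pr_apply, map_smul, T.smul_left, T.smul_right, RingHom.id_apply, mul_assoc]
  rfl

include hXi hj

theorem top_add {x y : V} (hx : T.op (nu F ^ j) x = 0) (hy : T.op (nu F ^ j) y = 0) (t : F) :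
    pr T (x + t • y) (x + t • y) (nu F ^ (j - 1)) =
      pr T x x (nu F ^ (j - 1)) + t * t * pr T y y (nu F ^ (j - 1)) := by
  have h := pr_shift hXi hx hy t (j - 1) 0
  simp only [pow_zero, T.op_one_apply, mul_zero, add_zero, mul_one] at h
  rw [kills_top (pr_kills hx y) (show j ≤ j - 1 + 1 by omega), eval_pow, Xi_eval hXi hj, one_pow, one_mul,
    CharTwo.add_self_eq_zero, mul_zero, add_zero] at h
  exact h

theorem second_add {x y : V} (hx : T.op (nu F ^ j) x = 0) (hy : T.op (nu F ^ j) y = 0) (t : F) {i : ℕ}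
    (hi : Odd i) (hij : i + 2 = j) :
    pr T (x + t • y) (x + t • y) (nu F ^ i) =
      pr T x x (nu F ^ i) + t * pr T x y (nu F ^ (j - 1)) + t * t * pr T y y (nu F ^ i) := by
  have h := pr_shift_step hXi hx hy t (i := i) (m := 0) (by omega) hi
  simpa only [pow_zero, T.op_one_apply, mul_zero, add_zero, mul_one] using h

theorem orth_add {x y : V} (hx : T.op (nu F ^ j) x = 0) (hy : T.op (nu F ^ j) y = 0)
    (ho : ∀ p, pr T x y p = 0) (t : F) (i : ℕ) :
    pr T (x + t • y) (x + t • y) (nu F ^ i) = pr T x x (nu F ^ i) + t * t * pr T y y (nu F ^ i) := by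
  have h := pr_shift hXi hx hy t i 0
  simpa [T.op_one_apply, ho] using h

omit hj in
theorem odd_top_zero (ha : IsAlt T) (hjo : Odd j) {x : V} (hx : T.op (nu F ^ j) x = 0) :
    pr T x x (nu F ^ (j - 1)) = 0 := by
  obtain ⟨h, rfl⟩ := hjo
  have := pr_isotropic hXi ha hx h
  rw [kills_top (pr_kills hx x) (show 2 * h + 1 ≤ 2 * h + 1 from le_rfl), eval_pow,
    Xi_eval hXi (by omega), one_pow, one_mul] at this
  rwa [show 2 * h + 1 - 1 = 2 * h by omega]

/-- Normal forms of pairs at an even exponent. -/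
theorem pair_even (he : Even j) {x y : V} (hx : T.op (nu F ^ j) x = 0) (hy : T.op (nu F ^ j) y = 0)
    (hg : pr T x y (nu F ^ (j - 1)) ≠ 0) (htx : pr T x x (nu F ^ (j - 1)) = 0)
    (hty : pr T y y (nu F ^ (j - 1)) = 0) : ∃ x' y', PairNF T j 0 0 x' y' := by
  set c := pr T x y (nu F ^ (j - 1))
  have hno : ∀ i, Odd i → i + 2 = j → False := fun i ho h => by
    obtain ⟨a, rfl⟩ := ho
    obtain ⟨b, rfl⟩ := he
    omega
  refine pair_normal hXi hj (x := x) (y := c⁻¹ • y) hx (by rw [map_smul, hy, smul_zero]) ?_ htx ?_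
    (fun i ho h => (hno i ho h).elim) (fun i ho h => (hno i ho h).elim)
  · rw [← one_smul F x, pr_smul, one_mul, inv_mul_cancel₀ hg]
  · rw [pr_smul, hty, mul_zero]

/-- Normal forms of pairs at an odd exponent. -/
theorem pair_odd [Finite F] (ha : IsAlt T) (hjo : Odd j) {δ : F}
    (hδ : ∀ a, ∃ x : F, x + x * x = a ∨ x + x * x = a + δ) {x y : V} (hx : T.op (nu F ^ j) x = 0)
    (hy : T.op (nu F ^ j) y = 0) (hg : pr T x y (nu F ^ (j - 1)) ≠ 0) :
    (∃ x' y', PairNF T j 0 0 x' y') ∨ ∃ x' y', PairNF T j 1 δ x' y' := by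
  set c := pr T x y (nu F ^ (j - 1)) with hc
  replace hy : T.op (nu F ^ j) (c⁻¹ • y) = 0 := by rw [map_smul, hy, smul_zero]
  have hg1 : pr T x (c⁻¹ • y) (nu F ^ (j - 1)) = 1 := by
    rw [← one_smul F x, pr_smul, one_mul, ← hc, inv_mul_cancel₀ hg]
  generalize c⁻¹ • y = y₁ at hy hg1
  by_cases hj2 : j = 1
  · refine Or.inl (pair_normal hXi hj hx hy hg1 (odd_top_zero hXi ha hjo hx) (odd_top_zero hXi ha hjo hy)
      (fun i _ h => absurd h (by omega)) (fun i _ h => absurd h (by omega)))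
  obtain ⟨e, he, hej⟩ : ∃ e, Odd e ∧ e + 2 = j :=
    ⟨j - 2, by obtain ⟨a, rfl⟩ := hjo; exact ⟨a - 1, by omega⟩, by omega⟩
  have hnf : ∀ {x y : V} {a b : F}, T.op (nu F ^ j) x = 0 → T.op (nu F ^ j) y = 0 →
      pr T x y (nu F ^ (j - 1)) = 1 → pr T x x (nu F ^ e) = a → pr T y y (nu F ^ e) = b →
      ∃ x' y', PairNF T j a b x' y' := fun hx hy hg hA hB =>
    pair_normal hXi hj hx hy hg (odd_top_zero hXi ha hjo hx) (odd_top_zero hXi ha hjo hy)
      (fun i _ h => by rw [show i = e by omega]; exact hA) (fun i _ h => by rw [show i = e by omega]; exact hB)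
  have hgz : ∀ {x y : V}, T.op (nu F ^ j) x = 0 → T.op (nu F ^ j) y = 0 → ∀ t : F,
      pr T x (y + t • x) (nu F ^ (j - 1)) = pr T x y (nu F ^ (j - 1)) := fun {x y} hx hy t => by
    rw [pr_apply, T.add_right, T.smul_right, ← pr_apply x y, ← pr_apply x x, odd_top_zero hXi ha hjo hx, mul_zero,
      add_zero]
  have hgsym : ∀ {x y : V}, T.op (nu F ^ j) x = 0 → pr T y x (nu F ^ (j - 1)) = pr T x y (nu F ^ (j - 1)) :=
    fun {x y} hx => pr_swap_top hXi hx hj y (by omega)
  have hkill : ∀ {x y : V}, T.op (nu F ^ j) x = 0 → T.op (nu F ^ j) y = 0 → ∀ t : F,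
      T.op (nu F ^ j) (y + t • x) = 0 := fun hx hy t => by rw [map_add, map_smul, hx, hy, smul_zero, add_zero]
  by_cases hQx : pr T x x (nu F ^ e) = 0
  · refine Or.inl (hnf hx (hkill hx hy (pr T y₁ y₁ (nu F ^ e))) (by rw [hgz hx hy, hg1]) hQx ?_)
    rw [second_add hXi hj hy hx _ he hej, hgsym hx, hg1, hQx, mul_one, mul_zero, add_zero,
      CharTwo.add_self_eq_zero]
  obtain ⟨t, ht⟩ := exists_sq (pr T x x (nu F ^ e))⁻¹
  have ht0 : t ≠ 0 := fun h => by
    rw [h, mul_zero] at ht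
    exact hQx (inv_eq_zero.1 ht.symm)
  set x₁ := t • x with hx₁def
  set y₂ := t⁻¹ • y₁ with hy₂def
  have hx₁ : T.op (nu F ^ j) x₁ = 0 := by rw [hx₁def, map_smul, hx, smul_zero]
  have hy₂ : T.op (nu F ^ j) y₂ = 0 := by rw [hy₂def, map_smul, hy, smul_zero]
  have hQ1 : pr T x₁ x₁ (nu F ^ e) = 1 := by rw [hx₁def, pr_smul, ht, inv_mul_cancel₀ hQx]
  have hg2 : pr T x₁ y₂ (nu F ^ (j - 1)) = 1 := by
    rw [hx₁def, hy₂def, pr_smul, mul_inv_cancel₀ ht0, one_mul, hg1]
  obtain ⟨s, hs⟩ := hδ (pr T y₂ y₂ (nu F ^ e))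
  have hval : pr T (y₂ + s • x₁) (y₂ + s • x₁) (nu F ^ e) = pr T y₂ y₂ (nu F ^ e) + (s + s * s) := by
    rw [second_add hXi hj hy₂ hx₁ s he hej, hgsym hx₁, hg2, hQ1, mul_one, mul_one, add_assoc]
  have hky := hkill hx₁ hy₂ s
  have hg3 : pr T x₁ (y₂ + s • x₁) (nu F ^ (j - 1)) = 1 := by rw [hgz hx₁ hy₂, hg2]
  rcases hs with hs | hs
  · -- the pair is hyperbolic
    rw [hs, CharTwo.add_self_eq_zero] at hval
    set y₃ := y₂ + s • x₁
    refine Or.inl (hnf hky (hkill hky hx₁ 1) (by rw [hgz hky hx₁, hgsym hx₁, hg3]) hval ?_)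
    rw [second_add hXi hj hx₁ hky 1 he hej, hQ1, hg3, hval, one_mul, mul_zero, add_zero,
      CharTwo.add_self_eq_zero]
  · refine Or.inr (hnf hx₁ hky hg3 hQ1 ?_)
    rw [hval, hs, ← add_assoc, CharTwo.add_self_eq_zero, zero_add]

/-- Normal forms of single vectors. -/
theorem single_form [Finite F] (he : Even j) {δ : F} (hδ : ∀ a, ∃ x : F, x + x * x = a ∨ x + x * x = a + δ)
    {x : V} (hx : T.op (nu F ^ j) x = 0) (ht : pr T x x (nu F ^ (j - 1)) ≠ 0) :
    (∃ x', SingleNF T j 0 x') ∨ ∃ x', SingleNF T j δ x' := by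
  obtain ⟨t, ht'⟩ := exists_sq (pr T x x (nu F ^ (j - 1)))⁻¹
  set x₁ := t • x with hx₁def
  have hx₁ : T.op (nu F ^ j) x₁ = 0 := by rw [hx₁def, map_smul, hx, smul_zero]
  have ht₁ : pr T x₁ x₁ (nu F ^ (j - 1)) = 1 := by rw [hx₁def, pr_smul, ht', inv_mul_cancel₀ ht]
  by_cases hj2 : j = 2
  · exact Or.inl (single_normal hXi hj hx₁ ht₁ he fun i _ h => absurd h (by omega))
  obtain ⟨e, heo, hej⟩ : ∃ e, Odd e ∧ e + 3 = j := by
    obtain ⟨b, rfl⟩ := he
    exact ⟨b + b - 3, ⟨b - 2, by omega⟩, by omega⟩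
  obtain ⟨l, hl⟩ := hδ (pr T x₁ x₁ (nu F ^ e))
  set x₂ := x₁ + l • T.op (nu F ^ 1) x₁ with hx₂def
  have hval : pr T x₂ x₂ (nu F ^ e) = pr T x₁ x₁ (nu F ^ e) + (l + l * l) := by
    rw [hx₂def, pr_shift_step hXi hx₁ hx₁ l (show e + 1 + 2 = j by omega) heo, ht₁,
      kills_top (pr_kills hx₁ x₁) (show j ≤ e + 2 * 1 + 1 by omega), show e + 2 * 1 = j - 1 by omega, ht₁,
      eval_pow, Xi_eval hXi hj, one_pow, mul_one, mul_one, mul_one, add_assoc]
  have htop : pr T x₂ x₂ (nu F ^ (j - 1)) = 1 := by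
    rw [hx₂def, pr_shift_high hXi hx₁ hx₁ hj l (by omega) (by omega), ht₁]
  rcases hl with h | h
  · refine Or.inl (single_normal hXi hj (kill_shift hx₁ hx₁ l 1) htop he fun i _ hi => ?_)
    rw [show i = e by omega, hval, h, CharTwo.add_self_eq_zero]
  · refine Or.inr (single_normal hXi hj (kill_shift hx₁ hx₁ l 1) htop he fun i _ hi => ?_)
    rw [show i = e by omega, hval, h, ← add_assoc, CharTwo.add_self_eq_zero, zero_add]

/-- A bit is absorbed by an orthogonal vector of lower level. -/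
theorem single_absorb [Finite F] (he : Even j) {d : F} {x w : V} (h : SingleNF T j d x)
    (hw : T.op (nu F ^ j) w = 0) (ho : ∀ p, pr T x w p = 0) (hwt : pr T w w (nu F ^ (j - 1)) = 0)
    {e : ℕ} (heo : Odd e) (hej : e + 3 = j) (hwe : pr T w w (nu F ^ e) ≠ 0) : ∃ x', SingleNF T j 0 x' := by
  obtain ⟨t, ht⟩ := exists_sq (d * (pr T w w (nu F ^ e))⁻¹)
  refine single_normal hXi hj (x := x + t • w) (by rw [map_add, map_smul, h.kill, hw, smul_zero, add_zero])
    (by rw [orth_add hXi hj h.kill hw ho, h.top, hwt, mul_zero, add_zero]) he fun i hio hi => ?_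
  rw [show i = e by omega, orth_add hXi hj h.kill hw ho, h.odd e heo (by omega), if_pos hej, ht, mul_assoc,
    inv_mul_cancel₀ hwe, mul_one, CharTwo.add_self_eq_zero]

/-- An elliptic pair is absorbed by an orthogonal vector of lower level. -/
theorem pair_absorb [Finite F] (ha : IsAlt T) (hjo : Odd j) {a b : F} {x y w : V} (h : PairNF T j a b x y)
    (hw : T.op (nu F ^ j) w = 0) (ho : ∀ p, pr T x w p = 0) (ho' : ∀ p, pr T y w p = 0)
    {e : ℕ} (heo : Odd e) (hej : e + 2 = j) (hwe : pr T w w (nu F ^ e) ≠ 0) :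
    ∃ x' y', PairNF T j 0 0 x' y' := by
  obtain ⟨t, ht⟩ := exists_sq (a * (pr T w w (nu F ^ e))⁻¹)
  set x₁ := x + t • w with hx₁def
  have hx₁ : T.op (nu F ^ j) x₁ = 0 := by rw [hx₁def, map_add, map_smul, h.killx, hw, smul_zero, add_zero]
  have hQ : pr T x₁ x₁ (nu F ^ e) = 0 := by
    rw [hx₁def, orth_add hXi hj h.killx hw ho, h.oddx e heo (by omega), if_pos hej, ht, mul_assoc,
      inv_mul_cancel₀ hwe, mul_one, CharTwo.add_self_eq_zero]
  have hg : pr T x₁ y (nu F ^ (j - 1)) = 1 := by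
    rw [hx₁def, pr_apply, map_add, map_smul, T.add_left, T.smul_left, ← pr_apply, ← pr_apply, h.gtop,
      pr_swap_top hXi h.killy hj w (by omega), ho', mul_zero, add_zero]
  have hk : T.op (nu F ^ j) (y + pr T y y (nu F ^ e) • x₁) = 0 := by
    rw [map_add, map_smul, h.killy, hx₁, smul_zero, add_zero]
  refine pair_normal hXi hj hx₁ hk ?_ (odd_top_zero hXi ha hjo hx₁) (odd_top_zero hXi ha hjo hk)
    (fun i _ hi => by rw [show i = e by omega]; exact hQ) (fun i _ hi => ?_)
  · rw [pr_apply, T.add_right, T.smul_right, ← pr_apply, ← pr_apply, hg, odd_top_zero hXi ha hjo hx₁, mul_zero,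
      add_zero]
  · rw [show i = e by omega, second_add hXi hj h.killy hx₁ _ heo hej, pr_swap_top hXi hx₁ hj y (by omega), hg,
      hQ, mul_one, mul_zero, add_zero, CharTwo.add_self_eq_zero]

end Space

section Gens

variable [CharP F 2] {V : Type u} [AddCommGroup V] [Module F V] {T : IForm (RingHom.id F) (1 : F) V} {j : ℕ}
  {ι : Type} [Fintype ι] {D : PData (RingHom.id F) ι} (hD : UShape D j)
include hD

omit [Fintype ι] in
theorem top_eq_pr {v : ι → V} {k : ι} (hk : T.op (nu F ^ j) (v k) = 0) (i : ι) (p : F[X]) :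
    D.top T v k i p = p.eval 1 * pr T (v k) (v i) (nu F ^ (j - 1)) := by
  have hXi := hD.hXi
  rw [PData.top_apply, pr_mul_right hXi hk, show D.g = nu F ^ (j - 1) by rw [PData.g, hD.hf, hD.hj],
    kills_congr (pr_kills hk (v i)) (b := nu F ^ (j - 1) * (p * D.Xi ^ (j - 1))) (by
      have := (bar_nu hXi (j - 1)).mul_left p
      convert this using 1
      ring),
    kills_top (pr_kills hk (v i)) (by omega), eval_mul, eval_pow, Xi_eval hXi hD.pos, one_pow, mul_one]

theorem gens_of_top {v : ι → V} (hk : ∀ i, T.op (nu F ^ j) (v i) = 0)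
    (hz : ∀ k i, k ≠ D.π i → pr T (v k) (v i) (nu F ^ (j - 1)) = 0)
    (hne : ∀ i, pr T (v (D.π i)) (v i) (nu F ^ (j - 1)) ≠ 0) : D.Gens T v :=
  ⟨fun i => by rw [hD.hj, hD.hr]; exact hk i,
    fun k i hki p => by rw [top_eq_pr hD (hk k), hz k i hki, mul_zero],
    fun i => ⟨1, by rw [top_eq_pr hD (hk _), eval_one, one_mul]; exact hne i⟩⟩

end Gens

section Unique

variable {ι : Type} [Fintype ι] {D : PData (RingHom.id F) ι} {V W : Type u} [AddCommGroup V] [Module F V]
  [FiniteDimensional F V] [AddCommGroup W] [Module F W] [FiniteDimensional F W]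
  {T : IForm (RingHom.id F) (1 : F) V} {S : IForm (RingHom.id F) (1 : F) W} {v : ι → V} {w : ι → W}

/-- Pieces with the same values of the form are isometric. -/
theorem piece_equiv_of_pr (h : D.Gens T v) (h' : D.Gens S w)
    (hpr : ∀ k i p, pr T (v k) (v i) p = pr S (w k) (w i) p) :
    IForm.Equiv' (PData.pieceForm h) (PData.pieceForm h') := by
  classical
  let e : PData.sub T v ≃ₗ[F] PData.sub S w := (PData.modelEquiv h).symm.trans (PData.modelEquiv h')
  have he : ∀ a, (e ⟨PData.span T v a, a, rfl⟩ : W) = PData.span S w a := by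
    intro a
    have h1 : (PData.modelEquiv h).symm ⟨PData.span T v a, a, rfl⟩ = PData.modelMap D a := by
      rw [LinearEquiv.symm_apply_eq]; exact Subtype.ext (PData.modelEquiv_apply h a).symm
    show ((PData.modelEquiv h') ((PData.modelEquiv h).symm _) : W) = _
    rw [h1, PData.modelEquiv_apply]
  refine ⟨e, ?_, ?_⟩
  · rintro ⟨_, a, rfl⟩ ⟨_, b, rfl⟩
    show S.B (e _ : W) (e _ : W) = T.B (PData.span T v a) (PData.span T v b)
    rw [he, he, PData.span_apply, PData.span_apply, PData.span_apply, PData.span_apply, T.sum_left, S.sum_left]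
    refine Finset.sum_congr rfl fun k _ => ?_
    rw [T.sum_right, S.sum_right]
    refine Finset.sum_congr rfl fun i _ => ?_
    rw [T.adj_bar' D.hXi _ (by rw [T.op_comm_apply, PData.kill_f h.kill, map_zero]),
      S.adj_bar' D.hXi _ (by rw [S.op_comm_apply, PData.kill_f h'.kill, map_zero]),
      ← T.op_mul_apply, ← S.op_mul_apply]
    exact (hpr k i _).symm
  · rintro ⟨_, a, rfl⟩
    have h1 : (PData.pieceForm h).A ⟨PData.span T v a, a, rfl⟩ =
        ⟨PData.span T v (fun i => X * a i), _, rfl⟩ := by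
      apply Subtype.ext
      show T.A (PData.span T v a) = PData.span T v _
      rw [← PData.op_span, T.op_X_apply]
    apply Subtype.ext
    rw [h1, he]
    show PData.span S w _ = S.A (e _ : W)
    rw [he, ← PData.op_span, S.op_X_apply]

/-- Gluing pieces with the same values of the form. -/
theorem glue_of_pr {D : PData (RingHom.id F) ι} {T S : Trip.{u} (RingHom.id F) (1 : F)} {v : ι → T.V}
    {w : ι → S.V} (h : D.Gens T.form v) (h' : D.Gens S.form w)
    (hpr : ∀ k i p, pr T.form (v k) (v i) p = pr S.form (w k) (w i) p)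
    (hrest : IForm.Equiv' (restTrip h).form (restTrip h').form) : IForm.Equiv' T.form S.form :=
  IForm.equiv_of_parts T.form (PData.sub_invariant v) (PData.sub_nd h)
    (PData.sub_invariant (T := S.form) w) (PData.sub_nd h') (piece_equiv_of_pr h h' hpr) hrest

end Unique

section Forms

variable [CharP F 2] {j : ℕ} {Xi : F[X]} (hXi : nu F ^ j ∣ X * Xi - 1) (hj : 1 ≤ j)
  {V W : Type u} [AddCommGroup V] [Module F V] [AddCommGroup W] [Module F W]
  {T : IForm (RingHom.id F) (1 : F) V} {S : IForm (RingHom.id F) (1 : F) W}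
include hXi hj

theorem diag_eq (hT : IsAlt T) (hS : IsAlt S) {x : V} {x' : W} (hx : T.op (nu F ^ j) x = 0)
    (hx' : S.op (nu F ^ j) x' = 0) (htop : pr T x x (nu F ^ (j - 1)) = pr S x' x' (nu F ^ (j - 1)))
    (h : ∀ i, Odd i → i + 1 < j → pr T x x (nu F ^ i) = pr S x' x' (nu F ^ i)) :
    pr T x x = pr S x' x' :=
  diag_ext hXi hj (pr_kills hx x) (pr_kills hx' x') (pr_isotropic hXi hT hx) (pr_isotropic hXi hS hx')
    fun i ho => by
      rcases Nat.lt_or_ge (i + 1) j with hi | hi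
      · exact h i ho hi
      · rcases Nat.lt_or_ge i j with hi' | hi'
        · rwa [show i = j - 1 by omega]
        · rw [← mul_one (nu F ^ i), kills_ge (pr_kills hx x) hi', kills_ge (pr_kills hx' x') hi']

theorem pairNF_pr (hT : IsAlt T) (hS : IsAlt S) {a b : F} {x y : V} {x' y' : W} (h : PairNF T j a b x y)
    (h' : PairNF S j a b x' y') (k i : Bool) (p : F[X]) :
    pr T (cond k y x) (cond i y x) p = pr S (cond k y' x') (cond i y' x') p := by
  have hg : pr T x y = pr S x' y' := kills_ext (pr_kills h.killx y) (pr_kills h'.killx y') fun i hi => by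
    rcases Nat.lt_or_ge (i + 1) j with hi' | hi'
    · rw [h.glow i hi', h'.glow i hi']
    · rw [show i = j - 1 by omega, h.gtop, h'.gtop]
  cases k <;> cases i <;> simp only [cond]
  · rw [diag_eq hXi hj hT hS h.killx h'.killx (by rw [h.topx, h'.topx])
      fun i ho hi => by rw [h.oddx i ho hi, h'.oddx i ho hi]]
  · rw [hg]
  · rw [pr_symm hXi h.killx, pr_symm hXi h'.killx, hg]
  · rw [diag_eq hXi hj hT hS h.killy h'.killy (by rw [h.topy, h'.topy])
      fun i ho hi => by rw [h.oddy i ho hi, h'.oddy i ho hi]]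

theorem singleNF_pr (hT : IsAlt T) (hS : IsAlt S) {d : F} {x : V} {x' : W} (h : SingleNF T j d x)
    (h' : SingleNF S j d x') (p : F[X]) : pr T x x p = pr S x' x' p := by
  rw [diag_eq hXi hj hT hS h.kill h'.kill (by rw [h.top, h'.top])
    fun i ho hi => by rw [h.odd i ho hi, h'.odd i ho hi]]

end Forms

end Cfsg.Agent.Lib.ClassNumber
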