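import Cfsg.Agent.Lib.ClassNumber.TwoPieces

/-!
Existence of normalised unipotent pieces at the top level in characteristic two.
-/

set_option autoImplicit false

namespace Cfsg.Agent.Lib.ClassNumber

open Polynomial Module
open scoped Classical

universe u v

variable {F : Type v} [Field F]

theorem nu_irreducible : Irreducible (nu F) := irreducible_X_sub_C 1

theorem nu_monic : (nu F).Monic := monic_X_sub_C 1

theorem nu_coeff_zero : (nu F).coeff 0 ≠ 0 := by simp [nu]

theorem srp_nu : srp (RingHom.id F) (nu F) = nu F := Lin.srp_eq ⟨fun a => rfl, Or.inl rfl⟩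

theorem exists_nu_inv (j : ℕ) : ∃ Xi : F[X], nu F ^ j ∣ X * Xi - 1 := by
  obtain ⟨a, b, hab⟩ := ((irreducible_X (R := F)).coprime_iff_not_dvd.2
    (fun h => nu_coeff_zero (X_dvd_iff.1 h))).pow_right (n := j)
  exact ⟨a, -b, by linear_combination hab⟩

/-- A typed space with alternating form. -/
def Ok (T : Trip.{u} (RingHom.id F) (1 : F)) (μ : Multiset (F[X] × ℕ)) : Prop :=
  Typed T.form μ ∧ IsAlt T.form

/-- The vanishing of the diagonal at the odd exponent below `M`. -/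
def AltTop {V : Type u} [AddCommGroup V] [Module F V] (M : ℕ) (T : IForm (RingHom.id F) (1 : F) V) : Prop :=
  ∀ m, Odd m → m < M → M ≤ m + 2 → ∀ w, T.op (nu F ^ (m + 2)) w = 0 → pr T w w (nu F ^ m) = 0

/-- The vectors of a pair. -/
def pv {V : Type u} (x y : V) (i : Bool) : V := cond i y x

section Rest

variable {T : Trip.{u} (RingHom.id F) (1 : F)} {ι : Type} [Fintype ι] {D : PData (RingHom.id F) ι}
  {v : ι → T.V} (h : D.Gens T.form v)

/-- A vector of the complement as a vector of the space. -/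
def rval (w : (restTrip h).V) : T.V :=
  Subtype.val (p := fun z => z ∈ T.form.orth (PData.sub T.form v)) w

theorem rest_isAlt (ha : IsAlt T.form) : IsAlt (restTrip h).form := fun x => ha (rval h x)

theorem rest_op (p : F[X]) (w : (restTrip h).V) :
    rval h ((restTrip h).form.op p w) = T.form.op p (rval h w) :=
  T.form.restrict_op (T.form.orth_invariant (PData.sub_invariant v)) (T.form.orth_nd (PData.sub_nd h)) p w

theorem rest_pr (x y : (restTrip h).V) (p : F[X]) :
    pr (restTrip h).form x y p = pr T.form (rval h x) (rval h y) p := by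
  show T.form.B (rval h ((restTrip h).form.op p x)) (rval h y) = _
  rw [rest_op]
  rfl

theorem rest_kill {p : F[X]} {w : (restTrip h).V} (hw : (restTrip h).form.op p w = 0) :
    T.form.op p (rval h w) = 0 := by
  rw [← rest_op h, hw]
  rfl

theorem rest_orth (w : (restTrip h).V) (i : ι) (p : F[X]) : pr T.form (v i) (rval h w) p = 0 := by
  refine T.form.eq_zero_comm ((show rval h w ∈ T.form.orth (PData.sub T.form v) from Subtype.property (p := fun z => z ∈ T.form.orth (PData.sub T.form v)) w) _ ?_)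
  exact ⟨Pi.single i p, PData.span_single i p⟩

theorem rest_altTop {M : ℕ} (hT : AltTop M T.form) : AltTop M (restTrip h).form := fun m h1 h2 h3 w hw => by
  rw [rest_pr]
  exact hT m h1 h2 h3 _ (rest_kill h hw)

end Rest

theorem ok_rest {T : Trip.{u} (RingHom.id F) (1 : F)} {μ : Multiset (F[X] × ℕ)} (hT : Ok T μ) {ι : Type}
    [Fintype ι] {D : PData (RingHom.id F) ι} (hmax : ∀ x ∈ μ, x.2 ≤ D.j) {v : ι → T.V}
    (h : D.Gens T.form v) : pieceBlocks D ≤ μ ∧ Ok (restTrip h) (μ - pieceBlocks D) :=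
  ⟨(split hT.1 hmax h).1, (split hT.1 hmax h).2, rest_isAlt h hT.2⟩

theorem blocks_single {D : PData (RingHom.id F) Unit} {j : ℕ} (hD : UShape D j) :
    pieceBlocks D = {(nu F, j)} := by
  simp [pieceBlocks, hD.hr, hD.hj]

theorem blocks_pair {D : PData (RingHom.id F) Bool} {j : ℕ} (hD : UShape D j) :
    pieceBlocks D = {(nu F, j)} + {(nu F, j)} := by
  rw [pieceBlocks, Fintype.univ_bool]
  simp [hD.hr, hD.hj]

section Steps

variable [CharP F 2] {j : ℕ}

theorem pairGens {V : Type u} [AddCommGroup V] [Module F V] {T : IForm (RingHom.id F) (1 : F) V}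
    {D : PData (RingHom.id F) Bool} (hD : UShape D j) (hπ : D.π = not) {a b : F} {x y : V}
    (h : PairNF T j a b x y) : D.Gens T (pv x y) := by
  refine gens_of_top hD (fun i => by cases i <;> [exact h.killx; exact h.killy]) (fun k i hki => ?_) (fun i => ?_)
  · rw [hπ] at hki
    revert hki
    cases k <;> cases i <;> simp [pv, h.topx, h.topy]
  · rw [hπ]
    cases i
    · show pr T y x (nu F ^ (j - 1)) ≠ 0
      rw [pr_swap_top hD.hXi h.killx hD.pos y (by omega), h.gtop]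
      exact one_ne_zero
    · show pr T x y (nu F ^ (j - 1)) ≠ 0
      rw [h.gtop]
      exact one_ne_zero

theorem singleGens {V : Type u} [AddCommGroup V] [Module F V] {T : IForm (RingHom.id F) (1 : F) V}
    {D : PData (RingHom.id F) Unit} (hD : UShape D j) {x : V} (hx : T.op (nu F ^ j) x = 0)
    (ht : pr T x x (nu F ^ (j - 1)) ≠ 0) : D.Gens T (fun _ => x) :=
  gens_of_top hD (fun _ => hx) (fun _ _ h => absurd rfl h) (fun _ => ht)

variable {T : Trip.{u} (RingHom.id F) (1 : F)} {μ : Multiset (F[X] × ℕ)} (hg : Good μ) (hT : Ok T μ)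
  (hmax : ∀ x ∈ μ, x.2 ≤ j)

include hT hmax

theorem count_pair {D : PData (RingHom.id F) Bool} (hD : UShape D j) (hπ : D.π = not) {a b : F} {x y : T.V}
    (h : PairNF T.form j a b x y) : 2 ≤ μ.count (nu F, j) := by
  have h1 := Multiset.count_le_of_le (nu F, j) (ok_rest hT (by rwa [hD.hj]) (pairGens hD hπ h)).1
  rwa [blocks_pair hD, Multiset.count_add, Multiset.count_singleton_self] at h1

include hg

theorem top_pairing (hmem : (nu F, j) ∈ μ) :
    ∃ x y, T.form.op (nu F ^ j) x = 0 ∧ T.form.op (nu F ^ j) y = 0 ∧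
      pr T.form x y (nu F ^ (j - 1)) ≠ 0 := by
  obtain ⟨x, hx, hx'⟩ := exists_top_vector hg hT.1 hmem hmax
  obtain ⟨y, hy, hxy⟩ := exists_pairing (bounded_of_typed hT.1 hmax) nu_irreducible nu_monic nu_coeff_zero
    (y := T.form.op (nu F ^ (j - 1)) x) (by rw [srp_nu, T.form.op_comm_apply, hx, map_zero]) hx'
  exact ⟨x, y, hx, hy, by rwa [pr_comm_B] at hxy⟩

theorem dichotomy (hj : 1 ≤ j) (he : Even j) (hmem : (nu F, j) ∈ μ) :
    (∃ x y, PairNF T.form j 0 0 x y) ∨
      ∃ x, T.form.op (nu F ^ j) x = 0 ∧ pr T.form x x (nu F ^ (j - 1)) ≠ 0 := by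
  obtain ⟨x, y, hx, hy, hxy⟩ := top_pairing hg hT hmax hmem
  obtain ⟨Xi, hXi⟩ := exists_nu_inv (F := F) j
  by_cases h1 : pr T.form x x (nu F ^ (j - 1)) = 0
  · by_cases h2 : pr T.form y y (nu F ^ (j - 1)) = 0
    · exact Or.inl (pair_even hXi hj he hx hy hxy h1 h2)
    · exact Or.inr ⟨y, hy, h2⟩
  · exact Or.inr ⟨x, hx, h1⟩

omit hg in
/-- A vector on which the top diagonal is not zero. -/
theorem not_altTop (he : Even j) (hna : ¬ AltTop j T.form) :
    ∃ x, T.form.op (nu F ^ j) x = 0 ∧ pr T.form x x (nu F ^ (j - 1)) ≠ 0 := by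
  simp only [AltTop, not_forall] at hna
  obtain ⟨m, hm, h1, h2, w, hw, hne⟩ := hna
  have hm' : m = j - 1 := by
    obtain ⟨a, rfl⟩ := hm
    obtain ⟨b, rfl⟩ := he
    omega
  refine ⟨w, ?_, by rwa [← hm']⟩
  exact bounded_of_typed hT.1 hmax (nu F) nu_irreducible nu_monic w
    (T.form.op_eq_zero_of_dvd (by rw [← pow_add]; exact pow_dvd_pow _ (by omega)) hw)

omit hg in
theorem altTop_apply {M m : ℕ} (h : AltTop M T.form) (hm : Odd m) (h1 : m < M) (h2 : M ≤ m + 2) {w : T.V}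
    (hw : T.form.op (nu F ^ j) w = 0) (hjm : j ≤ m + 2) : pr T.form w w (nu F ^ m) = 0 :=
  h m hm h1 h2 w (T.form.op_eq_zero_of_dvd (pow_dvd_pow _ hjm) hw)

theorem single_of_count (hj : 1 ≤ j) (he : Even j) (hc : μ.count (nu F, j) = 1) :
    ∃ x, T.form.op (nu F ^ j) x = 0 ∧ pr T.form x x (nu F ^ (j - 1)) ≠ 0 := by
  obtain ⟨⟨D, hD, hπ⟩⟩ : Nonempty {D : PData (RingHom.id F) Bool // UShape D j ∧ D.π = not} := by
    obtain ⟨-, D, h⟩ := exists_ushape (F := F) hj
    exact ⟨⟨D, h⟩⟩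
  refine (dichotomy hg hT hmax hj he (Multiset.count_pos.1 (by omega))).resolve_left ?_
  rintro ⟨x, y, h⟩
  have := count_pair hT hmax hD hπ h
  omega

theorem pair_of_altTop (hj : 1 ≤ j) (he : Even j) (hmem : (nu F, j) ∈ μ) (ha : AltTop j T.form) :
    ∃ x y, PairNF T.form j 0 0 x y := by
  refine (dichotomy hg hT hmax hj he hmem).resolve_right ?_
  rintro ⟨x, hx, hne⟩
  obtain ⟨b, rfl⟩ := he
  exact hne (altTop_apply hT hmax ha ⟨b - 1, by omega⟩ (by omega) (by omega) hx (by omega))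

end Steps

section Existence

variable [Finite F] [CharP F 2] {j : ℕ} {T : Trip.{u} (RingHom.id F) (1 : F)} {μ : Multiset (F[X] × ℕ)}
  (hg : Good μ) (hT : Ok T μ) (hmax : ∀ x ∈ μ, x.2 ≤ j)

include hg hT hmax

/-- Three or more blocks of even size always contain a hyperbolic pair. -/
theorem exists_pair00 (hj : 1 ≤ j) (he : Even j) (hc : 3 ≤ μ.count (nu F, j)) :
    ∃ x y, PairNF T.form j 0 0 x y := by
  obtain ⟨⟨D, hD⟩, -⟩ := exists_ushape (F := F) hj
  have hXi := hD.hXi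
  rcases dichotomy hg hT hmax hj he (Multiset.count_pos.1 (by omega)) with h | ⟨v₁, hv₁, hne₁⟩
  · exact h
  have hG₁ := singleGens hD hv₁ hne₁
  have hR₁ : Ok (restTrip hG₁) (μ - {(nu F, j)}) := blocks_single hD ▸ (ok_rest hT (by rwa [hD.hj]) hG₁).2
  have hmax₁ : ∀ x ∈ μ - {(nu F, j)}, x.2 ≤ j := fun x hx =>
    hmax x (Multiset.mem_of_le (Multiset.sub_le_self _ _) hx)
  have hlift : ∀ x y : (restTrip hG₁).V, PairNF (restTrip hG₁).form j 0 0 x y →
      ∃ x y, PairNF T.form j 0 0 x y := fun x y h =>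
    pair_even hXi hj he (rest_kill hG₁ h.killx) (rest_kill hG₁ h.killy)
      (by rw [← rest_pr hG₁, h.gtop]; exact one_ne_zero) (by rw [← rest_pr hG₁, h.topx])
      (by rw [← rest_pr hG₁, h.topy])
  rcases dichotomy (good_sub hg) hR₁ hmax₁ hj he (Multiset.count_pos.1 (by
      rw [Multiset.count_sub, Multiset.count_singleton_self]; omega)) with ⟨x, y, h⟩ | ⟨v₂, hv₂, hne₂⟩
  · exact hlift x y h
  have hG₂ := singleGens hD hv₂ hne₂
  have hR₂ : Ok (restTrip hG₂) (μ - {(nu F, j)} - {(nu F, j)}) :=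
    blocks_single hD ▸ (ok_rest hR₁ (by rwa [hD.hj]) hG₂).2
  have hmax₂ : ∀ x ∈ μ - {(nu F, j)} - {(nu F, j)}, x.2 ≤ j := fun x hx =>
    hmax₁ x (Multiset.mem_of_le (Multiset.sub_le_self _ _) hx)
  rcases dichotomy (good_sub (good_sub hg)) hR₂ hmax₂ hj he (Multiset.count_pos.1 (by
      rw [Multiset.count_sub, Multiset.count_sub, Multiset.count_singleton_self]; omega)) with
    ⟨x, y, h⟩ | ⟨v₃, hv₃, hne₃⟩
  · obtain ⟨x', y', h'⟩ := pair_even (T := (restTrip hG₁).form) hXi hj he (rest_kill hG₂ h.killx)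
      (rest_kill hG₂ h.killy) (by rw [← rest_pr hG₂, h.gtop]; exact one_ne_zero)
      (by rw [← rest_pr hG₂, h.topx]) (by rw [← rest_pr hG₂, h.topy])
    exact hlift x' y' h'
  rw [rest_pr hG₁] at hne₂
  rw [rest_pr hG₂, rest_pr hG₁] at hne₃
  have k2 := rest_kill hG₁ hv₂
  have k3 := rest_kill hG₁ (rest_kill hG₂ hv₃)
  have o12 : ∀ p, pr T.form v₁ (rval hG₁ v₂) p = 0 := fun p => rest_orth hG₁ v₂ () p
  have o13 : ∀ p, pr T.form v₁ (rval hG₁ (rval hG₂ v₃)) p = 0 := fun p =>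
    rest_orth hG₁ (rval hG₂ v₃) () p
  have o23 : ∀ p, pr T.form (rval hG₁ v₂) (rval hG₁ (rval hG₂ v₃)) p = 0 := fun p => by
    rw [← rest_pr hG₁]; exact rest_orth hG₂ v₃ () p
  generalize (rval hG₁ v₂) = w₂ at hne₂ hne₃ k2 k3 o12 o13 o23
  generalize (rval hG₁ (rval hG₂ v₃)) = w₃ at hne₃ k3 o13 o23
  obtain ⟨t₁, ht₁⟩ := exists_sq (pr T.form v₁ v₁ (nu F ^ (j - 1)))⁻¹
  obtain ⟨t₂, ht₂⟩ := exists_sq (pr T.form w₂ w₂ (nu F ^ (j - 1)))⁻¹
  obtain ⟨t₃, ht₃⟩ := exists_sq (pr T.form w₃ w₃ (nu F ^ (j - 1)))⁻¹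
  have ka : T.form.op (nu F ^ j) (t₁ • v₁) = 0 := by rw [map_smul, hv₁, smul_zero]
  have kb : T.form.op (nu F ^ j) (t₂ • w₂) = 0 := by rw [map_smul, k2, smul_zero]
  have kc : T.form.op (nu F ^ j) (t₃ • w₃) = 0 := by rw [map_smul, k3, smul_zero]
  have qa : pr T.form (t₁ • v₁) (t₁ • v₁) (nu F ^ (j - 1)) = 1 := by rw [pr_smul, ht₁, inv_mul_cancel₀ hne₁]
  have qb : pr T.form (t₂ • w₂) (t₂ • w₂) (nu F ^ (j - 1)) = 1 := by rw [pr_smul, ht₂, inv_mul_cancel₀ hne₂]
  have qc : pr T.form (t₃ • w₃) (t₃ • w₃) (nu F ^ (j - 1)) = 1 := by rw [pr_smul, ht₃, inv_mul_cancel₀ hne₃]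
  have ab : pr T.form (t₁ • v₁) (t₂ • w₂) (nu F ^ (j - 1)) = 0 := by rw [pr_smul, o12, mul_zero]
  have ac : pr T.form (t₁ • v₁) (t₃ • w₃) (nu F ^ (j - 1)) = 0 := by rw [pr_smul, o13, mul_zero]
  have bc : pr T.form (t₂ • w₂) (t₃ • w₃) (nu F ^ (j - 1)) = 0 := by rw [pr_smul, o23, mul_zero]
  generalize t₁ • v₁ = a at ka qa ab ac
  generalize t₂ • w₂ = b at kb qb ab bc
  generalize t₃ • w₃ = c at kc qc ac bc
  refine pair_even hXi hj he (x := a + (1 : F) • b) (y := b + (1 : F) • c)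
    (by rw [map_add, map_smul, ka, kb, smul_zero, add_zero])
    (by rw [map_add, map_smul, kb, kc, smul_zero, add_zero]) ?_
    (by rw [top_add hXi hj ka kb, qa, qb, mul_one, mul_one, CharTwo.add_self_eq_zero])
    (by rw [top_add hXi hj kb kc, qb, qc, mul_one, mul_one, CharTwo.add_self_eq_zero])
  rw [one_smul, one_smul, pr_apply, map_add, T.form.add_left, T.form.add_right, T.form.add_right,
    ← pr_apply, ← pr_apply, ← pr_apply, ← pr_apply, ab, ac, qb, bc, zero_add, zero_add, add_zero]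
  exact one_ne_zero

/-- Pairs of odd size. -/
theorem exists_pair_odd (hj : 1 ≤ j) (ho : Odd j) (hmem : (nu F, j) ∈ μ) {δ : F}
    (hδ : ∀ a, ∃ x : F, x + x * x = a ∨ x + x * x = a + δ) :
    (∃ x y, PairNF T.form j 0 0 x y) ∨ ∃ x y, PairNF T.form j 1 δ x y := by
  obtain ⟨x, y, hx, hy, hxy⟩ := top_pairing hg hT hmax hmem
  obtain ⟨Xi, hXi⟩ := exists_nu_inv (F := F) j
  exact pair_odd hXi hj hT.2 ho hδ hx hy hxy

omit hg hmax in
/-- Odd pairs contradict the vanishing of the diagonal. -/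
theorem odd_pair_not_alt (hj : 3 ≤ j) (ho : Odd j) {a b : F} (hab : a ≠ 0 ∨ (a = 0 ∧ b = 0)) {x y : T.V}
    (h : PairNF T.form j a b x y) : ¬ AltTop j T.form := by
  intro halt
  obtain ⟨Xi, hXi⟩ := exists_nu_inv (F := F) j
  obtain ⟨e, he, hej⟩ : ∃ e, Odd e ∧ e + 2 = j :=
    ⟨j - 2, by obtain ⟨a, rfl⟩ := ho; exact ⟨a - 1, by omega⟩, by omega⟩
  have hA : ∀ w, T.form.op (nu F ^ j) w = 0 → pr T.form w w (nu F ^ e) = 0 := fun w hw =>
    halt e he (by omega) (by omega) w (by rwa [hej])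
  rcases hab with ha | ⟨ha, hb⟩
  · have := hA x h.killx
    rw [h.oddx e he (by omega), if_pos hej] at this
    exact ha this
  · have := hA (x + (1 : F) • y) (by rw [map_add, map_smul, h.killx, h.killy, smul_zero, add_zero])
    rw [second_add hXi (by omega) h.killx h.killy 1 he hej, h.oddx e he (by omega), h.oddy e he (by omega),
      h.gtop, if_pos hej, if_pos hej, ha, hb, zero_add, one_mul, mul_zero, add_zero] at this
    exact one_ne_zero this

omit hg in
/-- Without a hyperbolic pair the rest has vanishing diagonal. -/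
theorem rest_pair_altTop (hj : 1 ≤ j) (ho : Odd j) (h0 : ¬ ∃ x y, PairNF T.form j 0 0 x y)
    {D : PData (RingHom.id F) Bool} {a b : F} {x y : T.V} (h : PairNF T.form j a b x y)
    (hG : D.Gens T.form (pv x y)) : AltTop j (restTrip hG).form := by
  intro m hm h1 h2 w hw
  have hmj : m + 2 = j := by
    obtain ⟨a, rfl⟩ := hm
    obtain ⟨b, rfl⟩ := ho
    omega
  by_contra hne
  rw [rest_pr] at hne
  obtain ⟨Xi, hXi⟩ := exists_nu_inv (F := F) j
  exact h0 (pair_absorb hXi hj hT.2 ho h (by rw [← hmj]; exact rest_kill hG hw)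
    (fun p => rest_orth hG w false p) (fun p => rest_orth hG w true p) hm hmj hne)

omit hg in
/-- Without a vanishing bit the rest has vanishing diagonal one step below. -/
theorem rest_single_altTop (hj : 1 ≤ j) (he : Even j) (h0 : ¬ ∃ x, SingleNF T.form j 0 x)
    {D : PData (RingHom.id F) Unit} {d : F} {x : T.V} (h : SingleNF T.form j d x)
    (hG : D.Gens T.form (fun _ => x)) : AltTop (j - 1) (restTrip hG).form := by
  intro m hm h1 h2 w hw
  have hmj : m + 3 = j := by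
    obtain ⟨a, rfl⟩ := hm
    obtain ⟨b, rfl⟩ := he
    omega
  by_contra hne
  rw [rest_pr] at hne
  obtain ⟨Xi, hXi⟩ := exists_nu_inv (F := F) j
  have hw' := rest_kill hG hw
  refine h0 (single_absorb hXi hj he h (T.form.op_eq_zero_of_dvd (pow_dvd_pow _ (by omega)) hw')
    (fun p => rest_orth hG w () p) ?_ hm hmj hne)
  rw [pr_apply, T.form.op_eq_zero_of_dvd (pow_dvd_pow _ (by omega)) hw', T.form.zero_left]

/-- Two blocks of even size with non-zero diagonal contain a vector with vanishing bit. -/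
theorem exists_single0 (hj : 1 ≤ j) (he : Even j) (hc : μ.count (nu F, j) = 2) (hna : ¬ AltTop j T.form)
    {δ : F} (hδ : ∀ a, ∃ x : F, x + x * x = a ∨ x + x * x = a + δ) : ∃ x, SingleNF T.form j 0 x := by
  obtain ⟨v, hv, hne⟩ := not_altTop hT hmax he hna
  obtain ⟨⟨D, hD⟩, -⟩ := exists_ushape (F := F) hj
  have hXi := hD.hXi
  rcases single_form hXi hj he hδ hv hne with h | ⟨x, hx⟩
  · exact h
  by_cases hj2 : j = 2
  · exact ⟨x, hx.kill, hx.top, fun i hi hij => by
      rw [hx.odd i hi hij, if_neg (by omega), if_neg (by omega)]⟩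
  have hG := singleGens hD hx.kill (by rw [hx.top]; exact one_ne_zero)
  have hR : Ok (restTrip hG) (μ - {(nu F, j)}) := blocks_single hD ▸ (ok_rest hT (by rwa [hD.hj]) hG).2
  obtain ⟨v₂, hv₂, hne₂⟩ := single_of_count (good_sub hg) hR
    (fun y hy => hmax y (Multiset.mem_of_le (Multiset.sub_le_self _ _) hy)) hj he
    (by rw [Multiset.count_sub, Multiset.count_singleton_self, hc])
  rw [rest_pr] at hne₂
  have k2 := rest_kill hG hv₂
  set z : T.V := rval hG v₂ with hz
  set w : T.V := rval hG ((restTrip hG).form.op (nu F) v₂) with hwdef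
  have hw : w = T.form.op (nu F) z := rest_op hG _ _
  have hpr : ∀ i, pr T.form w w (nu F ^ i) = pr T.form z z (nu F ^ (i + 2) * D.Xi ^ 1) := fun i => by
    rw [hw, pr_apply, ← T.form.op_mul_apply, pr_mul_right hXi k2]
    refine kills_congr (pr_kills k2 z) ?_
    have := (bar_nu hXi 1).mul_left (nu F ^ (i + 1))
    convert this using 1
    ring
  obtain ⟨e, heo, hej⟩ : ∃ e, Odd e ∧ e + 3 = j := by
    obtain ⟨b, rfl⟩ := he
    exact ⟨b + b - 3, ⟨b - 2, by omega⟩, by omega⟩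
  refine single_absorb hXi hj he hx (w := w) (by rw [hw, T.form.op_comm_apply, k2, map_zero])
    (fun p => rest_orth hG ((restTrip hG).form.op (nu F) v₂) () p) ?_ heo hej ?_
  · rw [hpr, kills_ge (pr_kills k2 z) (by omega)]
  · rw [hpr, kills_top (pr_kills k2 z) (by omega), eval_pow, Xi_eval hXi hj, one_pow, one_mul,
      show e + 2 = j - 1 by omega]
    exact hne₂

end Existence

end Cfsg.Agent.Lib.ClassNumber
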