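import Cfsg.Agent.Lib.ClassNumber.UnitCount
import Cfsg.Agent.Lib.ClassNumber.Codes

/-!
Self-reciprocal codes over a field with `q²` elements, and their count for given determinant.
-/

set_option autoImplicit false

namespace Cfsg.Agent.Lib.ClassNumber

open Polynomial Cfsg.Agent.Lib.GLClasses UniqueFactorizationMonoid Cfsg.Agent.S2478
open scoped Classical

variable {F : Type*} [Field F] [Fintype F] {θ : F →+* F} {q : ℕ}

/-- The self-reciprocal monic polynomials of degree `t`. -/
noncomputable def selfPolys (θ : F →+* F) (t : ℕ) : Finset F[X] := (polys F t).filter fun f => srp θ f = f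

theorem mem_selfPolys {t : ℕ} {f : F[X]} :
    f ∈ selfPolys θ t ↔ f.Monic ∧ f.natDegree = t ∧ f.coeff 0 ≠ 0 ∧ srp θ f = f := by
  rw [selfPolys, Finset.mem_filter, mem_polys]
  tauto

omit [Fintype F] in
theorem srp_coeff {f : F[X]} (h0 : f.coeff 0 ≠ 0) (hs : srp θ f = f) {i : ℕ} (hi : i ≤ f.natDegree) :
    θ (f.coeff 0) * f.coeff i = θ (f.coeff (f.natDegree - i)) := by
  conv_lhs => arg 2; rw [← hs]
  rw [srp, coeff_C_mul, coeff_reverse, natDegree_map, revAt_le hi, coeff_map,
    mul_inv_cancel_left₀ ((map_ne_zero θ).2 h0)]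

theorem card_roots_pow_le (n : ℕ) (hn : 2 ≤ n) (c : F) :
    ((Finset.univ : Finset F).filter fun x => x ^ n = c * x).card ≤ n := by
  have hd : (X ^ n - C c * X : F[X]).natDegree = n := by
    refine natDegree_eq_of_le_of_coeff_ne_zero ?_ ?_
    · exact (natDegree_sub_le _ _).trans (max_le (natDegree_X_pow_le n)
        ((natDegree_C_mul_le _ _).trans (natDegree_X_le.trans (by omega))))
    · rw [coeff_sub, coeff_X_pow, if_pos rfl, coeff_C_mul, coeff_X, if_neg (by omega), mul_zero, sub_zero]
      exact one_ne_zero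
  refine le_trans (card_le_degree_of_subset_roots (p := X ^ n - C c * X) ?_) hd.le
  intro x hx
  rw [mem_roots (fun h => by rw [h, natDegree_zero] at hd; omega), IsRoot.def]
  simp [(Finset.mem_filter.1 hx).2]

theorem card_normOne_le (hq : 1 ≤ q) :
    ((Finset.univ : Finset F).filter fun x => x ^ (q + 1) = 1).card ≤ q + 1 := by
  have hd : (X ^ (q + 1) - 1 : F[X]).natDegree = q + 1 := by rw [← C_1, natDegree_X_pow_sub_C]
  refine le_trans (card_le_degree_of_subset_roots (p := X ^ (q + 1) - 1) ?_) hd.le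
  intro x hx
  rw [mem_roots (fun h => by rw [h, natDegree_zero] at hd; omega), IsRoot.def]
  simp [(Finset.mem_filter.1 hx).2]

/-- Self-reciprocal polynomials with given constant term. -/
theorem card_selfPolys_coeff (hF : Fintype.card F = q ^ 2) (hq : 2 ≤ q) (hθ : ∀ x, θ x = x ^ q) {t : ℕ}
    (ht : 1 ≤ t) (c : F) : ((selfPolys θ t).filter fun f => f.coeff 0 = c).card ≤ q ^ (t - 1) := by
  set M : Finset F := if Even t then Finset.univ.filter (fun x => x ^ q = θ c * x) else {0}
  have hM : M.card ≤ if Even t then q else 1 := by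
    simp only [M]
    split_ifs
    · exact card_roots_pow_le q hq _
    · exact le_rfl
  refine le_trans (Finset.card_le_card_of_injOn
    (fun f => ((fun i : Fin ((t - 1) / 2) => f.coeff ((i : ℕ) + 1)), if Even t then f.coeff (t / 2) else 0))
    (t := (Finset.univ : Finset (Fin ((t - 1) / 2) → F)) ×ˢ M) ?_ ?_) ?_
  · intro f hf
    rw [Finset.mem_coe, Finset.mem_filter, mem_selfPolys] at hf
    obtain ⟨⟨-, hd, h0, hs⟩, hc⟩ := hf
    rw [Finset.mem_coe, Finset.mem_product]
    refine ⟨Finset.mem_univ _, ?_⟩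
    simp only [M]
    split_ifs with he
    · obtain ⟨k, rfl⟩ := he
      refine Finset.mem_filter.2 ⟨Finset.mem_univ _, ?_⟩
      have h := srp_coeff h0 hs (i := (k + k) / 2) (by omega)
      rw [hd, show k + k - (k + k) / 2 = (k + k) / 2 by omega, hc] at h
      rw [← hθ (f.coeff ((k + k) / 2)), h]
    · exact Finset.mem_singleton_self _
  · intro f hf g hg hfg
    rw [Finset.mem_coe, Finset.mem_filter, mem_selfPolys] at hf hg
    obtain ⟨⟨hfm, hfd, hf0, hfs⟩, hfc⟩ := hf
    obtain ⟨⟨hgm, hgd, hg0, hgs⟩, hgc⟩ := hg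
    obtain ⟨h1, h2⟩ := Prod.mk.inj hfg
    have low : ∀ i, 2 * i ≤ t → f.coeff i = g.coeff i := by
      intro i hi
      rcases Nat.eq_zero_or_pos i with rfl | hi0
      · rw [hfc, hgc]
      rcases Nat.lt_or_ge (2 * i) t with h | h
      · have := congrFun h1 ⟨i - 1, by omega⟩
        simpa [Nat.sub_add_cancel hi0] using this
      · have he : Even t := ⟨i, by omega⟩
        rw [if_pos he, if_pos he, show t / 2 = i by omega] at h2
        exact h2
    ext i
    rcases Nat.lt_or_ge t i with hi | hi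
    · rw [coeff_eq_zero_of_natDegree_lt (by omega), coeff_eq_zero_of_natDegree_lt (by omega)]
    rcases le_or_gt (2 * i) t with h | h
    · exact low i h
    · have e1 := srp_coeff hf0 hfs (i := i) (by omega)
      have e2 := srp_coeff hg0 hgs (i := i) (by omega)
      rw [hfd, low (t - i) (by omega), hfc, ← hgd, ← e2, hgc] at e1
      exact mul_left_cancel₀ ((map_ne_zero θ).2 (hfc ▸ hf0)) e1
  · rw [Finset.card_product, Finset.card_univ, Fintype.card_fun, Fintype.card_fin, hF, ← pow_mul]
    refine (Nat.mul_le_mul_left _ hM).trans ?_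
    split_ifs with he
    · obtain ⟨k, rfl⟩ := he
      rw [← pow_succ, show 2 * ((k + k - 1) / 2) + 1 = k + k - 1 by omega]
    · obtain ⟨k, rfl⟩ := Nat.not_even_iff_odd.1 he
      rw [mul_one, show 2 * ((2 * k + 1 - 1) / 2) = 2 * k + 1 - 1 by omega]

theorem card_selfPolys (hF : Fintype.card F = q ^ 2) (hq : 2 ≤ q) (hθ : ∀ x, θ x = x ^ q) (t : ℕ) :
    (selfPolys θ t).card ≤ srpNum q t := by
  rcases Nat.eq_zero_or_pos t with rfl | ht
  · refine Finset.card_le_one.2 fun f hf g hg => ?_
    rw [mem_selfPolys] at hf hg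
    rw [hf.1.natDegree_eq_zero.1 hf.2.1, hg.1.natDegree_eq_zero.1 hg.2.1]
  · rw [srpNum, if_neg ht.ne',
      Finset.card_eq_sum_card_fiberwise (f := fun f : F[X] => f.coeff 0)
        (t := (Finset.univ : Finset F).filter fun x => x ^ (q + 1) = 1) (fun f hf => ?_)]
    · refine (Finset.sum_le_card_nsmul _ _ _ fun c _ => card_selfPolys_coeff hF hq hθ ht c).trans ?_
      rw [smul_eq_mul]
      exact Nat.mul_le_mul_right _ (card_normOne_le (by omega))
    · rw [Finset.mem_coe, mem_selfPolys] at hf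
      obtain ⟨hm, hd, h0, hs⟩ := hf
      have h := srp_coeff h0 hs (i := f.natDegree) le_rfl
      rw [hm.coeff_natDegree, mul_one, Nat.sub_self] at h
      refine Finset.mem_filter.2 ⟨Finset.mem_univ _, ?_⟩
      have h' := srp_coeff h0 hs (i := 0) (Nat.zero_le _)
      rw [Nat.sub_zero, hm.coeff_natDegree, map_one, hθ] at h'
      rw [pow_succ, h']

/-- Tuples with parts in `2, …, M + 1`. -/
theorem card_tuples_le (hF : Fintype.card F = q ^ 2) (hq : 2 ≤ q) (hθ : ∀ x, θ x = x ^ q) :
    ∀ (M r : ℕ) (P : Finset (Fin M → F[X])),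
      (∀ g ∈ P, (∀ i, g i ∈ selfPolys θ (g i).natDegree) ∧ ∑ i : Fin M, ((i : ℕ) + 2) * (g i).natDegree = r) →
      P.card ≤ unitNum q M r := by
  intro M
  induction M with
  | zero =>
    intro r P hP
    show _ ≤ if r = 0 then 1 else 0
    split_ifs with hr
    · exact Finset.card_le_one.2 fun f _ g _ => funext fun i => i.elim0
    · rw [Nat.le_zero, Finset.card_eq_zero, Finset.eq_empty_iff_forall_notMem]
      intro g hg
      exact hr (by simpa using (hP g hg).2.symm)
  | succ M ih =>
    intro r P hP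
    show _ ≤ ∑ t ∈ Finset.range (r / (M + 2) + 1), srpNum q t * unitNum q M (r - (M + 2) * t)
    have hlast : ∀ g ∈ P, (M + 2) * (g (Fin.last M)).natDegree ≤ r := by
      intro g hg
      rw [← (hP g hg).2, Fin.sum_univ_castSucc, Fin.val_last]
      omega
    rw [Finset.card_eq_sum_card_fiberwise (f := fun g : Fin (M + 1) → F[X] => (g (Fin.last M)).natDegree)
      (t := Finset.range (r / (M + 2) + 1)) (fun g hg => Finset.mem_range.2 (Nat.lt_succ_of_le
        ((Nat.le_div_iff_mul_le (by omega)).2 (by rw [mul_comm]; exact hlast g hg))))]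
    refine Finset.sum_le_sum fun t _ => ?_
    set P' := P.filter fun g => (g (Fin.last M)).natDegree = t
    calc P'.card ≤ ((selfPolys θ t) ×ˢ P'.image Fin.init).card := by
          refine Finset.card_le_card_of_injOn (fun g => (g (Fin.last M), Fin.init g)) (fun g hg => ?_) ?_
          · rw [Finset.mem_coe] at hg ⊢
            obtain ⟨hg', ht⟩ := Finset.mem_filter.1 hg
            exact Finset.mem_product.2 ⟨ht ▸ (hP g hg').1 _, Finset.mem_image_of_mem _ hg⟩
          · intro g _ g' _ h
            obtain ⟨h1, h2⟩ := Prod.mk.inj h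
            rw [← Fin.snoc_init_self g, ← Fin.snoc_init_self g', h2, h1]
      _ ≤ _ := by
          rw [Finset.card_product]
          refine Nat.mul_le_mul (card_selfPolys hF hq hθ t) (ih _ _ ?_)
          intro g' hg'
          obtain ⟨g, hg, rfl⟩ := Finset.mem_image.1 hg'
          obtain ⟨hg', ht⟩ := Finset.mem_filter.1 hg
          refine ⟨fun i => (hP g hg').1 _, ?_⟩
          have h := (hP g hg').2
          rw [Fin.sum_univ_castSucc, Fin.val_last, ht] at h
          show ∑ i : Fin M, ((i : ℕ) + 2) * (g i.castSucc).natDegree = _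
          simp only [Fin.val_castSucc] at h
          omega

/-- The codes of a given determinant one. -/
noncomputable def unitCodes (θ : F →+* F) (m : ℕ) : Finset (Fin (m + 1) → F[X]) :=
  (admCodes θ (1 : F) (m + 1)).filter fun g => dtm 1 g = 1

theorem unitCodes_spec {m : ℕ} {g : Fin (m + 1) → F[X]} (hg : g ∈ unitCodes θ m) :
    (∀ j, g j ∈ selfPolys θ (g j).natDegree) ∧
      ∑ i : Fin m, ((i : ℕ) + 2) * (g i.succ).natDegree + (g 0).natDegree = m + 1 ∧
      (-1) ^ (g 0).natDegree * (g 0).coeff 0 *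
        ∏ i : Fin m, ((-1) ^ (g i.succ).natDegree * (g i.succ).coeff 0) ^ ((i : ℕ) + 2) = 1 := by
  obtain ⟨hg', hd⟩ := Finset.mem_filter.1 hg
  obtain ⟨hgc, hadm⟩ := Finset.mem_filter.1 hg'
  obtain ⟨hc, hw⟩ := mem_codes.1 hgc
  refine ⟨fun j => mem_selfPolys.2 ⟨(hc j).1, rfl, (hc j).2, (hadm j).1⟩, ?_, ?_⟩
  · rw [wt, Fin.sum_univ_succ] at hw
    simp only [Fin.val_zero, Fin.val_succ, zero_add, one_mul, add_assoc, Nat.reduceAdd] at hw
    omega
  · rw [dtm, Fin.prod_univ_succ] at hd
    simpa [add_assoc] using hd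

/-- The counts of the two kinds of codes. -/
theorem card_unitCodes_le (hF : Fintype.card F = q ^ 2) (hq : 2 ≤ q) (hθ : ∀ x, θ x = x ^ q) (m : ℕ) :
    ((unitCodes θ m).filter fun g => (g 0).natDegree ≠ 0).card ≤
        ∑ t ∈ Finset.range (m + 1), q ^ t * unitNum q m (m - t) ∧
    ((unitCodes θ m).filter fun g => (g 0).natDegree = 0).card ≤ unitNum q m (m + 1) := by
  constructor
  · rw [Finset.card_eq_sum_card_fiberwise (f := fun g : Fin (m + 1) → F[X] => (g 0).natDegree - 1)
      (t := Finset.range (m + 1)) (fun g hg => Finset.mem_range.2 (by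
        have := (unitCodes_spec (Finset.mem_filter.1 hg).1).2.1
        show (g 0).natDegree - 1 < m + 1
        omega))]
    refine Finset.sum_le_sum fun t ht => ?_
    rw [Finset.mem_range] at ht
    set P' := ((unitCodes θ m).filter fun g => (g 0).natDegree ≠ 0).filter fun g => (g 0).natDegree - 1 = t
    have hP' : ∀ g ∈ P', g ∈ unitCodes θ m ∧ (g 0).natDegree = t + 1 := fun g hg => by
      obtain ⟨hg', hgt⟩ := Finset.mem_filter.1 hg
      obtain ⟨hg'', hne⟩ := Finset.mem_filter.1 hg'
      exact ⟨hg'', by omega⟩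
    rw [Finset.card_eq_sum_card_fiberwise (f := fun g : Fin (m + 1) → F[X] => Fin.tail g)
      (t := P'.image Fin.tail) (fun g hg => Finset.mem_image_of_mem _ hg)]
    refine (Finset.sum_le_card_nsmul _ _ (q ^ t) fun h _ => ?_).trans ?_
    · refine le_trans (Finset.card_le_card_of_injOn (fun g => g 0)
        (t := (selfPolys θ (t + 1)).filter fun f => f.coeff 0 =
          ((-1) ^ (t + 1) * ∏ i : Fin m, ((-1) ^ (h i).natDegree * (h i).coeff 0) ^ ((i : ℕ) + 2))⁻¹) ?_ ?_)
        (card_selfPolys_coeff hF hq hθ (by omega) _)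
      · intro g hg
        rw [Finset.mem_coe, Finset.mem_filter] at hg
        obtain ⟨hg', rfl⟩ := hg
        obtain ⟨hu, ht⟩ := hP' g hg'
        obtain ⟨hs, -, hd⟩ := unitCodes_spec hu
        rw [ht, mul_right_comm, mul_comm] at hd
        exact Finset.mem_filter.2 ⟨ht ▸ hs 0, eq_inv_of_mul_eq_one_left hd⟩
      · intro g hg g' hg' h0
        rw [Finset.mem_coe, Finset.mem_filter] at hg hg'
        rw [← Fin.cons_self_tail g, ← Fin.cons_self_tail g', hg.2, hg'.2, show g 0 = g' 0 from h0]
    · rw [smul_eq_mul, mul_comm]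
      refine Nat.mul_le_mul_left _ (card_tuples_le hF hq hθ m (m - t) _ ?_)
      intro h hh
      obtain ⟨g, hg, rfl⟩ := Finset.mem_image.1 hh
      obtain ⟨hu, htd⟩ := hP' g hg
      obtain ⟨hs, hsum, -⟩ := unitCodes_spec hu
      refine ⟨fun i => hs _, ?_⟩
      show ∑ i : Fin m, ((i : ℕ) + 2) * (g i.succ).natDegree = _
      omega
  · set P' := (unitCodes θ m).filter fun g => (g 0).natDegree = 0
    have h0 : ∀ g ∈ P', g 0 = 1 := fun g hg => by
      obtain ⟨hu, hd⟩ := Finset.mem_filter.1 hg
      exact (mem_selfPolys.1 ((unitCodes_spec hu).1 0)).1.natDegree_eq_zero.1 hd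
    calc P'.card ≤ (P'.image Fin.tail).card := by
          refine Finset.card_le_card_of_injOn Fin.tail (fun g hg => Finset.mem_image_of_mem _ hg) ?_
          intro g hg g' hg' h
          rw [← Fin.cons_self_tail g, ← Fin.cons_self_tail g', h0 g hg, h0 g' hg']
          exact congrArg (Fin.cons 1) h
      _ ≤ _ := by
          refine card_tuples_le hF hq hθ m (m + 1) _ ?_
          intro h hh
          obtain ⟨g, hg, rfl⟩ := Finset.mem_image.1 hh
          obtain ⟨hu, hd⟩ := Finset.mem_filter.1 hg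
          obtain ⟨hs, hsum, -⟩ := unitCodes_spec hu
          refine ⟨fun i => hs _, ?_⟩
          show ∑ i : Fin m, ((i : ℕ) + 2) * (g i.succ).natDegree = _
          omega

/-- The case of dimension two. -/
theorem card_unitCodes_two :
    ((unitCodes θ 1).filter fun g => (g 0).natDegree = 0).card ≤ 2 := by
  refine le_trans (Finset.card_le_card_of_injOn (fun g : Fin 2 → F[X] => (g 1).coeff 0)
    (t := ({1, -1} : Finset F)) ?_ ?_) Finset.card_le_two
  · intro g hg
    rw [Finset.mem_coe, Finset.mem_filter] at hg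
    obtain ⟨hu, hd⟩ := hg
    obtain ⟨hs, hsum, hdet⟩ := unitCodes_spec hu
    rw [Fin.sum_univ_one, hd] at hsum
    simp only [Fin.val_zero, zero_add, add_zero] at hsum
    have h1 : (g (Fin.succ 0)).natDegree = 1 := by omega
    rw [Fin.prod_univ_one, hd, (mem_selfPolys.1 (hs 0)).1.natDegree_eq_zero.1 hd, h1] at hdet
    simp only [pow_zero, coeff_one_zero, one_mul, pow_one, Fin.val_zero, zero_add] at hdet
    rw [neg_one_mul, neg_sq] at hdet
    show (g 1).coeff 0 ∈ (({1, -1} : Finset F) : Set F)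
    rw [Finset.coe_insert, Finset.coe_singleton, Set.mem_insert_iff, Set.mem_singleton_iff]
    exact sq_eq_one_iff.1 hdet
  · intro g hg g' hg' h
    rw [Finset.mem_coe, Finset.mem_filter] at hg hg'
    have hlin : ∀ k : Fin 2 → F[X], k ∈ unitCodes θ 1 → (k 0).natDegree = 0 →
        k 0 = 1 ∧ k 1 = X + C ((k 1).coeff 0) := by
      intro k hu hd
      obtain ⟨hs, hsum, -⟩ := unitCodes_spec hu
      rw [Fin.sum_univ_one, hd] at hsum
      simp only [Fin.val_zero, zero_add, add_zero] at hsum
      refine ⟨(mem_selfPolys.1 (hs 0)).1.natDegree_eq_zero.1 hd, ?_⟩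
      exact (mem_selfPolys.1 (hs 1)).1.eq_X_add_C (show (k (Fin.succ 0)).natDegree = 1 by omega)
    obtain ⟨a1, a2⟩ := hlin g hg.1 hg.2
    obtain ⟨b1, b2⟩ := hlin g' hg'.1 hg'.2
    funext i
    fin_cases i
    · exact a1.trans b1.symm
    · exact a2.trans ((congrArg (fun c => X + C c) h).trans b2.symm)

end Cfsg.Agent.Lib.ClassNumber
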