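import Mathlib

/-!
The coefficients of the generating function of unitary class numbers.
-/

set_option autoImplicit false

namespace Cfsg.Agent.Lib.ClassNumber

/-- The number of self-reciprocal monic polynomials of degree `t`. -/
def srpNum (q t : ℕ) : ℕ := if t = 0 then 1 else (q + 1) * q ^ (t - 1)

/-- The number of codes with parts in `2, …, M + 1`, of given size. -/
def unitNum (q : ℕ) : ℕ → ℕ → ℕ
  | 0, r => if r = 0 then 1 else 0
  | M + 1, r => ∑ t ∈ Finset.range (r / (M + 2) + 1), srpNum q t * unitNum q M (r - (M + 2) * t)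

theorem sum_srpNum_le {q : ℕ} {z : ℝ} (hz : 0 ≤ z) (hqz : (q : ℝ) * z < 1) (B : ℕ) :
    ∑ t ∈ Finset.range B, (srpNum q t : ℝ) * z ^ t ≤ (1 + z) / (1 - q * z) := by
  have h0 : 0 ≤ (1 + z) / (1 - q * z) := div_nonneg (by linarith) (by linarith)
  rcases B with _ | B
  · simpa using h0
  rw [Finset.sum_range_succ']
  have h1 : ∀ t : ℕ, (srpNum q (t + 1) : ℝ) * z ^ (t + 1) = (((q : ℝ) + 1) * z) * ((q : ℝ) * z) ^ t := fun t => by
    rw [srpNum, if_neg (Nat.succ_ne_zero t), Nat.add_sub_cancel]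
    push_cast
    rw [mul_pow, pow_succ]
    ring
  simp only [h1, ← Finset.mul_sum]
  have h2 : ∑ t ∈ Finset.range B, ((q : ℝ) * z) ^ t ≤ 1 / (1 - q * z) := by
    rw [le_div_iff₀ (by linarith)]
    have := geom_sum_mul ((q : ℝ) * z) B
    nlinarith [pow_nonneg (mul_nonneg (Nat.cast_nonneg (α := ℝ) q) hz) B]
  have h3 : (srpNum q 0 : ℝ) = 1 := by simp [srpNum]
  rw [h3, pow_zero, mul_one]
  have h4 := mul_le_mul_of_nonneg_left h2 (show (0 : ℝ) ≤ ((q : ℝ) + 1) * z by positivity)
  have h5 : (1 + z) / (1 - q * z) = ((q : ℝ) + 1) * z * (1 / (1 - q * z)) + 1 := by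
    rw [mul_one_div, div_add_one (show (1 : ℝ) - q * z ≠ 0 by linarith)]
    congr 1
    ring
  linarith

/-- The factors of the generating function. -/
noncomputable def unitFac (a : ℕ) (x : ℝ) (k : ℕ) : ℝ := (1 + x ^ (k + a)) / (1 - x ^ (k + 1))

/-- The partial products of the generating function. -/
noncomputable def unitProd (a : ℕ) (x : ℝ) (M : ℕ) : ℝ := ∏ k ∈ Finset.range M, unitFac a x k

theorem unitNum_eval {q : ℕ} (hq : 2 ≤ q) : ∀ K N : ℕ,
    ∑ r ∈ Finset.range N, (unitNum q K r : ℝ) * (1 / q : ℝ) ^ r ≤ unitProd 2 (1 / q) K := by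
  have hq' : (2 : ℝ) ≤ q := by exact_mod_cast hq
  have hy : (0 : ℝ) ≤ 1 / q := by positivity
  have hy1 : (1 / q : ℝ) < 1 := by rw [div_lt_one (by linarith)]; linarith
  intro K
  induction K with
  | zero =>
    intro N
    rcases N with _ | N
    · simp [unitProd]
    · rw [Finset.sum_range_succ']
      simp [unitNum, unitProd]
  | succ K ih =>
    intro N
    set y : ℝ := 1 / q
    set z : ℝ := y ^ (K + 2)
    have hqz : (q : ℝ) * z = y ^ (K + 1) := by
      show (q : ℝ) * (1 / q) ^ (K + 2) = _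
      rw [show (1 / q : ℝ) ^ (K + 2) = (1 / q) ^ (K + 1) * (1 / q) from pow_succ _ _]
      field_simp
      rfl
    have hqz1 : (q : ℝ) * z < 1 := by rw [hqz]; exact pow_lt_one₀ hy hy1 (by omega)
    let f : ℕ × ℕ → ℝ := fun p => (srpNum q p.1 : ℝ) * z ^ p.1 * ((unitNum q K p.2 : ℝ) * y ^ p.2)
    calc ∑ r ∈ Finset.range N, (unitNum q (K + 1) r : ℝ) * y ^ r
        = ∑ p ∈ (Finset.range N).sigma (fun r => Finset.range (r / (K + 2) + 1)),
            f (p.2, p.1 - (K + 2) * p.2) := by
          rw [Finset.sum_sigma]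
          refine Finset.sum_congr rfl fun r _ => ?_
          rw [unitNum, Nat.cast_sum, Finset.sum_mul]
          refine Finset.sum_congr rfl fun t ht => ?_
          rw [Finset.mem_range] at ht
          have hle : (K + 2) * t ≤ r :=
            (Nat.mul_le_mul_left _ (Nat.lt_succ_iff.1 ht)).trans (Nat.mul_div_le r (K + 2))
          show _ = (srpNum q t : ℝ) * z ^ t * ((unitNum q K (r - (K + 2) * t) : ℝ) * y ^ (r - (K + 2) * t))
          rw [← pow_mul]
          have : y ^ r = y ^ ((K + 2) * t) * y ^ (r - (K + 2) * t) := by rw [← pow_add, Nat.add_sub_cancel' hle]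
          rw [this]
          push_cast
          ring
      _ = ∑ p ∈ ((Finset.range N).sigma (fun r => Finset.range (r / (K + 2) + 1))).image
            (fun p => (p.2, p.1 - (K + 2) * p.2)), f p := by
          rw [Finset.sum_image]
          rintro ⟨r, t⟩ hp ⟨r', t'⟩ hp' h
          simp only [Finset.coe_sigma, Set.mem_sigma_iff, Finset.mem_coe, Finset.mem_range] at hp hp'
          obtain ⟨h1, h2⟩ := Prod.mk.inj h
          simp only at h1 h2
          subst h1
          have := (Nat.mul_le_mul_left (K + 2) (Nat.lt_succ_iff.1 hp.2)).trans (Nat.mul_div_le r (K + 2))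
          have := (Nat.mul_le_mul_left (K + 2) (Nat.lt_succ_iff.1 hp'.2)).trans (Nat.mul_div_le r' (K + 2))
          obtain rfl : r = r' := by omega
          rfl
      _ ≤ ∑ p ∈ Finset.range N ×ˢ Finset.range N, f p := by
          refine Finset.sum_le_sum_of_subset_of_nonneg ?_ fun p _ _ => by positivity
          intro p hp
          obtain ⟨⟨r, t⟩, hrt, rfl⟩ := Finset.mem_image.1 hp
          simp only [Finset.mem_sigma, Finset.mem_range, Finset.mem_product] at hrt ⊢
          have := (Nat.lt_succ_iff.1 hrt.2).trans (Nat.div_le_self r (K + 2))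
          exact ⟨by omega, by omega⟩
      _ = (∑ t ∈ Finset.range N, (srpNum q t : ℝ) * z ^ t) *
            ∑ r ∈ Finset.range N, (unitNum q K r : ℝ) * y ^ r := by
          rw [Finset.sum_mul_sum, ← Finset.sum_product']
      _ ≤ (1 + z) / (1 - q * z) * unitProd 2 y K :=
          mul_le_mul (sum_srpNum_le (by positivity) hqz1 N) (ih N)
            (Finset.sum_nonneg fun r _ => by positivity) (div_nonneg (by positivity) (by linarith))
      _ = unitProd 2 y (K + 1) := by
          rw [unitProd, unitProd, Finset.prod_range_succ, unitFac, hqz]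
          ring

theorem unitNum_one (q r : ℕ) : unitNum q 1 r = if Even r then srpNum q (r / 2) else 0 := by
  show ∑ t ∈ Finset.range (r / 2 + 1), srpNum q t * (if r - 2 * t = 0 then 1 else 0) = _
  split_ifs with h
  · obtain ⟨k, rfl⟩ := h
    rw [show (k + k) / 2 = k by omega, Finset.sum_eq_single k]
    · rw [if_pos (by omega), mul_one]
    · intro t ht hne
      rw [Finset.mem_range] at ht
      rw [if_neg (by omega), mul_zero]
    · simp
  · refine Finset.sum_eq_zero fun t ht => ?_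
    rw [Finset.mem_range] at ht
    rw [Nat.even_iff] at h
    rw [if_neg (by omega), mul_zero]

theorem unitNum_le {q : ℕ} (hq : 2 ≤ q) : ∀ K r : ℕ, (unitNum q (K + 1) r : ℝ) ≤
    (1 + 1 / (q : ℝ)) * Real.sqrt q ^ r * unitProd 3 (1 / Real.sqrt q) K := by
  have hq' : (2 : ℝ) ≤ q := by exact_mod_cast hq
  have hσ : 0 < Real.sqrt q := Real.sqrt_pos.2 (by linarith)
  have hσ2 : Real.sqrt q ^ 2 = q := Real.sq_sqrt (by linarith)
  intro K
  induction K with
  | zero =>
    intro r
    rw [unitProd, Finset.prod_range_zero, mul_one, unitNum_one]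
    split_ifs with h
    · obtain ⟨k, rfl⟩ := h
      rw [show (k + k) / 2 = k by omega, ← two_mul k, pow_mul, hσ2, srpNum]
      have hk : (0 : ℝ) ≤ (q : ℝ) ^ k := by positivity
      rcases k with _ | k
      · simp
      · rw [if_neg (Nat.succ_ne_zero k), Nat.add_sub_cancel]
        push_cast
        rw [pow_succ]
        field_simp
        exact le_rfl
    · rw [Nat.cast_zero]; positivity
  | succ K ih =>
    intro r
    set σ := Real.sqrt (q : ℝ)
    set s : ℝ := 1 / σ
    set z : ℝ := s ^ (K + 3)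
    have hs0 : 0 ≤ s := by positivity
    have hqz : (q : ℝ) * z = s ^ (K + 1) := by
      show (q : ℝ) * (1 / σ) ^ (K + 3) = (1 / σ) ^ (K + 1)
      rw [show (1 / σ) ^ (K + 3) = (1 / σ) ^ (K + 1) * (1 / σ) ^ 2 by rw [← pow_add], div_pow 1 σ 2, one_pow, hσ2]
      field_simp
    have hs1 : s < 1 := by
      rw [div_lt_one hσ]
      nlinarith
    have hqz1 : (q : ℝ) * z < 1 := by rw [hqz]; exact pow_lt_one₀ hs0 hs1 (by omega)
    set P := unitProd 3 s K
    have hP : 0 ≤ P := Finset.prod_nonneg fun k _ =>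
      div_nonneg (by positivity) (by linarith [pow_le_one₀ (n := k + 1) hs0 hs1.le])
    rw [unitNum, Nat.cast_sum]
    calc ∑ t ∈ Finset.range (r / (K + 1 + 2) + 1), ((srpNum q t * unitNum q (K + 1) (r - (K + 1 + 2) * t) : ℕ) : ℝ)
        ≤ ∑ t ∈ Finset.range (r / (K + 1 + 2) + 1), ((1 + 1 / (q : ℝ)) * σ ^ r * P) * ((srpNum q t : ℝ) * z ^ t) := by
          refine Finset.sum_le_sum fun t ht => ?_
          rw [Finset.mem_range] at ht
          have hle : (K + 3) * t ≤ r :=
            (Nat.mul_le_mul_left _ (Nat.lt_succ_iff.1 ht)).trans (Nat.mul_div_le r (K + 3))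
          push_cast
          refine le_trans (mul_le_mul_of_nonneg_left (ih _) (Nat.cast_nonneg _)) (le_of_eq ?_)
          have e : σ ^ (r - (K + 3) * t) = σ ^ r * z ^ t := by
            show _ = σ ^ r * ((1 / σ) ^ (K + 3)) ^ t
            rw [← pow_mul, one_div, inv_pow, pow_sub₀ _ hσ.ne' hle]
          rw [show K + 1 + 2 = K + 3 from rfl, e]
          ring
      _ = ((1 + 1 / (q : ℝ)) * σ ^ r * P) * ∑ t ∈ Finset.range (r / (K + 1 + 2) + 1), (srpNum q t : ℝ) * z ^ t := by
          rw [Finset.mul_sum]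
      _ ≤ ((1 + 1 / (q : ℝ)) * σ ^ r * P) * ((1 + z) / (1 - q * z)) :=
          mul_le_mul_of_nonneg_left (sum_srpNum_le (by positivity) hqz1 _) (by positivity)
      _ = _ := by
          rw [unitProd, Finset.prod_range_succ, unitFac, hqz]
          show _ = _ * (P * _)
          ring

theorem unitProd_mono {a : ℕ} {x y : ℝ} (hx : 0 ≤ x) (hxy : x ≤ y) (hy : y < 1) (M : ℕ) :
    unitProd a x M ≤ unitProd a y M := by
  refine Finset.prod_le_prod (fun k _ => ?_) fun k _ => ?_
  · have : x ^ (k + 1) ≤ 1 := pow_le_one₀ hx (by linarith)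
    exact div_nonneg (by positivity) (by linarith)
  · have h1 : y ^ (k + 1) < 1 := pow_lt_one₀ (by linarith) hy (by omega)
    refine div_le_div₀ ?_ ?_ (by linarith) ?_
    · have : 0 ≤ y ^ (k + a) := pow_nonneg (by linarith) _
      linarith
    · linarith [pow_le_pow_left₀ hx hxy (k + a)]
    · linarith [pow_le_pow_left₀ hx hxy (k + 1)]

theorem unitProd_tail {a : ℕ} (ha : 1 ≤ a) {x : ℝ} (hx : 0 ≤ x) (hx1 : x < 1) (N : ℕ) {D : ℝ}
    (hD : x ^ (N + 1) * (1 + x ^ (a - 1)) ≤ D * (1 - x) * (1 - x ^ (N + 1))) (hD1 : D < 1) (M : ℕ) :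
    unitProd a x M * (1 - D) ≤ unitProd a x N := by
  have hpow : ∀ n, x ^ n ≤ 1 := fun n => pow_le_one₀ hx hx1.le
  have hf1 : ∀ k, 1 ≤ unitFac a x k := fun k => by
    have h1 : x ^ (k + 1) < 1 := pow_lt_one₀ hx hx1 (by omega)
    rw [unitFac, le_div_iff₀ (by linarith), one_mul]
    linarith [pow_nonneg hx (k + a), pow_nonneg hx (k + 1)]
  have hP : ∀ n, 0 ≤ unitProd a x n := fun n => Finset.prod_nonneg fun k _ => by linarith [hf1 k]
  have hN1 : x ^ (N + 1) < 1 := pow_lt_one₀ hx hx1 (by omega)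
  have hD0 : 0 ≤ D := by
    by_contra h
    have h1 : D * (1 - x) * (1 - x ^ (N + 1)) < 0 :=
      mul_neg_of_neg_of_pos (mul_neg_of_neg_of_pos (by linarith) (by linarith)) (by linarith)
    have : 0 ≤ x ^ (N + 1) * (1 + x ^ (a - 1)) := by positivity
    linarith
  set c := D * (1 - x)
  have hc0 : 0 ≤ c := mul_nonneg hD0 (by linarith)
  have hstep : ∀ k, unitFac a x (N + k) ≤ 1 + c * x ^ k := by
    intro k
    have h1 : x ^ (N + k + 1) < 1 := pow_lt_one₀ hx hx1 (by omega)
    rw [unitFac, div_le_iff₀ (by linarith)]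
    have e1 : x ^ (N + k + a) = x ^ (N + 1) * x ^ (a - 1) * x ^ k := by
      rw [← pow_add, ← pow_add]; congr 1; omega
    have e2 : x ^ (N + k + 1) = x ^ (N + 1) * x ^ k := by rw [← pow_add]; congr 1; omega
    rw [e1, e2]
    have hk := pow_nonneg hx k
    have h2 : x ^ (N + 1) * x ^ k ≤ x ^ (N + 1) := mul_le_of_le_one_right (pow_nonneg hx _) (hpow k)
    nlinarith [mul_le_mul_of_nonneg_left hD hk, mul_le_mul_of_nonneg_left h2 (mul_nonneg hc0 hk)]
  have key : ∀ M, unitProd a x (N + M) * (1 - D * (1 - x ^ M)) ≤ unitProd a x N := by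
    intro M
    induction M with
    | zero => simp
    | succ M ih =>
      set s := D * (1 - x ^ M)
      have hs : D * (1 - x ^ (M + 1)) = s + c * x ^ M := by
        show _ = D * (1 - x ^ M) + D * (1 - x) * x ^ M
        rw [pow_succ]; ring
      have hM := pow_nonneg hx M
      have hs0 : 0 ≤ s := mul_nonneg hD0 (by linarith [hpow M])
      have hs1 : s + c * x ^ M ≤ 1 := by
        rw [← hs]
        have : D * (1 - x ^ (M + 1)) ≤ D := mul_le_of_le_one_right hD0 (by linarith [pow_nonneg hx (M + 1)])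
        linarith
      rw [hs, ← Nat.add_assoc, unitProd, Finset.prod_range_succ, ← unitProd]
      calc unitProd a x (N + M) * unitFac a x (N + M) * (1 - (s + c * x ^ M))
          ≤ unitProd a x (N + M) * (1 + c * x ^ M) * (1 - (s + c * x ^ M)) :=
            mul_le_mul_of_nonneg_right (mul_le_mul_of_nonneg_left (hstep M) (hP _)) (by linarith)
        _ ≤ unitProd a x (N + M) * (1 - s) := by
            rw [mul_assoc]
            refine mul_le_mul_of_nonneg_left ?_ (hP _)
            nlinarith [mul_nonneg hs0 (mul_nonneg hc0 hM), mul_nonneg (mul_nonneg hc0 hM) (mul_nonneg hc0 hM)]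
        _ ≤ _ := ih
  have hmono : unitProd a x M ≤ unitProd a x (N + M) :=
    Finset.prod_le_prod_of_subset_of_one_le (by intro i hi; simp only [Finset.mem_range] at hi ⊢; omega)
      (fun i _ => by linarith [hf1 i]) (fun i _ _ => hf1 i)
  refine le_trans (mul_le_mul_of_nonneg_right hmono (by linarith)) (le_trans ?_ (key M))
  exact mul_le_mul_of_nonneg_left (by nlinarith [pow_nonneg hx M]) (hP _)

theorem unitProd_half (M : ℕ) : unitProd 2 (1 / 2) M ≤ 553 / 100 := by
  have h := unitProd_tail (a := 2) (by norm_num) (x := 1 / 2) (by norm_num) (by norm_num) 10 (D := 2 / 1000)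
    (by norm_num) (by norm_num) M
  have : unitProd 2 (1 / 2) 10 ≤ 553 / 100 * (1 - 2 / 1000) := by
    norm_num [unitProd, unitFac, Finset.prod_range_succ]
  linarith

theorem unitProd_third (M : ℕ) : unitProd 2 (1 / 3) M ≤ 212 / 100 := by
  have h := unitProd_tail (a := 2) (by norm_num) (x := 1 / 3) (by norm_num) (by norm_num) 6 (D := 2 / 1000)
    (by norm_num) (by norm_num) M
  have : unitProd 2 (1 / 3) 6 ≤ 212 / 100 * (1 - 2 / 1000) := by
    norm_num [unitProd, unitFac, Finset.prod_range_succ]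
  linarith

theorem unitProd_three_small (M : ℕ) : unitProd 3 (29 / 50) M ≤ 92 / 10 := by
  have h := unitProd_tail (a := 3) (by norm_num) (x := 29 / 50) (by norm_num) (by norm_num) 14 (D := 2 / 1000)
    (by norm_num) (by norm_num) M
  have : unitProd 3 (29 / 50) 14 ≤ 92 / 10 * (1 - 2 / 1000) := by
    norm_num [unitProd, unitFac, Finset.prod_range_succ]
  linarith

theorem unitProd_three_two (M : ℕ) : unitProd 3 (71 / 100) M ≤ 92 := by
  have h := unitProd_tail (a := 3) (by norm_num) (x := 71 / 100) (by norm_num) (by norm_num) 18 (D := 1 / 100)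
    (by norm_num) (by norm_num) M
  have : unitProd 3 (71 / 100) 18 ≤ 92 * (1 - 1 / 100) := by
    norm_num [unitProd, unitFac, Finset.prod_range_succ]
  linarith

theorem unit_count_two : ∀ n < 17, 3 ≤ n →
    100 * ((∑ t ∈ Finset.range n, 2 ^ t * unitNum 2 (n - 1) (n - 1 - t)) + 3 * unitNum 2 (n - 1) n) ≤
      826 * 2 ^ (n - 1) := by
  decide +kernel

theorem unitNum_small (q : ℕ) : unitNum q 2 3 = q + 1 ∧ unitNum q 3 4 = (q + 1) * (q + 1) ∧
    unitNum q 4 5 = (q + 1) * (q + 2) := by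
  have hstep : ∀ M r, unitNum q (M + 1) r =
      ∑ t ∈ Finset.range (r / (M + 2) + 1), srpNum q t * unitNum q M (r - (M + 2) * t) := fun M r => rfl
  have e0 : srpNum q 0 = 1 := rfl
  have e1 : srpNum q 1 = q + 1 := by simp [srpNum]
  have e2 : srpNum q 2 = (q + 1) * q := by simp [srpNum]
  have z0 : ∀ M, unitNum q M 0 = 1 := by
    intro M
    induction M with
    | zero => rfl
    | succ M ih => rw [hstep, Nat.zero_div, Finset.sum_range_one, e0, one_mul, Nat.zero_sub, ih]
  have a1 : ∀ r, unitNum q 1 r = if Even r then srpNum q (r / 2) else 0 := unitNum_one q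
  have b3 : unitNum q 2 3 = q + 1 := by
    rw [hstep, show 3 / (1 + 2) + 1 = 2 from rfl, Finset.sum_range_succ, Finset.sum_range_one, e0, e1, a1, z0]
    simp [Nat.even_iff]
  have b4 : unitNum q 2 4 = (q + 1) * q := by
    rw [hstep, show 4 / (1 + 2) + 1 = 2 from rfl, Finset.sum_range_succ, Finset.sum_range_one, e0, e1, a1, a1]
    simp [Nat.even_iff, e2]
  have b5 : unitNum q 2 5 = (q + 1) * (q + 1) := by
    rw [hstep, show 5 / (1 + 2) + 1 = 2 from rfl, Finset.sum_range_succ, Finset.sum_range_one, e0, e1, a1, a1]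
    simp [Nat.even_iff, e1]
  have b1 : unitNum q 2 1 = 0 := by
    rw [hstep, show 1 / (1 + 2) + 1 = 1 from rfl, Finset.sum_range_one, e0, a1]
    simp [Nat.even_iff]
  have c4 : unitNum q 3 4 = (q + 1) * (q + 1) := by
    rw [hstep, show 4 / (2 + 2) + 1 = 2 from rfl, Finset.sum_range_succ, Finset.sum_range_one, e0, e1, z0,
      show 4 - (2 + 2) * 0 = 4 from rfl, b4]
    ring
  have c5 : unitNum q 3 5 = (q + 1) * (q + 1) := by
    rw [hstep, show 5 / (2 + 2) + 1 = 2 from rfl, Finset.sum_range_succ, Finset.sum_range_one, e0, e1,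
      show 5 - (2 + 2) * 0 = 5 from rfl, show 5 - (2 + 2) * 1 = 1 from rfl, b5, b1]
    ring
  refine ⟨b3, c4, ?_⟩
  rw [hstep, show 5 / (3 + 2) + 1 = 2 from rfl, Finset.sum_range_succ, Finset.sum_range_one, e0, e1, z0,
    show 5 - (3 + 2) * 0 = 5 from rfl, c5]
  ring

/-- The numeric bound behind the class number of special unitary groups. -/
theorem unit_count_bound {q n : ℕ} (hq : 2 ≤ q) (hn : 3 ≤ n) :
    100 * ((∑ t ∈ Finset.range n, q ^ t * unitNum q (n - 1) (n - 1 - t)) + (q + 1) * unitNum q (n - 1) n) ≤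
      826 * q ^ (n - 1) := by
  obtain ⟨m, rfl⟩ : ∃ m, n = m + 1 := ⟨n - 1, by omega⟩
  rw [Nat.add_sub_cancel]
  have hqR : (2 : ℝ) ≤ q := by exact_mod_cast hq
  have hA : ((∑ t ∈ Finset.range (m + 1), q ^ t * unitNum q m (m - t) : ℕ) : ℝ) ≤
      unitProd 2 (1 / q) m * (q : ℝ) ^ m := by
    rw [← Finset.sum_range_reflect]
    push_cast
    refine le_trans (le_of_eq ?_) (mul_le_mul_of_nonneg_right (unitNum_eval hq m (m + 1)) (by positivity))
    rw [Finset.sum_mul]
    refine Finset.sum_congr rfl fun r hr => ?_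
    rw [Finset.mem_range] at hr
    rw [show m - (m - r) = r by omega,
      show (q : ℝ) ^ m = (q : ℝ) ^ (m - r) * (q : ℝ) ^ r by rw [← pow_add, Nat.sub_add_cancel (by omega)], div_pow,
      one_pow]
    field_simp
  rcases Nat.lt_or_ge q 3 with hq2 | hq3
  · obtain rfl : q = 2 := by omega
    rcases Nat.lt_or_ge (m + 1) 17 with hsmall | hbig
    · simpa using unit_count_two (m + 1) hsmall hn
    obtain ⟨K, rfl⟩ : ∃ K, m = K + 1 := ⟨m - 1, by omega⟩
    have hB := unitNum_le (q := 2) le_rfl K (K + 1 + 1)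
    have hs : 1 / Real.sqrt ((2 : ℕ) : ℝ) ≤ 71 / 100 := by
      rw [div_le_iff₀ (Real.sqrt_pos.2 (by norm_num))]
      have : (100 : ℝ) / 71 ≤ Real.sqrt ((2 : ℕ) : ℝ) := Real.le_sqrt_of_sq_le (by norm_num)
      linarith
    have h3 := (unitProd_mono (a := 3) (by positivity) hs (by norm_num) K).trans (unitProd_three_two K)
    have h2 : unitProd 2 (1 / ((2 : ℕ) : ℝ)) (K + 1) ≤ 553 / 100 := by
      norm_num only [Nat.cast_ofNat]; exact unitProd_half _
    push_cast at hA hB h2 h3 ⊢
    have hpow : Real.sqrt 2 ^ (K + 1 + 1) * 362 ≤ 2 ^ (K + 1 + 1) := by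
      have h17 : (362 : ℝ) ≤ Real.sqrt 2 ^ 17 := by
        rw [show Real.sqrt 2 ^ 17 = (Real.sqrt 2 ^ 2) ^ 8 * Real.sqrt 2 by ring, Real.sq_sqrt (by norm_num)]
        have : (1415 : ℝ) / 1000 ≤ Real.sqrt 2 ∨ (1414 : ℝ) / 1000 + 1 / 5000 ≤ Real.sqrt 2 :=
          Or.inr (Real.le_sqrt_of_sq_le (by norm_num))
        rcases this with h | h <;> nlinarith
      calc Real.sqrt 2 ^ (K + 1 + 1) * 362 ≤ Real.sqrt 2 ^ (K + 1 + 1) * Real.sqrt 2 ^ (K + 1 + 1) :=
            mul_le_mul_of_nonneg_left (h17.trans (pow_le_pow_right₀ (Real.one_le_sqrt.2 (by norm_num)) (by omega)))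
              (by positivity)
        _ = 2 ^ (K + 1 + 1) := by rw [← mul_pow, Real.mul_self_sqrt (by norm_num)]
    have hkey : ((100 * ((∑ t ∈ Finset.range (K + 1 + 1), 2 ^ t * unitNum 2 (K + 1) (K + 1 - t)) +
        (2 + 1) * unitNum 2 (K + 1) (K + 1 + 1)) : ℕ) : ℝ) ≤ ((826 * 2 ^ (K + 1) : ℕ) : ℝ) := by
      push_cast
      have hA' := hA.trans (mul_le_mul_of_nonneg_right h2 (by positivity))
      have hB' := hB.trans (mul_le_mul_of_nonneg_left h3 (by positivity))
      rw [pow_succ (2 : ℝ) (K + 1)] at hpow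
      have hp : (0 : ℝ) ≤ 2 ^ (K + 1) := by positivity
      nlinarith
    exact_mod_cast hkey
  · have hq3' : (3 : ℝ) ≤ q := by exact_mod_cast hq3
    have hx : (1 / q : ℝ) ≤ 1 / 3 := one_div_le_one_div_of_le (by norm_num) hq3'
    have hA' := hA.trans (mul_le_mul_of_nonneg_right
      ((unitProd_mono (a := 2) (by positivity) hx (by norm_num) m).trans (unitProd_third m)) (by positivity))
    have hkey : ((100 * ((∑ t ∈ Finset.range (m + 1), q ^ t * unitNum q m (m - t)) +
        (q + 1) * unitNum q m (m + 1)) : ℕ) : ℝ) ≤ ((826 * q ^ m : ℕ) : ℝ) := by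
      push_cast at hA' ⊢
      rcases Nat.lt_or_ge m 5 with hm | hm
      · have hB : ((q : ℝ) + 1) * (unitNum q m (m + 1) : ℝ) ≤ 6 * (q : ℝ) ^ m := by
          obtain ⟨h3, h4, h5⟩ := unitNum_small q
          obtain rfl | rfl | rfl : m = 2 ∨ m = 3 ∨ m = 4 := by omega
          · rw [h3]; push_cast; nlinarith
          · rw [h4]; push_cast; nlinarith [mul_nonneg (sub_nonneg.2 hq3') (sq_nonneg (q : ℝ))]
          · rw [h5]; push_cast
            nlinarith [mul_nonneg (sub_nonneg.2 hq3') (sq_nonneg (q : ℝ)),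
              mul_nonneg (mul_nonneg (sub_nonneg.2 hq3') (sq_nonneg (q : ℝ))) (show (0 : ℝ) ≤ q by linarith)]
        nlinarith [pow_nonneg (show (0 : ℝ) ≤ q by linarith) m]
      · obtain ⟨K, rfl⟩ : ∃ K, m = K + 1 := ⟨m - 1, by omega⟩
        have hB := unitNum_le hq K (K + 1 + 1)
        have hs : 1 / Real.sqrt q ≤ 29 / 50 := by
          rw [div_le_iff₀ (Real.sqrt_pos.2 (by linarith))]
          have : (50 : ℝ) / 29 ≤ Real.sqrt q := Real.le_sqrt_of_sq_le (by norm_num; linarith)
          linarith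
        have h3 := (unitProd_mono (a := 3) (by positivity) hs (by norm_num) K).trans (unitProd_three_small K)
        have hB' := hB.trans (mul_le_mul_of_nonneg_left h3 (by positivity))
        have hpow : Real.sqrt q ^ (K + 1 + 1) * (q : ℝ) ^ 2 ≤ (q : ℝ) ^ (K + 1) := by
          have : (q : ℝ) ^ 2 = Real.sqrt q ^ 4 := by
            rw [show Real.sqrt q ^ 4 = (Real.sqrt q ^ 2) ^ 2 by ring, Real.sq_sqrt (by linarith)]
          rw [this, show (q : ℝ) ^ (K + 1) = Real.sqrt q ^ (2 * (K + 1)) by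
            rw [pow_mul, Real.sq_sqrt (by linarith)], ← pow_add]
          exact pow_le_pow_right₀ (Real.one_le_sqrt.2 (by linarith)) (by omega)
        have hcq : ((q : ℝ) + 1) * ((1 + 1 / q) * (92 / 10)) ≤ 6 * (q : ℝ) ^ 2 := by
          have : 1 + 1 / (q : ℝ) ≤ 4 / 3 := by linarith
          nlinarith [mul_le_mul_of_nonneg_left this (show (0 : ℝ) ≤ (q + 1) * (92 / 10) by positivity)]
        have hσ : 0 ≤ Real.sqrt q ^ (K + 1 + 1) := by positivity
        nlinarith [mul_le_mul_of_nonneg_left hcq hσ,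
          mul_le_mul_of_nonneg_left hB' (show (0 : ℝ) ≤ (q : ℝ) + 1 by positivity),
          pow_nonneg (show (0 : ℝ) ≤ q by linarith) (K + 1)]
    exact_mod_cast hkey

end Cfsg.Agent.Lib.ClassNumber
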