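import Cfsg.Agent.Lib.ClassNumber.Codes

/-!
Determinants of centralisers of unitary isometries.
-/

set_option autoImplicit false

namespace Cfsg.Agent.Lib.ClassNumber

open Polynomial Module
open scoped Classical Matrix

universe u v

variable {F : Type v} [Field F] {θ : F →+* F}

namespace IForm

variable {η : F} {V : Type u} [AddCommGroup V] [Module F V] (T : IForm θ η V)

/-- The Gram matrix of a family. -/
def sgram {ι : Type*} (b : ι → V) : Matrix ι ι F := Matrix.of fun i k => T.B (b i) (b k)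

theorem sgram_det_ne_zero {ι : Type*} [Fintype ι] [DecidableEq ι] (b : Basis ι F V) : (T.sgram b).det ≠ 0 := by
  intro h
  obtain ⟨c, hc0, hc⟩ := Matrix.exists_mulVec_eq_zero_iff.2 h
  apply hc0
  have hy : ∑ k, θ (c k) • b k = 0 := by
    refine T.nd _ fun x => ?_
    rw [← b.sum_repr x, T.sum_left]
    refine Finset.sum_eq_zero fun i _ => ?_
    rw [T.smul_left, T.sum_right]
    have : ∑ k, T.B (b i) (θ (c k) • b k) = 0 := by
      refine Eq.trans (Finset.sum_congr rfl fun k _ => ?_) (congrFun hc i)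
      rw [T.smul_right, T.inv, mul_comm]
      rfl
    rw [this, mul_zero]
  funext k
  exact (map_eq_zero θ).1 (Fintype.linearIndependent_iff.1 b.linearIndependent _ hy k)

/-- Determinants of adjoint pairs. -/
theorem det_adj [FiniteDimensional F V] {P Q : V →ₗ[F] V} (h : ∀ x y, T.B (P x) y = T.B x (Q y)) :
    LinearMap.det P = θ (LinearMap.det Q) := by
  let b := finBasis F V
  have hm : (LinearMap.toMatrix b b P)ᵀ * T.sgram b = T.sgram b * (LinearMap.toMatrix b b Q).map θ := by
    ext i k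
    have hP : P (b i) = ∑ l, LinearMap.toMatrix b b P l i • b l := by
      conv_lhs => rw [← b.sum_repr (P (b i))]
      simp [LinearMap.toMatrix_apply]
    have hQ : Q (b k) = ∑ l, LinearMap.toMatrix b b Q l k • b l := by
      conv_lhs => rw [← b.sum_repr (Q (b k))]
      simp [LinearMap.toMatrix_apply]
    have h' := h (b i) (b k)
    rw [hP, hQ, T.sum_left, T.sum_right] at h'
    simp only [T.smul_left, T.smul_right] at h'
    rw [Matrix.mul_apply, Matrix.mul_apply]
    simp only [Matrix.transpose_apply, sgram, Matrix.of_apply, Matrix.map_apply]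
    rw [h']
    exact Finset.sum_congr rfl fun l _ => mul_comm _ _
  have hd := congrArg Matrix.det hm
  rw [Matrix.det_mul, Matrix.det_mul, Matrix.det_transpose, LinearMap.det_toMatrix, mul_comm (T.sgram b).det] at hd
  rw [mul_right_cancel₀ (T.sgram_det_ne_zero b) hd, ← LinearMap.det_toMatrix b Q]
  exact (RingHom.map_det θ _).symm

/-- Isometries have determinants of norm one. -/
theorem det_isometry [FiniteDimensional F V] (e : V ≃ₗ[F] V) (he : ∀ x y, T.B (e x) (e y) = T.B x y) :
    LinearMap.det e.toLinearMap * θ (LinearMap.det e.toLinearMap) = 1 := by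
  have h : LinearMap.det e.toLinearMap = θ (LinearMap.det e.symm.toLinearMap) :=
    T.det_adj fun x y => by
      conv_lhs => rw [← e.apply_symm_apply y]
      exact he x _
  conv_lhs => arg 1; rw [h]
  rw [← map_mul, ← LinearMap.det_comp, LinearEquiv.symm_comp, LinearMap.det_id, map_one]

/-- Gluing isometries of orthogonal summands. -/
theorem exists_glue [FiniteDimensional F V] {U : Submodule F V} (hU : ∀ x ∈ U, T.A x ∈ U)
    (hnd : ∀ y ∈ U, (∀ x ∈ U, T.B x y = 0) → y = 0)
    (e : U ≃ₗ[F] U) (he : ∀ x y, (T.restrict U hU hnd).B (e x) (e y) = (T.restrict U hU hnd).B x y)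
    (heA : ∀ x, e ((T.restrict U hU hnd).A x) = (T.restrict U hU hnd).A (e x))
    (f : T.orth U ≃ₗ[F] T.orth U)
    (hf : ∀ x y, (T.restrict (T.orth U) (T.orth_invariant hU) (T.orth_nd hnd)).B (f x) (f y) =
      (T.restrict (T.orth U) (T.orth_invariant hU) (T.orth_nd hnd)).B x y)
    (hfA : ∀ x, f ((T.restrict (T.orth U) (T.orth_invariant hU) (T.orth_nd hnd)).A x) =
      (T.restrict (T.orth U) (T.orth_invariant hU) (T.orth_nd hnd)).A (f x)) :
    ∃ g : V ≃ₗ[F] V, (∀ x y, T.B (g x) (g y) = T.B x y) ∧ (∀ x, g (T.A x) = T.A (g x)) ∧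
      LinearMap.det g.toLinearMap = LinearMap.det e.toLinearMap * LinearMap.det f.toLinearMap := by
  let P := Submodule.prodEquivOfIsCompl _ _ (T.isCompl_orth hnd)
  refine ⟨P.symm.trans ((e.prodCongr f).trans P), fun x y => ?_, fun x => ?_, ?_⟩
  · obtain ⟨⟨a, b⟩, rfl⟩ := P.surjective x
    obtain ⟨⟨c, d⟩, rfl⟩ := P.surjective y
    simp only [LinearEquiv.trans_apply, LinearEquiv.symm_apply_apply, LinearEquiv.prodCongr_apply]
    show T.B ((e a : V) + (f b : V)) ((e c : V) + (f d : V)) = T.B ((a : V) + (b : V)) ((c : V) + (d : V))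
    simp only [T.add_left, T.add_right]
    rw [(f b).2 _ (e c).2, T.eq_zero_comm ((f d).2 _ (e a).2), b.2 _ c.2, T.eq_zero_comm (d.2 _ a.2)]
    congr 1
    · congr 1
      exact he a c
    · congr 1
      exact hf b d
  · obtain ⟨⟨a, b⟩, rfl⟩ := P.surjective x
    have hA : T.A (P (a, b)) = P ((T.restrict U hU hnd).A a,
        (T.restrict (T.orth U) (T.orth_invariant hU) (T.orth_nd hnd)).A b) :=
      (map_add T.A (a : V) (b : V)).trans (show T.A (a : V) + T.A (b : V) = _ from rfl)
    rw [hA]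
    simp only [LinearEquiv.trans_apply, LinearEquiv.symm_apply_apply, LinearEquiv.prodCongr_apply, heA, hfA]
    exact ((map_add T.A (e a : V) (f b : V)).trans (show T.A (e a : V) + T.A (f b : V) = _ from rfl)).symm
  · rw [show (P.symm.trans ((e.prodCongr f).trans P)).toLinearMap =
      P.toLinearMap ∘ₗ (e.toLinearMap.prodMap f.toLinearMap) ∘ₗ P.symm.toLinearMap from LinearMap.ext fun x => rfl,
      LinearMap.det_conj, LinearMap.det_prodMap]

end IForm

/-- Multiplication on `F[X] / (m)`. -/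
noncomputable def mulQ (m w : F[X]) : (F[X] ⧸ Ideal.span {m}) →ₗ[F] (F[X] ⧸ Ideal.span {m}) :=
  (LinearMap.lsmul F[X] (F[X] ⧸ Ideal.span {m}) w).restrictScalars F

theorem mulQ_eq_one {m w : F[X]} (h : m ∣ w - 1) : mulQ m w = LinearMap.id := by
  refine LinearMap.ext fun x => ?_
  obtain ⟨p, rfl⟩ := Ideal.Quotient.mk_surjective x
  show Ideal.Quotient.mk _ (w * p) = Ideal.Quotient.mk _ p
  rw [Ideal.Quotient.eq, Ideal.mem_span_singleton, ← sub_one_mul]
  exact dvd_mul_of_dvd_left h p

theorem mulQ_congr {m w w' : F[X]} (h : m ∣ w - w') : mulQ m w = mulQ m w' := by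
  refine LinearMap.ext fun x => ?_
  obtain ⟨p, rfl⟩ := Ideal.Quotient.mk_surjective x
  show Ideal.Quotient.mk _ (w * p) = Ideal.Quotient.mk _ (w' * p)
  rw [Ideal.Quotient.eq, Ideal.mem_span_singleton, ← sub_mul]
  exact dvd_mul_of_dvd_left h p

theorem exists_mulQ_det [Finite F] {m : F[X]} (hm : m.Monic) (hi : Irreducible m) (c : F) :
    ∃ w, LinearMap.det (mulQ m w) = c := by
  haveI : Fact (Irreducible m) := ⟨hi⟩
  haveI : Module.Finite F (AdjoinRoot m) := hm.finite_adjoinRoot
  haveI : Finite (AdjoinRoot m) := Module.finite_of_finite F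
  obtain ⟨x, hx⟩ := FiniteField.norm_surjective F (AdjoinRoot m) c
  obtain ⟨w, rfl⟩ := AdjoinRoot.mk_surjective x
  refine ⟨w, ?_⟩
  rw [← hx, Algebra.norm_apply]
  rfl

/-- An element with norm-one quotient. -/
theorem exists_div_eq (hθ : ∀ a, θ (θ a) = a) (hne : ∃ a, θ a ≠ a) {ζ : F} (hζ : ζ * θ ζ = 1) :
    ∃ c, c ≠ 0 ∧ c / θ c = ζ := by
  rcases eq_or_ne ζ (-1) with h | h
  · obtain ⟨a, ha⟩ := hne
    refine ⟨a - θ a, sub_ne_zero.2 (Ne.symm ha), ?_⟩
    rw [map_sub, hθ, h, ← neg_sub (θ a) a, neg_div, div_self (sub_ne_zero.2 ha)]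
  · have hc : 1 + ζ ≠ 0 := fun e => h (eq_neg_of_add_eq_zero_right e)
    refine ⟨1 + ζ, hc, ?_⟩
    rw [div_eq_iff ((map_ne_zero θ).2 hc), map_add, map_one, mul_add, mul_one, hζ, add_comm]

section Unit

variable {V : Type u} [AddCommGroup V] [Module F V] [FiniteDimensional F V]

/-- A unitary element from an adjoint pair. -/
theorem exists_isometry_det (T : IForm θ (1 : F) V) {W Wad : V →ₗ[F] V}
    (hadj : ∀ x y, T.B (W x) y = T.B x (Wad y)) (hcomm : ∀ x, W (Wad x) = Wad (W x))
    (hWA : ∀ x, W (T.A x) = T.A (W x)) (hWadA : ∀ x, Wad (T.A x) = T.A (Wad x)) (hc : LinearMap.det W ≠ 0) :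
    ∃ e : V ≃ₗ[F] V, (∀ x y, T.B (e x) (e y) = T.B x y) ∧ (∀ x, e (T.A x) = T.A (e x)) ∧
      LinearMap.det e.toLinearMap = LinearMap.det W / θ (LinearMap.det W) := by
  have hd : θ (LinearMap.det W) = LinearMap.det Wad := by rw [T.det_adj hadj, T.inv]
  have hc' : LinearMap.det Wad ≠ 0 := by rw [← hd]; exact (map_ne_zero θ).2 hc
  let eW : V ≃ₗ[F] V := LinearEquiv.ofIsUnitDet (f := W) (v := finBasis F V) (v' := finBasis F V)
    (by rw [LinearMap.det_toMatrix]; exact isUnit_iff_ne_zero.2 hc)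
  let eU : V ≃ₗ[F] V := LinearEquiv.ofIsUnitDet (f := Wad) (v := finBasis F V) (v' := finBasis F V)
    (by rw [LinearMap.det_toMatrix]; exact isUnit_iff_ne_zero.2 hc')
  have eWa : ∀ x, eW x = W x := fun x => rfl
  have eUa : ∀ x, eU x = Wad x := fun x => rfl
  have hadj' : ∀ x y, T.B (Wad x) y = T.B x (W y) := fun x y => by
    rw [T.symm x (W y), hadj, ← T.symm]
  refine ⟨eU.symm.trans eW, fun x y => ?_, fun x => ?_, ?_⟩
  · obtain ⟨a, rfl⟩ := eU.surjective x
    obtain ⟨b, rfl⟩ := eU.surjective y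
    simp only [LinearEquiv.trans_apply, LinearEquiv.symm_apply_apply]
    rw [eWa, eWa, eUa, eUa, hadj, hadj', hcomm]
  · obtain ⟨a, rfl⟩ := eU.surjective x
    have : T.A (eU a) = eU (T.A a) := by rw [eUa, eUa, hWadA]
    rw [this]
    simp only [LinearEquiv.trans_apply, LinearEquiv.symm_apply_apply]
    rw [eWa, eWa, hWA]
  · rw [show (eU.symm.trans eW).toLinearMap = W ∘ₗ eU.symm.toLinearMap from LinearMap.ext fun x => rfl,
      LinearMap.det_comp, hd, eq_div_iff hc', mul_assoc, show Wad = eU.toLinearMap from LinearMap.ext fun x => rfl,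
      ← LinearMap.det_comp, LinearEquiv.symm_comp, LinearMap.det_id, mul_one]

variable {T : IForm θ (1 : F) V} {ι : Type} [Fintype ι]

/-- Operators on a piece as multiplications. -/
theorem op_piece_conj {D : PData θ ι} {v : ι → V} (h : D.Gens T v) (w : F[X]) :
    (PData.pieceForm h).op w = (PData.modelEquiv h).toLinearMap ∘ₗ
      (LinearMap.pi fun i => (mulQ (D.r i ^ D.j) w).comp (LinearMap.proj i)) ∘ₗ
      (PData.modelEquiv h).symm.toLinearMap := by
  refine LinearMap.ext fun x => ?_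
  obtain ⟨z, rfl⟩ := (PData.modelEquiv h).surjective x
  obtain ⟨a, rfl⟩ := PData.modelMap_surjective D z
  simp only [LinearMap.comp_apply, LinearEquiv.coe_coe, LinearEquiv.symm_apply_apply]
  apply Subtype.ext
  rw [show ((PData.pieceForm h).op w (PData.modelEquiv h (PData.modelMap D a)) : V) =
    T.op w (PData.modelEquiv h (PData.modelMap D a) : V) from T.restrict_op _ _ _ _,
    PData.modelEquiv_apply, PData.op_span, ← PData.modelEquiv_apply h]
  congr 2

/-- A piece of exponent one has centralising isometries of any determinant. -/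
theorem piece_det {D : PData θ ι} {v : ι → V} (h : D.Gens T v) {w : F[X]}
    (hc : LinearMap.det ((PData.pieceForm h).op w) ≠ 0) :
    ∃ e : PData.sub T v ≃ₗ[F] PData.sub T v,
      (∀ x y, (PData.pieceForm h).B (e x) (e y) = (PData.pieceForm h).B x y) ∧
      (∀ x, e ((PData.pieceForm h).A x) = (PData.pieceForm h).A (e x)) ∧
      LinearMap.det e.toLinearMap =
        LinearMap.det ((PData.pieceForm h).op w) / θ (LinearMap.det ((PData.pieceForm h).op w)) := by
  set R := PData.pieceForm h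
  refine exists_isometry_det R (W := R.op w) (Wad := R.op (IForm.bar θ D.Xi w)) (fun x y => ?_)
    (fun x => R.op_comm_apply _ _ x) (fun x => ?_) (fun x => ?_) hc
  · refine R.adj_bar D.hXi w x ?_
    obtain ⟨y, ⟨a, rfl⟩⟩ := y
    exact Subtype.ext ((T.restrict_op _ _ _ _).trans (PData.kill_span h.kill a))
  · rw [← R.op_X_apply, R.op_comm_apply, R.op_X_apply]
  · rw [← R.op_X_apply, R.op_comm_apply, R.op_X_apply]

end Unit

theorem det_pi_bool (M : Bool → Type*) [∀ i, AddCommGroup (M i)] [∀ i, Module F (M i)]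
    [∀ i, FiniteDimensional F (M i)] (f : ∀ i, M i →ₗ[F] M i) :
    LinearMap.det (LinearMap.pi fun i => (f i).comp (LinearMap.proj i)) =
      LinearMap.det (f false) * LinearMap.det (f true) := by
  let e : (∀ i, M i) ≃ₗ[F] M false × M true :=
    { toFun := fun x => (x false, x true)
      map_add' := fun _ _ => rfl
      map_smul' := fun _ _ => rfl
      invFun := fun p i => match i with
        | false => p.1
        | true => p.2
      left_inv := fun x => funext fun i => by cases i <;> rfl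
      right_inv := fun p => rfl }
  rw [← LinearMap.det_prodMap, ← LinearMap.det_conj (LinearMap.pi fun i => (f i).comp (LinearMap.proj i)) e]
  congr 1

theorem det_pi_unit (M : Unit → Type*) [∀ i, AddCommGroup (M i)] [∀ i, Module F (M i)]
    (f : ∀ i, M i →ₗ[F] M i) :
    LinearMap.det (LinearMap.pi fun i => (f i).comp (LinearMap.proj i)) = LinearMap.det (f ()) := by
  let e : (∀ i, M i) ≃ₗ[F] M () :=
    { toFun := fun x => x ()
      map_add' := fun _ _ => rfl
      map_smul' := fun _ _ => rfl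
      invFun := fun p _ => p
      left_inv := fun x => rfl
      right_inv := fun p => rfl }
  rw [← LinearMap.det_conj (LinearMap.pi fun i => (f i).comp (LinearMap.proj i)) e]
  rfl

/-- With a block of exponent one, centralisers attain all determinants of norm one. -/
theorem exists_centraliser_det [Finite F] (hθ : ∀ a, θ (θ a) = a) (hne : ∃ a, θ a ≠ a)
    (hz : ∃ z : F, z + θ z = 1) :
    ∀ μ : Multiset (F[X] × ℕ), Good μ → ∀ T : Trip.{u} θ (1 : F), Typed T.form μ → (∃ x ∈ μ, x.2 = 1) →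
      ∀ c : F, c ≠ 0 → ∃ e : T.V ≃ₗ[F] T.V, (∀ x y, T.form.B (e x) (e y) = T.form.B x y) ∧
        (∀ x, e (T.form.A x) = T.form.A (e x)) ∧ LinearMap.det e.toLinearMap = c / θ c := by
  intro μ
  induction hn : Multiset.card μ using Nat.strong_induction_on generalizing μ with
  | _ n ih =>
  intro hg T hT hone c hc
  obtain ⟨x₁, hx₁, hx₁1⟩ := hone
  obtain ⟨⟨r, j⟩, hmem, hmax⟩ := Multiset.exists_max_image (fun x : F[X] × ℕ => x.2) (s := μ)
    (fun h => by rw [h] at hx₁; exact Multiset.notMem_zero _ hx₁)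
  replace hmax : ∀ x ∈ μ, x.2 ≤ j := hmax
  obtain ⟨hi, hm, h0, hj⟩ := hg _ hmem
  obtain ⟨hU, hB⟩ := exists_pdata hθ hi hm h0 hj
  have hnl : ∀ p, ¬ Lin θ p := fun p h => hne.elim fun a ha => ha (h.1 a)
  have hmain : ∀ {ι : Type} [Fintype ι] (D : PData θ ι) (v : ι → T.V), D.Gens T.form v → D.j = j →
      (r, j) ∈ pieceBlocks D → (j = 1 → ∃ w : F[X], ∀ {v : ι → T.V} (h : D.Gens T.form v),
        LinearMap.det ((PData.pieceForm h).op w) = c) →
      ∃ e : T.V ≃ₗ[F] T.V, (∀ x y, T.form.B (e x) (e y) = T.form.B x y) ∧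
        (∀ x, e (T.form.A x) = T.form.A (e x)) ∧ LinearMap.det e.toLinearMap = c / θ c := by
    intro ι _ D v hv hDj hmem' hw
    rcases eq_or_ne j 1 with hj1 | hj1
    · obtain ⟨w, hw⟩ := hw hj1
      obtain ⟨e, he, heA, hdet⟩ := piece_det hv (w := w) (by rw [hw hv]; exact hc)
      obtain ⟨g, hgB, hgA, hgd⟩ := T.form.exists_glue (PData.sub_invariant v) (PData.sub_nd hv) e he heA
        (LinearEquiv.refl F _) (fun x y => rfl) (fun x => rfl)
      refine ⟨g, hgB, hgA, ?_⟩
      rw [hgd, hdet, hw hv, LinearEquiv.refl_toLinearMap, LinearMap.det_id, mul_one]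
    · have hlt : Multiset.card (μ - pieceBlocks D) < n := by
        rw [← hn]
        refine Multiset.card_lt_card (lt_of_le_of_ne (Multiset.sub_le_self _ _) fun e => ?_)
        have := congrArg (Multiset.count (r, j)) e
        rw [Multiset.count_sub] at this
        have := Multiset.count_pos.2 hmem
        have := Multiset.count_pos.2 hmem'
        omega
      have hx₁' : x₁ ∈ μ - pieceBlocks D := by
        rw [← Multiset.count_pos, Multiset.count_sub]
        have : (pieceBlocks D).count x₁ = 0 := by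
          rw [Multiset.count_eq_zero]
          intro hx
          obtain ⟨i, -, hi⟩ := Multiset.mem_map.1 hx
          exact hj1 (by rw [← hDj, ← hx₁1, ← hi])
        have := Multiset.count_pos.2 hx₁
        omega
      obtain ⟨f, hf, hfA, hfd⟩ := ih _ hlt (μ - pieceBlocks D) rfl (good_sub hg) (restTrip hv)
        (split hT (by rw [hDj]; exact hmax) hv).2 ⟨x₁, hx₁', hx₁1⟩ c hc
      obtain ⟨g, hgB, hgA, hgd⟩ := T.form.exists_glue (PData.sub_invariant v) (PData.sub_nd hv)
        (LinearEquiv.refl F _) (fun x y => rfl) (fun x => rfl) f hf hfA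
      refine ⟨g, hgB, hgA, ?_⟩
      rw [hgd, LinearEquiv.refl_toLinearMap, LinearMap.det_id, one_mul]
      exact hfd
  by_cases hs : srp θ r = r
  · obtain ⟨D, hDj, hDr, hDf⟩ := hU hs
    obtain ⟨v, hv⟩ := gens_cyclic hz hg hT hmem hmax D hDj hDr hDf ⟨hs, fun h => absurd h (hnl _)⟩
    refine hmain D v hv hDj (Multiset.mem_map.2 ⟨(), Finset.mem_univ (α := Unit) (), by rw [hDr, hDj]⟩) fun hj1 => ?_
    have hmi : (D.r () ^ D.j).Monic ∧ Irreducible (D.r () ^ D.j) := by
      rw [hDj, hj1, pow_one]; exact ⟨D.r_monic (), D.r_irr ()⟩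
    obtain ⟨w, hw⟩ := exists_mulQ_det hmi.1 hmi.2 c
    refine ⟨w, fun {v} h => ?_⟩
    rw [op_piece_conj, LinearMap.det_conj, det_pi_unit (fun i => F[X] ⧸ Ideal.span {D.r i ^ D.j})]
    exact hw
  · obtain ⟨D, hDj, hπ, h1, h2, hf1, hf2⟩ := hB
    have hcy : ¬ Cyclic θ (1 : F) (r, j) := fun h => hs h.1
    obtain ⟨v, hv⟩ := gens_pair hg hT hmem hmax D hDj hπ h1 h2 hf1 hf2 hcy
    refine hmain D v hv hDj (Multiset.mem_map.2 ⟨false, Finset.mem_univ (α := Bool) false, by rw [h1, hDj]⟩)
      fun hj1 => ?_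
    have hpow : ∀ i, D.r i ^ D.j = D.r i := fun i => by rw [hDj, hj1, pow_one]
    obtain ⟨w₀, hw₀⟩ := exists_mulQ_det (m := D.r false ^ D.j) (by rw [hpow]; exact D.r_monic _)
      (by rw [hpow]; exact D.r_irr _) c
    have hcop : IsCoprime (D.r false ^ D.j) (D.r true ^ D.j) := by
      rw [hpow, hpow, (D.r_irr false).coprime_iff_not_dvd, h1, h2]
      intro hd
      exact hs (eq_of_monic_of_associated hm (srp_monic h0) (hi.associated_of_dvd (srp_irreducible hθ hm hi h0) hd)).symm
    obtain ⟨a, b, hab⟩ := hcop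
    set w := w₀ * (b * D.r true ^ D.j) + a * D.r false ^ D.j
    have hwf : D.r false ^ D.j ∣ w - w₀ := ⟨a - w₀ * a, by simp only [w]; linear_combination w₀ * hab⟩
    have hwt : D.r true ^ D.j ∣ w - 1 := ⟨w₀ * b - b, by simp only [w]; linear_combination hab⟩
    refine ⟨w, fun {v} h => ?_⟩
    haveI : ∀ i : Bool, FiniteDimensional F (F[X] ⧸ Ideal.span {D.r i ^ D.j}) := fun i =>
      Cfsg.Agent.Lib.Similarity.finite_quot ((D.r_monic i).pow _)
    rw [op_piece_conj, LinearMap.det_conj, det_pi_bool (fun i => F[X] ⧸ Ideal.span {D.r i ^ D.j}),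
      mulQ_congr hwf, mulQ_eq_one hwt, LinearMap.det_id, mul_one, hw₀]

end Cfsg.Agent.Lib.ClassNumber
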