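import Cfsg.Agent.Lib.ClassNumber.UnitCodes
import Cfsg.Agent.Lib.ClassNumber.UnitDet
import Cfsg.Agent.Lib.Forms.Bridge

/-!
Class number bounds for special unitary groups.
-/

set_option autoImplicit false

namespace Cfsg.Agent.Lib.ClassNumber

open Polynomial Module Matrix Cfsg.Agent.Lib.GLClasses
open scoped Classical Matrix

section SelfAdjoint

variable {F : Type*} [Field F] [Fintype F]

/-- A self-adjoint matrix with given characteristic polynomial. -/
theorem exists_selfadjoint {n : ℕ} {f : F[X]} (hf : f.Monic) (hd : f.natDegree = n) :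
    ∃ S M : Matrix (Fin n) (Fin n) F, Sᵀ = S ∧ S.det ≠ 0 ∧ (S * M)ᵀ = S * M ∧ M.charpoly = f := by
  classical
  let pb := AdjoinRoot.powerBasis hf.ne_zero
  have hdim : pb.dim = n := (AdjoinRoot.powerBasis_dim hf.ne_zero).trans hd
  rcases Nat.eq_zero_or_pos n with rfl | hn
  · refine ⟨1, 0, Matrix.transpose_one, by simp, by simp, ?_⟩
    rw [hf.natDegree_eq_zero.1 hd]
    simp [Matrix.charpoly]
  let b := pb.basis.reindex (finCongr hdim)
  set M := Algebra.leftMulMatrix b (AdjoinRoot.root f) with hM
  have hc : M.charpoly = f := by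
    have e : M = Matrix.reindex (finCongr hdim) (finCongr hdim) (Algebra.leftMulMatrix pb.basis pb.gen) := by
      ext i j
      simp [hM, b, Algebra.leftMulMatrix_eq_repr_mul, pb, AdjoinRoot.powerBasis_gen]
    rw [e, Matrix.charpoly_reindex, charpoly_leftMulMatrix, AdjoinRoot.minpoly_powerBasis_gen_of_monic hf]
  let τ : AdjoinRoot f →ₗ[F] F := b.coord ⟨n - 1, by omega⟩
  let S₀ : Matrix (Fin n) (Fin n) F := Matrix.of fun i k => τ (b i * b k)
  have hS₀ : S₀ᵀ = S₀ := by ext i k; simp [S₀, mul_comm]
  have hSM : ∀ i k, (S₀ * M) i k = τ (b i * (AdjoinRoot.root f * b k)) := by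
    intro i k
    conv_rhs => rw [← b.sum_repr (AdjoinRoot.root f * b k), Finset.mul_sum, map_sum]
    rw [Matrix.mul_apply]
    refine Finset.sum_congr rfl fun l _ => ?_
    rw [mul_smul_comm, map_smul, hM, Algebra.leftMulMatrix_eq_repr_mul, smul_eq_mul, mul_comm]
    rfl
  have hT : (S₀ * M)ᵀ = S₀ * M := by
    ext i k
    rw [Matrix.transpose_apply, hSM, hSM]
    congr 1
    ring
  have hnd : ∀ x : AdjoinRoot f, (∀ k, τ (x * b k) = 0) → x = 0 := by
    intro x hx
    have h1 : ∀ y, τ (x * y) = 0 := fun y => by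
      rw [← b.sum_repr y, Finset.mul_sum, map_sum]
      exact Finset.sum_eq_zero fun k _ => by rw [mul_smul_comm, map_smul, hx, smul_zero]
    by_contra hx0
    have hex : ∃ k : Fin n, b.repr x k ≠ 0 := by
      by_contra h
      simp only [not_exists, ne_eq, not_not] at h
      exact hx0 (b.ext_elem fun k => by rw [h, map_zero]; rfl)
    set s := Finset.univ.filter fun k : Fin n => b.repr x k ≠ 0
    have hs : s.Nonempty := by
      obtain ⟨k, hk⟩ := hex
      exact ⟨k, Finset.mem_filter.2 ⟨Finset.mem_univ _, hk⟩⟩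
    set t := s.max' hs
    have ht : b.repr x t ≠ 0 := (Finset.mem_filter.1 (s.max'_mem hs)).2
    apply ht
    have hb : ∀ l : Fin n, b l = AdjoinRoot.root f ^ (l : ℕ) := fun l => by
      simp [b, pb, AdjoinRoot.powerBasis_gen]
    have h2 := h1 (AdjoinRoot.root f ^ (n - 1 - (t : ℕ)))
    rw [← b.sum_repr x, Finset.sum_mul, map_sum, Finset.sum_eq_single t] at h2
    · rw [smul_mul_assoc, map_smul, hb, ← pow_add, show (t : ℕ) + (n - 1 - t) = n - 1 by omega,
        show AdjoinRoot.root f ^ (n - 1) = b ⟨n - 1, by omega⟩ from (hb ⟨n - 1, by omega⟩).symm] at h2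
      simpa [τ] using h2
    · intro l _ hl
      rw [smul_mul_assoc, map_smul]
      by_cases h0 : b.repr x l = 0
      · rw [h0, zero_smul]
      · have hlt : (l : ℕ) < t := lt_of_le_of_ne
          (s.le_max' l (Finset.mem_filter.2 ⟨Finset.mem_univ _, h0⟩)) (fun e => hl (Fin.ext e))
        rw [hb, ← pow_add, show AdjoinRoot.root f ^ ((l : ℕ) + (n - 1 - t)) =
          b ⟨(l : ℕ) + (n - 1 - t), by omega⟩ from (hb ⟨(l : ℕ) + (n - 1 - t), by omega⟩).symm]
        simp [τ, show (l : ℕ) + (n - 1 - t) ≠ n - 1 by omega]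
    · simp
  have hdet : IsUnit S₀.det := by
    rw [← Matrix.isUnit_iff_isUnit_det, ← Matrix.mulVec_injective_iff_isUnit]
    intro u v huv
    have : ∑ k, (u k - v k) • b k = 0 := by
      refine hnd _ fun i => ?_
      rw [Finset.sum_mul, map_sum]
      have h := congrFun huv i
      simp only [Matrix.mulVec, dotProduct, S₀, Matrix.of_apply] at h
      calc ∑ k, τ ((u k - v k) • b k * b i) = ∑ k, (τ (b i * b k) * u k - τ (b i * b k) * v k) :=
            Finset.sum_congr rfl fun k _ => by
              rw [smul_mul_assoc, map_smul, smul_eq_mul, mul_comm (b k) (b i)]; ring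
        _ = 0 := by rw [Finset.sum_sub_distrib, h, sub_self]
    funext k
    exact sub_eq_zero.1 (Fintype.linearIndependent_iff.1 b.linearIndependent _ this k)
  exact ⟨S₀, M, hS₀, hdet.ne_zero, hT, hc⟩

end SelfAdjoint

section Basic

variable {F : Type*} [Field F] [Fintype F] {θ : F →+* F}

omit [Fintype F] in
theorem weight_unit (hne : ∃ a, θ a ≠ a) (μ : Multiset (F[X] × ℕ)) : weight θ (1 : F) μ = 1 := by
  rw [weight, Finset.filter_false_of_mem fun x _ hs => hne.elim fun a ha => ha (hs.1.1 a), Finset.card_empty,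
    pow_zero]

/-- The form with trivial isometry. -/
noncomputable def sflat {V : Type*} [AddCommGroup V] [Module F V] (T : IForm θ (1 : F) V) : IForm θ (1 : F) V :=
  { T with A := LinearEquiv.refl F V, iso := fun _ _ => rfl }

omit [Fintype F] in
theorem typed_sflat {V : Type*} [AddCommGroup V] [Module F V] [FiniteDimensional F V] (T : IForm θ (1 : F) V) :
    Typed (sflat T) (Multiset.replicate (finrank F V) ((X - C 1 : F[X]), 1)) := by
  intro p hp hpm k
  have hop : (sflat T).op (p ^ k) = (p ^ k).eval 1 • (1 : Module.End F V) := by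
    show aeval (1 : Module.End F V) (p ^ k) = _
    conv_lhs => rw [← map_one (algebraMap F (Module.End F V))]
    rw [aeval_algebraMap_apply, coe_aeval_eq_eval, Algebra.algebraMap_eq_smul_one]
  rw [hop, kdim, Multiset.map_replicate, Multiset.sum_replicate, smul_eq_mul, eval_pow]
  by_cases he : p.eval 1 = 0
  · have hpe : X - C 1 = p := eq_of_monic_of_associated (monic_X_sub_C 1) hpm
      ((irreducible_X_sub_C 1).associated_of_dvd hp (dvd_iff_isRoot.2 he))
    rw [if_pos hpe, ← hpe, natDegree_X_sub_C, one_mul]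
    rcases k with _ | k
    · rw [pow_zero, one_smul, Module.End.one_eq_id, LinearMap.ker_id, finrank_bot, Nat.zero_min, mul_zero]
    · rw [hpe, he, zero_pow (Nat.succ_ne_zero k), zero_smul, LinearMap.ker_zero, finrank_top,
        Nat.min_eq_right (by omega), mul_one]
  · rw [if_neg (fun h : X - C 1 = p => he (by rw [← h, eval_sub, eval_X, eval_C, sub_self])), mul_zero,
      LinearMap.ker_smul _ _ (pow_ne_zero k he), Module.End.one_eq_id, LinearMap.ker_id, finrank_bot]

universe u

/-- Hermitian forms are classified by the dimension. -/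
theorem exists_isometry_unit (hθ : ∀ a, θ (θ a) = a) (hne : ∃ a, θ a ≠ a) (hz : ∃ z : F, z + θ z = 1)
    {V W : Type u} [AddCommGroup V] [Module F V] [FiniteDimensional F V] [AddCommGroup W] [Module F W]
    [FiniteDimensional F W] (T : IForm θ (1 : F) V) (S : IForm θ (1 : F) W)
    (hdim : finrank F V = finrank F W) : ∃ e : V ≃ₗ[F] W, ∀ x y, S.B (e x) (e y) = T.B x y := by
  set μ := Multiset.replicate (finrank F V) ((X - C 1 : F[X]), 1)
  have hgood : Good μ := fun x hx => by
    rw [Multiset.eq_of_mem_replicate hx]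
    exact ⟨irreducible_X_sub_C 1, monic_X_sub_C 1, by simp, le_rfl⟩
  obtain ⟨α, i, hcard, L, hL⟩ := exists_label.{u} (η := (1 : F)) hθ hz μ hgood
  rw [weight_unit hne] at hcard
  haveI : Subsingleton α := Fintype.card_le_one_iff_subsingleton.1 hcard
  have hS : Typed (sflat S) μ := by
    have := typed_sflat S
    rwa [← hdim] at this
  obtain ⟨e, he, -⟩ := hL { V := V, form := sflat T } { V := W, form := sflat S } (typed_sflat T) hS
    (Subsingleton.elim _ _)
  exact ⟨e, he⟩

end Basic

section Psi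

variable {F : Type*} [Field F]

/-- The polynomial of degree `n` attached to `g` by a Cayley transform. -/
noncomputable def cayleyPoly (c c' : F) (n : ℕ) (g : F[X]) : F[X] :=
  ∑ i ∈ Finset.range (n + 1), C (g.coeff i) * (C c' * X - C c) ^ i * (X - C 1) ^ (n - i)

theorem cayley_zero {c c' : F} (h : c' - c ≠ 0) : ∀ (n : ℕ) (p : ℕ → F),
    ∑ i ∈ Finset.range (n + 1), C (p i) * (C c' * X - C c) ^ i * (X - C 1) ^ (n - i) = (0 : F[X]) →
    ∀ i ≤ n, p i = 0 := by
  intro n
  induction n with
  | zero =>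
    intro p hp i hi
    obtain rfl : i = 0 := by omega
    simpa using hp
  | succ n ih =>
    intro p hp
    rw [Finset.sum_range_succ, Nat.sub_self, pow_zero, mul_one] at hp
    have h' : (∑ i ∈ Finset.range (n + 1), C (p i) * (C c' * X - C c) ^ i * (X - C 1) ^ (n + 1 - i)) =
        (X - C 1) * ∑ i ∈ Finset.range (n + 1), C (p i) * (C c' * X - C c) ^ i * (X - C 1) ^ (n - i) := by
      rw [Finset.mul_sum]
      refine Finset.sum_congr rfl fun i hi => ?_
      rw [Finset.mem_range] at hi
      rw [show n + 1 - i = n - i + 1 by omega, pow_succ]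
      ring
    rw [h'] at hp
    have h0 : p (n + 1) = 0 := by
      have h1 := congrArg (eval (1 : F)) hp
      simp only [eval_add, eval_mul, eval_sub, eval_X, eval_C, sub_self, zero_mul, zero_add, eval_pow, mul_one,
        eval_zero, mul_eq_zero] at h1
      exact h1.resolve_right (pow_ne_zero _ h)
    rw [h0, C_0, zero_mul, add_zero, mul_eq_zero, or_iff_right (X_sub_C_ne_zero 1)] at hp
    intro i hi
    rcases Nat.lt_or_ge i (n + 1) with h1 | h1
    · exact ih p hp i (by omega)
    · rwa [show i = n + 1 by omega]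

/-- The Cayley transform of a matrix. -/
theorem cayley_charpoly {d : ℕ} (M A' : Matrix (Fin d) (Fin d) F) (c c' : F)
    (hA : A' * (M - Matrix.scalar (Fin d) c') = M - Matrix.scalar (Fin d) c) :
    A'.charpoly * C (M.charpoly.eval c') = cayleyPoly c c' d M.charpoly := by
  set φ := algebraMap F[X] (RatFunc F)
  have hw : φ (X - C 1) ≠ 0 := fun h =>
    X_sub_C_ne_zero (1 : F) (IsFractionRing.injective F[X] (RatFunc F) (by rw [map_zero]; exact h))
  have hmul : A'.charmatrix * (M - Matrix.scalar (Fin d) c').map (C : F →+* F[X]) =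
      (X - C (1 : F)) • M.map (C : F →+* F[X]) - (C c' * X - C c) • (1 : Matrix (Fin d) (Fin d) F[X]) := by
    have hs : ∀ a : F, (Matrix.scalar (Fin d) a).map (C : F →+* F[X]) = C a • (1 : Matrix (Fin d) (Fin d) F[X]) := fun a => by
      ext i j; simp [Matrix.scalar_apply, Matrix.diagonal_apply, Matrix.one_apply, apply_ite C]
    rw [Matrix.charmatrix, RingHom.mapMatrix_apply, sub_mul, ← Matrix.map_mul, hA,
      Matrix.scalar_apply, ← Matrix.smul_one_eq_diagonal]
    simp only [Matrix.map_sub _ (fun a b => map_sub (C : F →+* F[X]) a b), hs, smul_mul_assoc, one_mul, smul_sub, smul_smul,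
      sub_smul, C_1, one_smul, mul_comm (X : F[X]) (C c')]
    abel
  have hdet := congrArg Matrix.det hmul
  rw [Matrix.det_mul] at hdet
  apply IsFractionRing.injective F[X] (RatFunc F)
  set y : RatFunc F := φ (C c' * X - C c) / φ (X - C 1)
  have hm : ((X - C (1 : F)) • M.map (C : F →+* F[X]) - (C c' * X - C c) • (1 : Matrix (Fin d) (Fin d) F[X])).map φ =
      (-φ (X - C 1)) • (Matrix.scalar (Fin d) y - M.map (φ.comp C)) := by
    ext i j
    simp only [Matrix.map_apply, Matrix.sub_apply, Matrix.smul_apply, Matrix.one_apply, smul_eq_mul, map_sub,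
      map_mul, Matrix.scalar_apply, Matrix.diagonal_apply, RingHom.comp_apply]
    split_ifs
    · have hw' : φ X - 1 ≠ 0 := by simpa using hw
      simp only [y, map_sub, map_mul, map_one, mul_one]
      field_simp
      ring
    · rw [map_zero, mul_zero]
      ring
  have hdl : ((M - Matrix.scalar (Fin d) c').map (C : F →+* F[X])).det = (-1) ^ d * C (M.charpoly.eval c') := by
    rw [← RingHom.mapMatrix_apply, ← RingHom.map_det, ← neg_sub (Matrix.scalar (Fin d) c') M, Matrix.det_neg,
      Fintype.card_fin, ← Matrix.eval_charpoly, map_mul, map_pow, map_neg, map_one]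
  rw [hdl] at hdet
  have h1 := congrArg φ hdet
  rw [RingHom.map_det φ (_ - _), RingHom.mapMatrix_apply, hm, Matrix.det_smul, ← Matrix.eval_charpoly,
    Matrix.charpoly_map, eval_map, eval₂_eq_sum_range, Matrix.charpoly_natDegree_eq_dim, Fintype.card_fin] at h1
  rw [show A'.charpoly = A'.charmatrix.det from rfl, map_mul, cayleyPoly, map_sum]
  have hsum : ∑ i ∈ Finset.range (d + 1), φ (C (M.charpoly.coeff i) * (C c' * X - C c) ^ i * (X - C 1) ^ (d - i)) =
      φ (X - C 1) ^ d * ∑ i ∈ Finset.range (d + 1), (φ.comp C) (M.charpoly.coeff i) * y ^ i := by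
    rw [Finset.mul_sum]
    refine Finset.sum_congr rfl fun i hi => ?_
    rw [Finset.mem_range] at hi
    rw [map_mul, map_mul, map_pow φ, map_pow φ (X - C 1), RingHom.comp_apply, div_pow,
      show φ (X - C 1) ^ d = φ (X - C 1) ^ (d - i) * φ (X - C 1) ^ i by
        rw [← pow_add, Nat.sub_add_cancel (by omega)]]
    field_simp
  rw [hsum]
  rw [map_mul, map_mul, map_pow, map_neg, map_one, neg_pow (φ (X - C 1))] at h1
  refine mul_left_cancel₀ (pow_ne_zero d (neg_ne_zero.2 (one_ne_zero (α := RatFunc F)))) ?_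
  linear_combination h1

end Psi

section Main

universe w

variable {K : Type w} [Field K] [Fintype K] {q : ℕ} (hF : Fintype.card K = q ^ 2)

include hF in
theorem exists_fixed_trace : ∃ z : K, z + Forms.qPowHom hF z = 1 := by
  obtain ⟨s, hs⟩ : ∃ s : K, s + Forms.qPowHom hF s ≠ 0 := by
    by_contra h
    simp only [not_exists, ne_eq, not_not] at h
    refine Forms.qPowHom_ne_id hF (RingHom.ext fun a => ?_)
    have h1 := h 1
    rw [map_one] at h1
    rw [RingHom.id_apply]
    linear_combination h a - a * h1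
  refine ⟨s / (s + Forms.qPowHom hF s), ?_⟩
  rw [map_div₀, map_add, Forms.qPowHom_qPowHom hF, add_comm (Forms.qPowHom hF s), ← add_div, div_self hs]

include hF in
theorem exists_moved : ∃ a : K, Forms.qPowHom hF a ≠ a := by
  by_contra h
  simp only [not_exists, ne_eq, not_not] at h
  exact Forms.qPowHom_ne_id hF (RingHom.ext h)

/-- The standard Hermitian form. -/
noncomputable def hermIForm (n : ℕ) : IForm (Forms.qPowHom hF) (1 : K) (Fin n → K) where
  B x y := Cfsg.hermForm n K q x y
  A := LinearEquiv.refl K _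
  add_left x y z := by simp [Cfsg.hermForm, add_mul, Finset.sum_add_distrib]
  smul_left c x y := by simp [Cfsg.hermForm, Finset.mul_sum, mul_assoc]
  symm x y := by
    simp only [Cfsg.hermForm, map_sum, map_mul, map_pow, Forms.qPowHom_apply, Forms.pow_q_pow_q hF, one_mul]
    exact Finset.sum_congr rfl fun i _ => mul_comm _ _
  nd y h := by
    funext i
    have hi := h (Pi.single i 1)
    simp only [Cfsg.hermForm, Pi.single_apply, ite_mul, one_mul, zero_mul, Finset.sum_ite_eq', Finset.mem_univ,
      if_true] at hi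
    exact pow_eq_zero_iff (by have := Forms.two_le_of_card_sq hF; omega) |>.1 hi
  iso x y := rfl
  inv a := Forms.qPowHom_qPowHom hF a

/-- The linear map of an element of the special unitary group. -/
noncomputable def suLin {n : ℕ} (a : Cfsg.SU n K q) : (Fin n → K) ≃ₗ[K] (Fin n → K) :=
  LinearEquiv.ofLinear (Matrix.toLin' ((a : Matrix.SpecialLinearGroup (Fin n) K) : Matrix (Fin n) (Fin n) K))
    (Matrix.toLin' (((a⁻¹ : Cfsg.SU n K q) : Matrix.SpecialLinearGroup (Fin n) K) : Matrix (Fin n) (Fin n) K))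
    (by rw [← Matrix.toLin'_mul, ← Matrix.SpecialLinearGroup.coe_mul, ← Subgroup.coe_mul, mul_inv_cancel,
      Subgroup.coe_one, Matrix.SpecialLinearGroup.coe_one, Matrix.toLin'_one])
    (by rw [← Matrix.toLin'_mul, ← Matrix.SpecialLinearGroup.coe_mul, ← Subgroup.coe_mul, inv_mul_cancel,
      Subgroup.coe_one, Matrix.SpecialLinearGroup.coe_one, Matrix.toLin'_one])

theorem suLin_mul {n : ℕ} (a b : Cfsg.SU n K q) (x : Fin n → K) : suLin (a * b) x = suLin a (suLin b x) := by
  show (((a * b : Cfsg.SU n K q) : Matrix.SpecialLinearGroup (Fin n) K) : Matrix (Fin n) (Fin n) K) *ᵥ x = _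
  rw [Subgroup.coe_mul, Matrix.SpecialLinearGroup.coe_mul, ← Matrix.mulVec_mulVec]
  rfl

theorem suLin_injective {n : ℕ} : Function.Injective (suLin : Cfsg.SU n K q → _) := fun _ _ h =>
  Subtype.ext (Subtype.ext (Matrix.toLin'.injective (LinearMap.ext fun x => LinearEquiv.congr_fun h x)))

include hF in
theorem exists_suLin {n : ℕ} (e : (Fin n → K) ≃ₗ[K] (Fin n → K))
    (he : ∀ x y, (hermIForm hF n).B (e x) (e y) = (hermIForm hF n).B x y)
    (hd : LinearMap.det e.toLinearMap = 1) : ∃ a : Cfsg.SU n K q, suLin a = e := by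
  refine ⟨⟨⟨LinearMap.toMatrix' e.toLinearMap, by rw [LinearMap.det_toMatrix']; exact hd⟩, ?_⟩,
    LinearEquiv.ext fun x => LinearMap.toMatrix'_mulVec _ x⟩
  intro u v
  show Cfsg.hermForm n K q (LinearMap.toMatrix' e.toLinearMap *ᵥ u) (LinearMap.toMatrix' e.toLinearMap *ᵥ v) = _
  rw [LinearMap.toMatrix'_mulVec, LinearMap.toMatrix'_mulVec]
  exact he u v

/-- The isometry of an element. -/
noncomputable def suForm {n : ℕ} (a : Cfsg.SU n K q) : IForm (Forms.qPowHom hF) (1 : K) (Fin n → K) :=
  { hermIForm hF n with A := suLin a, iso := fun x y => a.2 x y }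

include hF in
theorem isConj_of_det_one {n : ℕ} {a b : Cfsg.SU n K q} (e : (Fin n → K) ≃ₗ[K] (Fin n → K))
    (he : ∀ x y, (hermIForm hF n).B (e x) (e y) = (hermIForm hF n).B x y)
    (hd : LinearMap.det e.toLinearMap = 1) (heA : ∀ x, e (suLin a x) = suLin b (e x)) : IsConj a b := by
  obtain ⟨z, rfl⟩ := exists_suLin hF e he hd
  refine isConj_iff.2 ⟨z, mul_inv_eq_iff_eq_mul.2 (suLin_injective (LinearEquiv.ext fun x => ?_))⟩
  rw [suLin_mul, suLin_mul]
  exact heA x

include hF in
theorem su_upper {n : ℕ} (hn : 2 ≤ n) :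
    100 * Nat.card (ConjClasses (Cfsg.SU n K q)) ≤ 826 * q ^ (n - 1) := by
  obtain ⟨m, rfl⟩ : ∃ m, n = m + 1 := ⟨n - 1, by omega⟩
  have hq := Forms.two_le_of_card_sq hF
  set θ := Forms.qPowHom hF
  have hθ : ∀ x, θ x = x ^ q := Forms.qPowHom_apply hF
  have hθθ : ∀ a, θ (θ a) = a := Forms.qPowHom_qPowHom hF
  have hne := exists_moved hF
  have hz := exists_fixed_trace hF
  letI : Fintype (ConjClasses (Cfsg.SU (m + 1) K q)) := Fintype.ofFinite _
  have hcode : ∀ c : ConjClasses (Cfsg.SU (m + 1) K q), ∃ g ∈ unitCodes θ m,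
      Typed (suForm hF c.out) (blocks g) := by
    intro c
    set a := c.out
    let A : GL (Fin (m + 1)) K := Matrix.SpecialLinearGroup.toGL (a : Matrix.SpecialLinearGroup (Fin (m + 1)) K)
    obtain ⟨g, hg, hk, hd, -⟩ := exists_code A
    have hT : Typed (suForm hF a) (blocks g) := fun p hp hpm k => by
      rw [kdim_blocks, ← hk p hp hpm k]
      rfl
    refine ⟨g, Finset.mem_filter.2 ⟨Finset.mem_filter.2 ⟨hg,
      adm_of_typed hθθ hz (mem_codes.1 hg).1 { V := Fin (m + 1) → K, form := suForm hF a } hT⟩, ?_⟩, hT⟩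
    rw [hd]
    exact (a : Matrix.SpecialLinearGroup (Fin (m + 1)) K).2
  choose code hcode hT using hcode
  have hlink : ∀ c d, code c = code d → ∃ e : (Fin (m + 1) → K) ≃ₗ[K] (Fin (m + 1) → K),
      (∀ x y, (hermIForm hF (m + 1)).B (e x) (e y) = (hermIForm hF (m + 1)).B x y) ∧
      ∀ x, e (suLin c.out x) = suLin d.out (e x) := by
    intro c d h
    obtain ⟨α, i, hcard, L, hL⟩ := exists_label.{w} (η := (1 : K)) hθθ hz _
      (good_blocks (mem_codes.1 (Finset.mem_filter.1 (Finset.mem_filter.1 (hcode c)).1).1).1)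
    rw [weight_unit hne] at hcard
    haveI : Subsingleton α := Fintype.card_le_one_iff_subsingleton.1 hcard
    exact hL { V := Fin (m + 1) → K, form := suForm hF c.out } { V := Fin (m + 1) → K, form := suForm hF d.out }
      (hT c) (h ▸ hT d) (Subsingleton.elim _ _)
  have hbig : ∀ g, (g 0).natDegree ≠ 0 → (Finset.univ.filter fun c => code c = g).card ≤ 1 := by
    intro g hg
    refine Finset.card_le_one.2 fun c hc d hd => ?_
    rw [Finset.mem_filter] at hc hd
    obtain ⟨e, he, heA⟩ := hlink c d (hc.2.trans hd.2.symm)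
    have hdet := (hermIForm hF (m + 1)).det_isometry e he
    obtain ⟨s, hs0, hs⟩ := exists_div_eq hθθ hne
      (ζ := θ (LinearMap.det e.toLinearMap)) (by rw [hθθ, mul_comm]; exact hdet)
    have hone : ∃ x ∈ blocks (code c), x.2 = 1 := by
      obtain ⟨r, hr⟩ := UniqueFactorizationMonoid.exists_mem_normalizedFactors (x := g 0)
        (fun h => hg (by rw [h, natDegree_zero])) (fun h => hg (natDegree_eq_zero_of_isUnit h))
      exact ⟨_, hc.2 ▸ mem_blocks_of_factor g 0 r hr, rfl⟩
    obtain ⟨z, hzB, hzA, hzd⟩ := exists_centraliser_det hθθ hne hz _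
      (good_blocks (mem_codes.1 (Finset.mem_filter.1 (Finset.mem_filter.1 (hcode c)).1).1).1)
      { V := Fin (m + 1) → K, form := suForm hF c.out } (hT c) hone s hs0
    have hconj : IsConj c.out d.out := by
      refine isConj_of_det_one hF (z.trans e) (fun x y => (he _ _).trans (hzB x y)) ?_ fun x => ?_
      · rw [show (z.trans e).toLinearMap = e.toLinearMap ∘ₗ z.toLinearMap from rfl, LinearMap.det_comp, hzd, hs]
        exact hdet
      · show e (z (suLin c.out x)) = suLin d.out (e (z x))
        rw [show z (suLin c.out x) = suLin c.out (z x) from hzA x]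
        exact heA _
    rw [← Quotient.out_eq c, ← Quotient.out_eq d]
    exact ConjClasses.mk_eq_mk_iff_isConj.2 hconj
  have hsmall : ∀ g, (Finset.univ.filter fun c => code c = g).card ≤ q + 1 := by
    intro g
    rcases (Finset.univ.filter fun c => code c = g).eq_empty_or_nonempty with h | ⟨c₀, hc₀⟩
    · rw [h, Finset.card_empty]; exact Nat.zero_le _
    rw [Finset.mem_filter] at hc₀
    have hl : ∀ c : ConjClasses (Cfsg.SU (m + 1) K q), code c = g → _ := fun c hc => hlink c₀ c (hc₀.2.trans hc.symm)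
    choose e he heA using hl
    refine le_trans (Finset.card_le_card_of_injOn
      (fun c => if h : code c = g then LinearMap.det (e c h).toLinearMap else 0)
      (t := (Finset.univ : Finset K).filter fun x => x ^ (q + 1) = 1) ?_ ?_) (card_normOne_le (by omega))
    · intro c hc
      rw [Finset.mem_coe, Finset.mem_filter] at hc
      rw [Finset.mem_coe, Finset.mem_filter]
      simp only [dif_pos hc.2]
      refine ⟨Finset.mem_univ _, ?_⟩
      have := (hermIForm hF (m + 1)).det_isometry _ (he c hc.2)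
      rw [pow_succ', ← hθ]
      exact this
    · intro c hc d hd hcd
      rw [Finset.mem_coe, Finset.mem_filter] at hc hd
      simp only [dif_pos hc.2, dif_pos hd.2] at hcd
      have hconj : IsConj c.out d.out := by
        refine isConj_of_det_one hF ((e c hc.2).symm.trans (e d hd.2)) (fun x y => ?_) ?_ fun x => ?_
        · obtain ⟨u, rfl⟩ := (e c hc.2).surjective x
          obtain ⟨v, rfl⟩ := (e c hc.2).surjective y
          simp only [LinearEquiv.trans_apply, LinearEquiv.symm_apply_apply]
          rw [he d hd.2, he c hc.2]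
        · rw [show ((e c hc.2).symm.trans (e d hd.2)).toLinearMap =
            (e d hd.2).toLinearMap ∘ₗ (e c hc.2).symm.toLinearMap from rfl, LinearMap.det_comp, ← hcd,
            ← LinearMap.det_comp, LinearEquiv.comp_symm, LinearMap.det_id]
        · obtain ⟨y, rfl⟩ := (e c hc.2).surjective x
          show e d hd.2 ((e c hc.2).symm (suLin c.out (e c hc.2 y))) = suLin d.out (e d hd.2 ((e c hc.2).symm (e c hc.2 y)))
          rw [← heA c hc.2, LinearEquiv.symm_apply_apply, LinearEquiv.symm_apply_apply, heA d hd.2]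
      rw [← Quotient.out_eq c, ← Quotient.out_eq d]
      exact ConjClasses.mk_eq_mk_iff_isConj.2 hconj
  set Pbig := (unitCodes θ m).filter fun g => (g 0).natDegree ≠ 0
  set Psmall := (unitCodes θ m).filter fun g => (g 0).natDegree = 0
  have hcount : Nat.card (ConjClasses (Cfsg.SU (m + 1) K q)) ≤ Pbig.card + (q + 1) * Psmall.card := by
    rw [Nat.card_eq_fintype_card, ← Finset.card_univ,
      Finset.card_eq_sum_card_fiberwise (f := code) (t := unitCodes θ m) (fun c _ => hcode c),
      ← Finset.sum_filter_add_sum_filter_not (unitCodes θ m) (fun g => (g 0).natDegree ≠ 0)]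
    refine add_le_add ((Finset.sum_le_card_nsmul _ _ 1 fun g hg => hbig g (Finset.mem_filter.1 hg).2).trans
      (by rw [smul_eq_mul, mul_one])) ?_
    refine (Finset.sum_le_card_nsmul _ _ (q + 1) fun g _ => hsmall g).trans ?_
    rw [smul_eq_mul, mul_comm, Finset.filter_congr fun g _ => not_ne_iff]
  obtain ⟨hA, hB⟩ := card_unitCodes_le hF hq hθ m
  rcases Nat.lt_or_ge m 2 with hm | hm
  · obtain rfl : m = 1 := by omega
    have hB' := card_unitCodes_two (θ := θ)
    have hsum : ∑ t ∈ Finset.range (1 + 1), q ^ t * unitNum q 1 (1 - t) = q := by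
      simp [Finset.sum_range_succ, unitNum_one, srpNum]
    rw [hsum] at hA
    rw [Nat.add_sub_cancel, pow_one]
    have := hcount.trans (add_le_add hA (Nat.mul_le_mul_left _ hB'))
    omega
  · refine le_trans (Nat.mul_le_mul_left _ (hcount.trans (add_le_add hA (Nat.mul_le_mul_left _ hB)))) ?_
    have := unit_count_bound hq (n := m + 1) (by omega)
    rw [Nat.add_sub_cancel] at this ⊢
    exact this

include hF in
theorem su_lower {n : ℕ} (hn : 2 ≤ n) : q ^ (n - 1) ≤ Nat.card (ConjClasses (Cfsg.SU n K q)) := by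
  have hq := Forms.two_le_of_card_sq hF
  set θ := Forms.qPowHom hF
  have hθθ : ∀ a, θ (θ a) = a := Forms.qPowHom_qPowHom hF
  have hne := exists_moved hF
  have hz := exists_fixed_trace hF
  obtain ⟨c, hc⟩ := id hne
  set K₀ : Subfield K := RingHom.eqLocusField θ (RingHom.id K)
  have hmem : ∀ x, x ∈ K₀ ↔ θ x = x := fun x => Iff.rfl
  letI : Fintype K₀ := Fintype.ofFinite _
  have hK₀ : q - 1 ≤ Nat.card K₀ˣ := by
    let N : Kˣ →* Kˣ := powMonoidHom (q + 1)
    have hker : Nat.card N.ker ≤ q + 1 := by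
      rw [Nat.card_eq_fintype_card]
      refine le_trans ?_ (card_normOne_le (F := K) (q := q) (by omega))
      rw [← Finset.card_univ]
      refine Finset.card_le_card_of_injOn (fun x : N.ker => ((x : Kˣ) : K)) (fun x _ => ?_) ?_
      · refine Finset.mem_filter.2 ⟨Finset.mem_univ _, ?_⟩
        have := congrArg Units.val (MonoidHom.mem_ker.1 x.2)
        simpa [N] using this
      · intro x _ y _ h
        exact Subtype.ext (Units.ext h)
    have hmul := N.ker.card_eq_card_quotient_mul_card_subgroup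
    rw [Nat.card_congr (QuotientGroup.quotientKerEquivRange N).toEquiv, Nat.card_units,
      Nat.card_eq_fintype_card (α := K), hF] at hmul
    have hrange : Nat.card N.range ≤ Nat.card K₀ˣ := by
      have hfix : ∀ x : N.range, θ ((x : Kˣ) : K) = ((x : Kˣ) : K) := by
        rintro ⟨_, y, rfl⟩
        show θ (((y : Kˣ) ^ (q + 1) : Kˣ) : K) = (((y : Kˣ) ^ (q + 1) : Kˣ) : K)
        rw [Units.val_pow_eq_pow_val, map_pow, Forms.qPowHom_apply, pow_succ (_ : K) q, pow_succ (_ : K) q,
          Forms.pow_q_pow_q hF, mul_comm]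
      refine Nat.card_le_card_of_injective (fun x => Units.mk0 (⟨((x : Kˣ) : K), hfix x⟩ : K₀)
        (fun h => (x : Kˣ).ne_zero (congrArg Subtype.val h))) ?_
      intro x y h
      exact Subtype.ext (Units.ext (congrArg Subtype.val (congrArg Units.val h)))
    obtain ⟨p, rfl⟩ : ∃ p, q = p + 1 := ⟨q - 1, by omega⟩
    have h1 : (p + 1) ^ 2 - 1 = p * (p + 1 + 1) := by
      rw [show (p + 1) ^ 2 = p * (p + 1 + 1) + 1 by ring, Nat.add_sub_cancel]
    rw [h1] at hmul
    refine le_trans ?_ hrange
    rw [Nat.add_sub_cancel]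
    exact Nat.le_of_mul_le_mul_right (show p * (p + 1 + 1) ≤ Nat.card N.range * (p + 1 + 1) by
      rw [hmul]; exact Nat.mul_le_mul_left _ hker) (Nat.succ_pos _)
  let pp : K₀[X] := X ^ 2 - C ⟨c + θ c, by rw [hmem, map_add, hθθ, add_comm]⟩ * X +
    C ⟨c * θ c, by rw [hmem, map_mul, hθθ, mul_comm]⟩
  have hpp : pp.Monic ∧ pp.natDegree = 2 := by
    constructor
    · show (X ^ 2 - C _ * X + C _ : K₀[X]).Monic
      monicity!
    · show (X ^ 2 - C _ * X + C _ : K₀[X]).natDegree = 2
      compute_degree!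
  let ι := Option (Σ k : Fin (n - 1), K₀ˣ × (Fin k → K₀))
  let poly₀ : ι → K₀[X] := fun i => match i with
    | none => 1
    | some s => C (s.2.1 : K₀) + pp * (X ^ (s.1 : ℕ) + ∑ l : Fin (s.1 : ℕ), C (s.2.2 l) * X ^ (l : ℕ))
  have hmon : ∀ i, (poly₀ i).Monic ∧ (poly₀ i).natDegree ≤ n := by
    rintro (_ | ⟨k, a, h⟩)
    · exact ⟨monic_one, by simp [poly₀]⟩
    · have hlt : (∑ l : Fin (k : ℕ), C (h l) * X ^ (l : ℕ) : K₀[X]).degree < (((k : ℕ) : ℕ) : WithBot ℕ) :=
        degree_sum_fin_lt h
      have hm2 := hpp.1.mul (monic_X_pow_add hlt)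
      have hd : (pp * (X ^ (k : ℕ) + ∑ l : Fin (k : ℕ), C (h l) * X ^ (l : ℕ))).natDegree = 2 + (k : ℕ) := by
        rw [hpp.1.natDegree_mul (monic_X_pow_add hlt), hpp.2]
        congr 1
        refine natDegree_eq_of_degree_eq_some ?_
        rw [degree_add_eq_left_of_degree_lt (by rwa [degree_X_pow]), degree_X_pow]
      have hlt' : (C (a : K₀)).degree < (pp * (X ^ (k : ℕ) + ∑ l : Fin (k : ℕ), C (h l) * X ^ (l : ℕ))).degree := by
        rw [degree_eq_natDegree hm2.ne_zero, hd]
        exact lt_of_le_of_lt degree_C_le (by exact_mod_cast (show 0 < 2 + (k : ℕ) by omega))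
      refine ⟨hm2.add_of_right hlt', ?_⟩
      show (C (a : K₀) + _).natDegree ≤ n
      rw [natDegree_C_add, hd]
      omega
  let poly : ι → K[X] := fun i => (poly₀ i).map K₀.subtype
  have hppc : (pp.map K₀.subtype).eval c = 0 := by
    simp only [pp, Polynomial.map_add, Polynomial.map_sub, Polynomial.map_mul, Polynomial.map_pow, map_X, map_C,
      eval_add, eval_sub, eval_mul, eval_pow, eval_X, eval_C, Subfield.subtype_apply]
    ring
  have hev : ∀ i, (poly i).eval c ≠ 0 ∧ θ ((poly i).eval c) = (poly i).eval c := by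
    rintro (_ | ⟨k, a, h⟩)
    · simp [poly, poly₀]
    · have : (poly (some ⟨k, a, h⟩)).eval c = ((a : K₀) : K) := by
        simp only [poly, poly₀, Polynomial.map_add, Polynomial.map_mul, map_C, eval_add, eval_mul, eval_C, hppc,
          zero_mul, add_zero, Subfield.subtype_apply]
      rw [this]
      exact ⟨fun h0 => a.ne_zero (Subtype.ext h0), (a : K₀).2⟩
  have hpinj : Function.Injective poly₀ := by
    rintro (_ | ⟨k, a, h⟩) (_ | ⟨k', a', h'⟩) he
    · rfl
    · exfalso
      have hd := congrArg natDegree he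
      simp only [poly₀, natDegree_one] at hd
      have hlt : (∑ l : Fin (k' : ℕ), C (h' l) * X ^ (l : ℕ) : K₀[X]).degree < (((k' : ℕ) : ℕ) : WithBot ℕ) :=
        degree_sum_fin_lt h'
      rw [natDegree_C_add, hpp.1.natDegree_mul (monic_X_pow_add hlt), hpp.2] at hd
      omega
    · exfalso
      have hd := congrArg natDegree he
      simp only [poly₀, natDegree_one] at hd
      have hlt : (∑ l : Fin (k : ℕ), C (h l) * X ^ (l : ℕ) : K₀[X]).degree < (((k : ℕ) : ℕ) : WithBot ℕ) :=
        degree_sum_fin_lt h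
      rw [natDegree_C_add, hpp.1.natDegree_mul (monic_X_pow_add hlt), hpp.2] at hd
      omega
    · have ha : a = a' := by
        have := congrArg (fun p : K₀[X] => (p.map K₀.subtype).eval c) he
        simp only [poly₀, Polynomial.map_add, Polynomial.map_mul, map_C, eval_add, eval_mul, eval_C, hppc,
          zero_mul, add_zero, Subfield.subtype_apply] at this
        exact Units.ext (Subtype.ext this)
      subst ha
      simp only [poly₀, add_right_inj] at he
      have he' := mul_left_cancel₀ hpp.1.ne_zero he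
      have hdeg : ∀ (k : ℕ) (h : Fin k → K₀), (X ^ k + ∑ l : Fin k, C (h l) * X ^ (l : ℕ) : K₀[X]).natDegree = k :=
        fun k h => natDegree_eq_of_degree_eq_some (by
          rw [degree_add_eq_left_of_degree_lt (by rw [degree_X_pow]; exact degree_sum_fin_lt h), degree_X_pow])
      obtain rfl : k = k' := Fin.ext (by rw [← hdeg _ h, he', hdeg])
      obtain rfl : h = h' := funext fun l => by
        have := congrArg (fun p => p.coeff (l : ℕ)) he'
        simpa [coeff_X_pow, finsetSum_coeff, l.isLt.ne, Fin.val_inj] using this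
      rfl
  -- the class of each polynomial
  let inv : ConjClasses (Cfsg.SU n K q) → K[X] := fun x => LinearMap.charpoly (suLin x.out).toLinearMap
  have hclass : ∀ i, ∃ x, inv x * C ((poly i).eval (θ c)) = cayleyPoly c (θ c) n (poly i) := by
    intro i
    obtain ⟨hm₀, hdn⟩ := hmon i
    set d := (poly₀ i).natDegree
    obtain ⟨S₀, M₀, hS₀, hS0, hSM, hcp⟩ := exists_selfadjoint hm₀ (rfl : (poly₀ i).natDegree = d)
    set S := S₀.map K₀.subtype
    set M := M₀.map K₀.subtype
    have hθS : S.map θ = S := by ext a b; exact (S₀ a b).2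
    have hθM : M.map θ = M := by ext a b; exact (M₀ a b).2
    have hSt : Sᵀ = S := by
      show (S₀.map K₀.subtype)ᵀ = _
      rw [← Matrix.transpose_map, hS₀]
    have hMS : Mᵀ * S = S * M := by
      show (M₀.map K₀.subtype)ᵀ * S₀.map K₀.subtype = S₀.map K₀.subtype * M₀.map K₀.subtype
      rw [← Matrix.transpose_map, ← Matrix.map_mul, ← Matrix.map_mul, ← hSM, Matrix.transpose_mul, hS₀]
    have hdS : S.det ≠ 0 := by
      show (S₀.map K₀.subtype).det ≠ 0
      rw [← RingHom.mapMatrix_apply, ← RingHom.map_det]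
      exact (_root_.map_ne_zero _).2 hS0
    have hcpM : M.charpoly = poly i := by rw [Matrix.charpoly_map, hcp]
    set U := M - Matrix.scalar (Fin d) c
    set U' := M - Matrix.scalar (Fin d) (θ c)
    obtain ⟨hev0, hevθ⟩ := hev i
    have hev' : (poly i).eval (θ c) = (poly i).eval c := by
      have hmap : (poly i).map θ = poly i := Polynomial.ext fun k => by
        rw [coeff_map]; exact (show (poly i).coeff k ∈ K₀ by rw [coeff_map]; exact ((poly₀ i).coeff k).2)
      conv_lhs => rw [← hmap, eval_map, eval₂_hom]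
      exact hevθ
    have hdU : ∀ t : K, (M - Matrix.scalar (Fin d) t).det = (-1) ^ d * (poly i).eval t := fun t => by
      rw [← neg_sub (Matrix.scalar (Fin d) t) M, Matrix.det_neg, Fintype.card_fin, ← Matrix.eval_charpoly, hcpM]
    have hu : IsUnit U.det := by
      rw [hdU, isUnit_iff_ne_zero]; exact mul_ne_zero (pow_ne_zero _ (neg_ne_zero.2 one_ne_zero)) hev0
    have hu' : IsUnit U'.det := by
      rw [hdU, isUnit_iff_ne_zero, hev']; exact mul_ne_zero (pow_ne_zero _ (neg_ne_zero.2 one_ne_zero)) hev0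
    have hUθ : U.map θ = U' ∧ U'.map θ = U := by
      constructor <;>
        (simp only [U, U', Matrix.map_sub _ (fun a b => map_sub θ a b), hθM, Matrix.scalar_apply,
          Matrix.diagonal_map (map_zero θ), hθθ] <;> rfl)
    have hcomm : U * U' = U' * U :=
      (((Commute.refl M).sub_right (Matrix.scalar_commute _ (fun a => Commute.all _ a) M).symm).sub_left
        ((Matrix.scalar_commute _ (fun a => Commute.all _ a) _))).eq
    set A' := U * U'⁻¹
    have hA'θ : A'.map θ = U' * U⁻¹ := by
      rw [Matrix.map_mul, hUθ.1]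
      congr 1
      refine (Matrix.inv_eq_right_inv ?_).symm
      rw [← hUθ.2, ← Matrix.map_mul, Matrix.mul_nonsing_inv _ hu', Matrix.map_one _ (map_zero θ) (map_one θ)]
    have hUS : ∀ t : K, (M - Matrix.scalar (Fin d) t)ᵀ * S = S * (M - Matrix.scalar (Fin d) t) := fun t => by
      rw [Matrix.transpose_sub, sub_mul, mul_sub, hMS, Matrix.scalar_apply, Matrix.diagonal_transpose,
        ← Matrix.scalar_apply, (Matrix.scalar_commute _ (fun a => Commute.all _ a) S).eq]
    have hA'S : A'ᵀ * S = S * (U'⁻¹ * U) := by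
      have hinv : (U'⁻¹)ᵀ * S = S * U'⁻¹ := by
        have h := hUS (θ c)
        calc (U'⁻¹)ᵀ * S = (U'⁻¹)ᵀ * (S * (U' * U'⁻¹)) := by rw [Matrix.mul_nonsing_inv _ hu', mul_one]
          _ = (U'⁻¹)ᵀ * (U'ᵀ * S) * U'⁻¹ := by rw [h, ← mul_assoc S, ← mul_assoc]
          _ = S * U'⁻¹ := by rw [← mul_assoc _ U'ᵀ, ← Matrix.transpose_mul, Matrix.mul_nonsing_inv _ hu', Matrix.transpose_one, one_mul]
      rw [Matrix.transpose_mul, mul_assoc, hUS, ← mul_assoc, hinv, mul_assoc]
    have hiso : A'ᵀ * S * A'.map θ = S := by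
      rw [hA'S, hA'θ, mul_assoc, mul_assoc U'⁻¹, ← mul_assoc U, hcomm, mul_assoc U',
        Matrix.mul_nonsing_inv _ hu, mul_one, Matrix.nonsing_inv_mul _ hu', mul_one]
    set k := n - d
    let G : Matrix (Fin k ⊕ Fin d) (Fin k ⊕ Fin d) K := Matrix.fromBlocks 1 0 0 S
    let A : Matrix (Fin k ⊕ Fin d) (Fin k ⊕ Fin d) K := Matrix.fromBlocks 1 0 0 A'
    have hG : G.det ≠ 0 := by
      show (Matrix.fromBlocks 1 0 0 S).det ≠ 0
      rwa [Matrix.det_fromBlocks_zero₂₁, Matrix.det_one, one_mul]
    have hGθ : G.map θ = G := by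
      simp [G, Matrix.fromBlocks_map, hθS]
    have hAG : Aᵀ * G * A.map θ = G := by
      simp [A, G, Matrix.fromBlocks_transpose, Matrix.fromBlocks_map, Matrix.fromBlocks_multiply, hiso]
    have hAdet : A.det = 1 := by
      show (Matrix.fromBlocks 1 0 0 A').det = 1
      rw [Matrix.det_fromBlocks_zero₂₁, Matrix.det_one, one_mul, Matrix.det_mul, Matrix.det_nonsing_inv,
        hdU, hdU, hev', Ring.inverse_eq_inv', mul_inv_cancel₀
          (mul_ne_zero (pow_ne_zero _ (neg_ne_zero.2 one_ne_zero)) hev0)]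
    have huA : IsUnit A := (Matrix.isUnit_iff_isUnit_det A).2 (by rw [hAdet]; exact isUnit_one)
    let Tm : IForm θ (1 : K) ((Fin k ⊕ Fin d) → K) :=
      { B := fun x y => x ⬝ᵥ (G *ᵥ (θ ∘ y))
        A := LinearEquiv.ofInjectiveEndo (Matrix.toLin' A) (Matrix.mulVec_injective_iff_isUnit.2 huA)
        add_left := fun x y z => add_dotProduct x y _
        smul_left := fun a x y => smul_dotProduct a x _
        symm := fun x y => by
          rw [one_mul]
          have h1 : θ (y ⬝ᵥ (G *ᵥ (θ ∘ x))) = (θ ∘ y) ⬝ᵥ (G *ᵥ x) := by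
            rw [RingHom.map_dotProduct, show θ ∘ (G *ᵥ (θ ∘ x)) = G.map θ *ᵥ (θ ∘ (θ ∘ x)) from
              funext fun a => RingHom.map_mulVec θ G (θ ∘ x) a, hGθ,
              show θ ∘ (θ ∘ x) = x from funext fun a => hθθ _]
          rw [h1, dotProduct_mulVec (θ ∘ y), dotProduct_comm _ x, ← Matrix.mulVec_transpose,
            show Gᵀ = G by simp [G, Matrix.fromBlocks_transpose, hSt]]
        nd := fun y h => by
          have h1 : θ ∘ y = 0 := Matrix.eq_zero_of_mulVec_eq_zero hG (funext fun a => by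
            have := h (Pi.single a 1)
            rwa [single_dotProduct, one_mul] at this)
          exact funext fun a => (map_eq_zero θ).1 (congrFun h1 a)
        iso := fun x y => by
          show (A *ᵥ x) ⬝ᵥ (G *ᵥ (θ ∘ (A *ᵥ y))) = _
          rw [show θ ∘ (A *ᵥ y) = A.map θ *ᵥ (θ ∘ y) from funext fun a => RingHom.map_mulVec θ A y a]
          conv_rhs => rw [← hAG, ← Matrix.mulVec_mulVec, ← Matrix.mulVec_mulVec]
          rw [dotProduct_comm, dotProduct_mulVec, ← Matrix.mulVec_transpose, dotProduct_comm]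
        inv := hθθ }
    obtain ⟨e, he⟩ := exists_isometry_unit hθθ hne hz Tm (hermIForm hF n)
      (by rw [Module.finrank_fintype_fun_eq_card, Module.finrank_fintype_fun_eq_card, Fintype.card_sum,
        Fintype.card_fin, Fintype.card_fin, Fintype.card_fin]; omega)
    set E := (e.symm.trans Tm.A).trans e
    have hlin : E.toLinearMap = e.conj (Matrix.toLin' A) := LinearMap.ext fun x => rfl
    obtain ⟨a, ha⟩ := exists_suLin hF E (fun x y => by
        simp only [E, LinearEquiv.trans_apply]
        rw [he, Tm.iso, ← he, LinearEquiv.apply_symm_apply, LinearEquiv.apply_symm_apply])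
      (by rw [hlin, LinearEquiv.conj_apply, LinearMap.comp_assoc, LinearMap.det_conj, LinearMap.det_toLin', hAdet])
    refine ⟨ConjClasses.mk a, ?_⟩
    obtain ⟨z, hz'⟩ := isConj_iff.1 (ConjClasses.mk_eq_mk_iff_isConj.1
      (Quotient.out_eq (ConjClasses.mk a) : ConjClasses.mk (ConjClasses.mk a).out = ConjClasses.mk a))
    rw [mul_inv_eq_iff_eq_mul] at hz'
    have hconj : (suLin z).conj (suLin (ConjClasses.mk a).out).toLinearMap = (suLin a).toLinearMap := by
      refine LinearMap.ext fun x => ?_
      obtain ⟨y, rfl⟩ := (suLin z).surjective x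
      rw [LinearEquiv.conj_apply_apply, LinearEquiv.symm_apply_apply]
      show suLin z (suLin _ y) = suLin a (suLin z y)
      rw [← suLin_mul, ← suLin_mul, hz']
    show LinearMap.charpoly _ * _ = _
    rw [← LinearEquiv.charpoly_conj (suLin z), hconj, ha, hlin, LinearEquiv.charpoly_conj, Matrix.charpoly_toLin']
    show (Matrix.fromBlocks 1 0 0 A').charpoly * _ = _
    rw [Matrix.charpoly_fromBlocks_zero₂₁, Matrix.charpoly_one, Fintype.card_fin, mul_assoc, ← hcpM,
      cayley_charpoly M A' c (θ c) (by rw [mul_assoc, Matrix.nonsing_inv_mul _ hu', mul_one]),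
      cayleyPoly, cayleyPoly, Finset.mul_sum]
    rw [← Finset.sum_subset (s₁ := Finset.range (d + 1)) (s₂ := Finset.range (n + 1))
      (Finset.range_subset_range.2 (by omega))]
    · refine Finset.sum_congr rfl fun l hl => ?_
      rw [Finset.mem_range] at hl
      rw [show n - l = k + (d - l) by omega, pow_add, C_1]
      ring
    · intro l hl hl'
      rw [Finset.mem_range] at hl hl'
      rw [coeff_eq_zero_of_natDegree_lt (by rw [Matrix.charpoly_natDegree_eq_dim, Fintype.card_fin]; omega), C_0,
        zero_mul, zero_mul]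
  choose cl hcl using hclass
  have hinj : Function.Injective cl := by
    intro i i' h
    have h1 := hcl i
    have h2 := hcl i'
    rw [← h] at h2
    set α := (poly i).eval (θ c)
    set β := (poly i').eval (θ c)
    have hdn : ∀ j, (poly j).natDegree ≤ n := fun j => natDegree_map_le.trans (hmon j).2
    have hz0 : ∀ l ≤ n, β * (poly i).coeff l - α * (poly i').coeff l = 0 := by
      refine cayley_zero (sub_ne_zero.2 hc) n _ ?_
      have e : cayleyPoly c (θ c) n (poly i) * C β - cayleyPoly c (θ c) n (poly i') * C α = 0 := by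
        rw [← h1, ← h2]; ring
      rw [← e, cayleyPoly, cayleyPoly, Finset.sum_mul, Finset.sum_mul, ← Finset.sum_sub_distrib]
      refine Finset.sum_congr rfl fun l _ => ?_
      rw [C_sub, C_mul, C_mul]
      ring
    have hne0 : ∀ j, (poly j).eval (θ c) ≠ 0 := fun j => by
      intro h0
      have hmap : (poly j).map θ = poly j := Polynomial.ext fun k => by
        rw [coeff_map]; exact (show (poly j).coeff k ∈ K₀ by rw [coeff_map]; exact ((poly₀ j).coeff k).2)
      rw [← hmap, eval_map, eval₂_hom, map_eq_zero] at h0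
      exact (hev j).1 h0
    have heq : C β * poly i = C α * poly i' := by
      ext l
      rw [coeff_C_mul, coeff_C_mul]
      rcases le_or_gt l n with hl | hl
      · exact sub_eq_zero.1 (hz0 l hl)
      · rw [coeff_eq_zero_of_natDegree_lt ((hdn i).trans_lt hl), coeff_eq_zero_of_natDegree_lt ((hdn i').trans_lt hl)]
        ring
    have hab : β = α := by
      have := congrArg leadingCoeff heq
      rwa [leadingCoeff_mul, leadingCoeff_mul, leadingCoeff_C, leadingCoeff_C, ((hmon i).1.map _).leadingCoeff,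
        ((hmon i').1.map _).leadingCoeff, mul_one, mul_one] at this
    rw [hab] at heq
    exact hpinj (Polynomial.map_injective _ K₀.subtype.injective
      (mul_left_cancel₀ (C_ne_zero.2 (hne0 i)) heq))
  refine le_trans ?_ (Nat.card_le_card_of_injective cl hinj)
  have hq0 : q ≤ Fintype.card K₀ := by
    rw [Nat.card_units, Nat.card_eq_fintype_card] at hK₀
    have := Fintype.card_pos (α := K₀)
    omega
  rw [Nat.card_eq_fintype_card, Fintype.card_option, Fintype.card_sigma]
  have hgeo : ∀ N : ℕ, (∑ k ∈ Finset.range N, (q - 1) * q ^ k) + 1 = q ^ N := by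
    intro N
    induction N with
    | zero => simp
    | succ N ih =>
      rw [Finset.sum_range_succ, add_right_comm, ih, pow_succ']
      obtain ⟨r, rfl⟩ : ∃ r, q = r + 1 := ⟨q - 1, by omega⟩
      rw [Nat.add_sub_cancel]
      ring
  rw [← hgeo, ← Fin.sum_univ_eq_sum_range (fun k => (q - 1) * q ^ k)]
  refine Nat.add_le_add_right (Finset.sum_le_sum fun k _ => ?_) 1
  rw [Fintype.card_prod, Fintype.card_fun, Fintype.card_fin, ← Nat.card_eq_fintype_card (α := K₀ˣ)]
  exact Nat.mul_le_mul hK₀ (Nat.pow_le_pow_left hq0 _)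

end Main

end Cfsg.Agent.Lib.ClassNumber
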